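import Mathlib

/-!
The arithmetic of the five columns and the extra column.
-/

set_option autoImplicit false

namespace CfsgLib.PiClosedTwo

/-- Five triples meeting pairwise in two points share a pair. -/
theorem sunflower {I : Type*} [DecidableEq I] (T : Fin 5 → Finset I) (h3 : ∀ j, (T j).card = 3)
    (h2 : ∀ j k, j ≠ k → (T j ∩ T k).card = 2) : ∀ j, T 0 ∩ T 1 ⊆ T j := by
  intro k
  by_contra hk
  set P := T 0 ∩ T 1
  set U := T 0 ∪ T 1
  have hP : P.card = 2 := h2 0 1 (by decide)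
  have hU : U.card = 4 := by
    have := Finset.card_union_add_card_inter (T 0) (T 1)
    rw [h3, h3] at this
    show (T 0 ∪ T 1).card = 4
    have e : (T 0 ∩ T 1).card = 2 := h2 0 1 (by decide)
    omega
  have hk0 : k ≠ 0 := fun e => hk (e ▸ Finset.inter_subset_left)
  have hk1 : k ≠ 1 := fun e => hk (e ▸ Finset.inter_subset_right)
  have hPk : (T k ∩ P).card ≤ 1 := by
    by_contra hc
    refine hk ?_
    have : T k ∩ P = P := Finset.eq_of_subset_of_card_le Finset.inter_subset_right (by omega)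
    exact this ▸ Finset.inter_subset_left
  have hsubU : ∀ j, ¬ P ⊆ T j → T j ⊆ U := by
    intro j hj
    have hj0 : j ≠ 0 := fun e => hj (e ▸ Finset.inter_subset_left)
    have hj1 : j ≠ 1 := fun e => hj (e ▸ Finset.inter_subset_right)
    have hle : (T j ∩ P).card ≤ 1 := by
      by_contra hc
      refine hj ?_
      have : T j ∩ P = P := Finset.eq_of_subset_of_card_le Finset.inter_subset_right (by omega)
      exact this ▸ Finset.inter_subset_left
    have e1 := Finset.card_union_add_card_inter (T j ∩ T 0) (T j ∩ T 1)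
    have e2 : (T j ∩ T 0) ∩ (T j ∩ T 1) = T j ∩ P := by
      ext x; simp [P]; tauto
    have e3 : (T j ∩ T 0) ∪ (T j ∩ T 1) = T j ∩ U := by
      ext x; simp [U]; tauto
    rw [e2, e3, h2 j 0 hj0, h2 j 1 hj1] at e1
    have : T j ∩ U = T j := Finset.eq_of_subset_of_card_le Finset.inter_subset_left (by rw [h3]; omega)
    exact this ▸ Finset.inter_subset_right
  have hall : ∀ j, T j ⊆ U := by
    intro j
    by_cases hj : P ⊆ T j
    · by_cases hj0 : j = 0
      · exact hj0 ▸ Finset.subset_union_left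
      by_cases hj1 : j = 1
      · exact hj1 ▸ Finset.subset_union_right
      intro x hx
      by_contra hxU
      have hjk : j ≠ k := fun e => hk (e ▸ hj)
      have hsub : insert x P ⊆ T j := Finset.insert_subset hx hj
      have hxP : x ∉ P := fun h => hxU (Finset.mem_union_left _ (Finset.mem_inter.1 h).1)
      have heq : insert x P = T j := Finset.eq_of_subset_of_card_le hsub (by
        rw [h3, Finset.card_insert_of_notMem hxP, hP])
      have hle : T j ∩ T k ⊆ T k ∩ P := by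
        intro y hy
        obtain ⟨hy1, hy2⟩ := Finset.mem_inter.1 hy
        rw [← heq, Finset.mem_insert] at hy1
        rcases hy1 with rfl | hy1
        · exact absurd (hsubU k hk hy2) hxU
        · exact Finset.mem_inter.2 ⟨hy2, hy1⟩
      have := Finset.card_le_card hle
      rw [h2 j k hjk] at this
      omega
    · exact hsubU j hj
  have hinj : Set.InjOn T (Finset.univ : Finset (Fin 5)) := by
    intro i _ j _ e
    by_contra hne
    have := h2 i j hne
    rw [e, Finset.inter_self, h3] at this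
    omega
  have := Finset.card_le_card_of_injOn (t := U.powersetCard 3) T
    (fun j _ => Finset.mem_powersetCard.2 ⟨hall j, h3 j⟩) hinj
  rw [Finset.card_univ, Fintype.card_fin, Finset.card_powersetCard, hU] at this
  norm_num [Nat.choose] at this

/-- The columns. -/
structure Cols (I : Type*) [Fintype I] where
  a : Fin 5 → I → ℤ
  b : I → ℤ
  D : I → ℕ
  t : I → ℤ
  e : I
  ae : ∀ j, a j e = -1
  be : b e = 0
  De : D e = 1
  Dpos : ∀ i, 0 < D i
  D1 : ∀ i, D i = 1 → i = e
  haa : ∀ j, ∑ i, a j i * a j i = 4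
  hak : ∀ j k, j ≠ k → ∑ i, a j i * a k i = 3
  hab0 : ∑ i, a 0 i * b i = -4
  hab : ∀ j, j ≠ 0 → ∑ i, a j i * b i = 0
  hbb : ∑ i, b i * b i = 17
  deg : ∀ j, ∑ i, a j i * (D i : ℤ) = 0
  val : ∀ i j, a j i ≠ 0 → t i = 3 * (∑ k, a k i) - 4 * b i - 16 * a 0 i ∧
    (64 : ℤ) ∣ (D i : ℤ) - (3 * (∑ k, a k i) + 12 * b i + 48 * a 0 i)
  sq : ∑ i, (a 0 i : ℚ) * (t i : ℚ) ^ 2 / (D i : ℚ) = 0

namespace Cols

variable {I : Type*} [Fintype I]

theorem false (C : Cols I) : False := by
  classical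
  set s : Finset I := Finset.univ.erase C.e
  have hsplit : ∀ f : I → ℤ, ∑ i, f i = f C.e + ∑ i ∈ s, f i := fun f =>
    (Finset.add_sum_erase _ f (Finset.mem_univ _)).symm
  have hsq3 : ∀ j, ∑ i ∈ s, C.a j i * C.a j i = 3 := fun j => by
    have h := C.haa j
    rw [hsplit, C.ae] at h
    linarith
  have hin2 : ∀ j k, j ≠ k → ∑ i ∈ s, C.a j i * C.a k i = 2 := fun j k hne => by
    have h := C.hak j k hne
    rw [hsplit, C.ae, C.ae] at h
    linarith
  have hone : ∀ j, ∀ i ∈ s, C.a j i = 0 ∨ C.a j i = 1 ∨ C.a j i = -1 := by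
    intro j i hi
    have h := Finset.single_le_sum (f := fun k => C.a j k * C.a j k) (fun k _ => mul_self_nonneg _) hi
    rw [hsq3] at h
    have h1 : -2 < C.a j i := by
      by_contra hc; push Not at hc; nlinarith
    have h2 : C.a j i < 2 := by
      by_contra hc; push Not at hc; nlinarith
    omega
  set T : Fin 5 → Finset I := fun j => s.filter fun i => C.a j i ≠ 0
  have hT3 : ∀ j, (T j).card = 3 := fun j => by
    have h := hsq3 j
    rw [Finset.sum_congr rfl fun i hi => show C.a j i * C.a j i = if C.a j i ≠ 0 then 1 else 0 by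
      rcases hone j i hi with e | e | e <;> simp [e], Finset.sum_boole] at h
    exact_mod_cast h
  have hT2 : ∀ j k, j ≠ k → (T j ∩ T k).card = 2 ∧ ∀ i ∈ T j ∩ T k, C.a j i = C.a k i := by
    intro j k hne
    have h := hin2 j k hne
    have hz : ∑ i ∈ T j ∩ T k, C.a j i * C.a k i = 2 := by
      rw [← h]
      refine Finset.sum_subset (fun i hi => (Finset.mem_filter.1 (Finset.mem_inter.1 hi).1).1) fun i hi hni => ?_
      simp only [T, Finset.mem_inter, Finset.mem_filter, hi, true_and, not_and_or, not_not] at hni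
      rcases hni with e | e <;> rw [e] <;> simp
    have hle : (T j ∩ T k).card ≤ 3 := (Finset.card_le_card Finset.inter_subset_left).trans (hT3 j).le
    have hp : ∀ i ∈ T j ∩ T k, C.a j i * C.a k i = 1 ∨ C.a j i * C.a k i = -1 := by
      intro i hi
      obtain ⟨hi1, hi2⟩ := Finset.mem_inter.1 hi
      obtain ⟨hs, hj⟩ := Finset.mem_filter.1 hi1
      obtain ⟨-, hk⟩ := Finset.mem_filter.1 hi2
      rcases hone j i hs with e | e | e <;> rcases hone k i hs with e' | e' | e' <;>
        first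
          | exact absurd e hj
          | exact absurd e' hk
          | simp [e, e']
    have hge : ((T j ∩ T k).card : ℤ) ≥ 2 := by
      rw [← hz, Finset.card_eq_sum_ones, Nat.cast_sum]
      refine Finset.sum_le_sum fun i hi => ?_
      rcases hp i hi with e | e <;> rw [e] <;> norm_num
    have h2 : (T j ∩ T k).card = 2 := by
      have hge' : 2 ≤ (T j ∩ T k).card := by exact_mod_cast hge
      by_contra hc
      obtain ⟨x, y, z, hxy, hxz, hyz, e⟩ := Finset.card_eq_three.1 (show (T j ∩ T k).card = 3 by omega)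
      rw [e, Finset.sum_insert (by simp [hxy, hxz]), Finset.sum_insert (by simp [hyz]), Finset.sum_singleton] at hz
      rcases hp x (by simp [e]) with a1 | a1 <;> rcases hp y (by simp [e]) with a2 | a2 <;>
        rcases hp z (by simp [e]) with a3 | a3 <;> omega
    refine ⟨h2, fun i hi => ?_⟩
    obtain ⟨x, y, hxy, e⟩ := Finset.card_eq_two.1 h2
    rw [e, Finset.sum_pair hxy] at hz
    have hi1 : C.a j i * C.a k i = 1 := by
      rw [e, Finset.mem_insert, Finset.mem_singleton] at hi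
      rcases hp x (by simp [e]) with a1 | a1 <;> rcases hp y (by simp [e]) with a2 | a2 <;>
        rcases hi with rfl | rfl <;> omega
    obtain ⟨hs, -⟩ := Finset.mem_filter.1 (Finset.mem_inter.1 hi).1
    rcases hone j i hs with e1 | e1 | e1 <;> rw [e1] at hi1 ⊢ <;> omega
  have hsun := sunflower T hT3 fun j k hne => (hT2 j k hne).1
  set P := T 0 ∩ T 1
  have hP : P.card = 2 := (hT2 0 1 (by decide)).1
  obtain ⟨A, B, hAB, hPAB⟩ := Finset.card_eq_two.1 hP
  have hA : ∀ j, A ∈ T j := fun j => hsun j (hPAB ▸ Finset.mem_insert_self A {B})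
  have hB : ∀ j, B ∈ T j := fun j => hsun j (hPAB ▸ Finset.mem_insert_of_mem (Finset.mem_singleton_self B))
  have hX : ∀ j, ∃ x, T j \ P = {x} := fun j => Finset.card_eq_one.1 (by
    rw [Finset.card_sdiff_of_subset (hsun j), hT3, hP])
  choose X hX using hX
  have hXmem : ∀ j, X j ∈ T j ∧ X j ∉ P := fun j => Finset.mem_sdiff.1 (hX j ▸ Finset.mem_singleton_self (X j))
  have hXA : ∀ j, X j ≠ A := fun j e => (hXmem j).2 (by rw [e, hPAB]; simp)
  have hXB : ∀ j, X j ≠ B := fun j e => (hXmem j).2 (by rw [e, hPAB]; simp)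
  have hTeq : ∀ j, T j = {A, B, X j} := fun j => by
    rw [← Finset.sdiff_union_of_subset (hsun j), hX, hPAB]
    ext x
    simp only [Finset.mem_union, Finset.mem_insert, Finset.mem_singleton]
    tauto
  have hXinj : ∀ j k, j ≠ k → X j ≠ X k := fun j k hne e => by
    have h := (hT2 j k hne).1
    rw [hTeq j, hTeq k, e, Finset.inter_self] at h
    rw [Finset.card_insert_of_notMem (by simp [hAB, (hXA k).symm]),
      Finset.card_insert_of_notMem (by simp [(hXB k).symm]), Finset.card_singleton] at h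
    omega
  have hns : ∀ j, ∀ i ∈ T j, i ≠ C.e := fun j i hi =>
    Finset.ne_of_mem_erase (Finset.mem_filter.1 hi).1
  have hsum : ∀ (j : Fin 5) (f : I → ℤ),
      ∑ i, C.a j i * f i = - f C.e + C.a j A * f A + C.a j B * f B + C.a j (X j) * f (X j) := by
    intro j f
    rw [hsplit, C.ae, ← Finset.sum_subset (s₁ := T j) (Finset.filter_subset _ s) (fun i hi hni => by
      simp only [T, Finset.mem_filter, hi, true_and, not_not] at hni
      rw [hni, zero_mul]), hTeq j, Finset.sum_insert (by simp [hAB, (hXA j).symm]),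
      Finset.sum_insert (by simp [(hXB j).symm]), Finset.sum_singleton]
    ring
  have hpm : ∀ j, ∀ i ∈ T j, C.a j i = 1 ∨ C.a j i = -1 := fun j i hi => by
    obtain ⟨hs, hne⟩ := Finset.mem_filter.1 hi
    rcases hone j i hs with e | e | e
    exacts [absurd e hne, Or.inl e, Or.inr e]
  obtain ⟨ε1, hA0⟩ : ∃ z, C.a 0 A = z := ⟨_, rfl⟩
  obtain ⟨ε2, hB0⟩ : ∃ z, C.a 0 B = z := ⟨_, rfl⟩
  obtain ⟨ε, hX0⟩ : ∃ z, C.a 0 (X 0) = z := ⟨_, rfl⟩
  have hε1 : ε1 = 1 ∨ ε1 = -1 := hA0 ▸ hpm 0 A (hA 0)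
  have hε2 : ε2 = 1 ∨ ε2 = -1 := hB0 ▸ hpm 0 B (hB 0)
  have hε : ε = 1 ∨ ε = -1 := hX0 ▸ hpm 0 _ (hXmem 0).1
  have hAj : ∀ j, C.a j A = ε1 := fun j => by
    by_cases h : j = 0
    · rw [h, hA0]
    · exact ((hT2 j 0 h).2 A (Finset.mem_inter.2 ⟨hA j, hA 0⟩)).trans hA0
  have hBj : ∀ j, C.a j B = ε2 := fun j => by
    by_cases h : j = 0
    · rw [h, hB0]
    · exact ((hT2 j 0 h).2 B (Finset.mem_inter.2 ⟨hB j, hB 0⟩)).trans hB0
  have hsame : ∀ j, C.a j (X j) = ε ∧ C.D (X j) = C.D (X 0) := by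
    intro j
    have h0 := C.deg 0
    have hj := C.deg j
    rw [hsum, hAj, hBj, hX0] at h0
    rw [hsum, hAj, hBj] at hj
    have key : C.a j (X j) * (C.D (X j) : ℤ) = ε * (C.D (X 0) : ℤ) := by linarith
    have p0 := C.Dpos (X 0)
    have pj := C.Dpos (X j)
    rcases hpm j _ (hXmem j).1 with e | e <;> rcases hε with e' | e' <;> rw [e, e'] at key <;>
      rw [e, e'] <;> omega
  set u := ε1 * C.b A
  set v := ε2 * C.b B
  set c := -(u + v)
  have hb0 : ε * C.b (X 0) = c - 4 := by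
    have h := C.hab0
    rw [hsum, C.be, hAj, hBj, hX0] at h
    simp only [c, u, v]
    linarith
  have hbj : ∀ j, j ≠ 0 → ε * C.b (X j) = c := fun j hj => by
    have h := C.hab j hj
    rw [hsum, C.be, hAj, hBj, (hsame j).1] at h
    simp only [c, u, v]
    linarith
  have hsq1 : ∀ (z : ℤ) (k : ℤ), (z = 1 ∨ z = -1) → (z * k) ^ 2 = k * k := by
    intro z k hz
    rcases hz with rfl | rfl <;> ring
  have hbound : u ^ 2 + v ^ 2 + (c - 4) ^ 2 + 4 * c ^ 2 ≤ 17 := by
    have hle := Finset.sum_le_sum_of_subset_of_nonneg (f := fun i => C.b i * C.b i)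
      (Finset.subset_univ ({A, B, X 0, X 1, X 2, X 3, X 4} : Finset I)) (fun i _ _ => mul_self_nonneg _)
    rw [C.hbb, Finset.sum_insert (by simp [hAB, (hXA _).symm]), Finset.sum_insert (by simp [(hXB _).symm]),
      Finset.sum_insert (by simp [hXinj 0 1 (by decide), hXinj 0 2 (by decide), hXinj 0 3 (by decide), hXinj 0 4 (by decide)]),
      Finset.sum_insert (by simp [hXinj 1 2 (by decide), hXinj 1 3 (by decide), hXinj 1 4 (by decide)]),
      Finset.sum_insert (by simp [hXinj 2 3 (by decide), hXinj 2 4 (by decide)]),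
      Finset.sum_insert (by simp [hXinj 3 4 (by decide)]), Finset.sum_singleton] at hle
    rw [← hsq1 ε1 (C.b A) hε1, ← hsq1 ε2 (C.b B) hε2, ← hsq1 ε (C.b (X 0)) hε, ← hsq1 ε (C.b (X 1)) hε,
      ← hsq1 ε (C.b (X 2)) hε, ← hsq1 ε (C.b (X 3)) hε, ← hsq1 ε (C.b (X 4)) hε, hb0, hbj 1 (by decide),
      hbj 2 (by decide), hbj 3 (by decide), hbj 4 (by decide)] at hle
    linarith
  have hcases : (u = 0 ∧ v = 0) ∨ (u = -1 ∧ v = 0) ∨ (u = 0 ∧ v = -1) := by
    have hu1 : -3 ≤ u := by nlinarith [sq_nonneg v, sq_nonneg (c - 4), sq_nonneg c, sq_nonneg (u + 3)]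
    have hu2 : u ≤ 3 := by nlinarith [sq_nonneg v, sq_nonneg (c - 4), sq_nonneg c, sq_nonneg (u - 3)]
    have hv1 : -3 ≤ v := by nlinarith [sq_nonneg u, sq_nonneg (c - 4), sq_nonneg c, sq_nonneg (v + 3)]
    have hv2 : v ≤ 3 := by nlinarith [sq_nonneg u, sq_nonneg (c - 4), sq_nonneg c, sq_nonneg (v - 3)]
    simp only [c] at hbound
    interval_cases u <;> interval_cases v <;> first | omega | norm_num at hbound
  -- the values of the three characters
  have sumAll : ∀ i, (∀ k, i ∈ T k) → ∀ z, (∀ k, C.a k i = z) → ∑ k, C.a k i = 5 * z := fun i _ z hz => by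
    rw [Finset.sum_congr rfl fun k _ => hz k, Finset.sum_const, Finset.card_univ, Fintype.card_fin, nsmul_eq_mul]
    norm_num
  have sumX : ∑ k, C.a k (X 0) = ε := by
    rw [← hX0]
    refine Finset.sum_eq_single_of_mem 0 (Finset.mem_univ _) fun k _ hk => ?_
    by_contra hne
    have hmem : X 0 ∈ T k := Finset.mem_filter.2 ⟨(Finset.mem_filter.1 (hXmem 0).1).1, hne⟩
    rw [hTeq k] at hmem
    simp [hXA 0, hXB 0, hXinj 0 k (Ne.symm hk)] at hmem
  obtain ⟨tX, dX⟩ := C.val (X 0) 0 (Finset.mem_filter.1 (hXmem 0).1).2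
  obtain ⟨tA, dA⟩ := C.val A 0 (Finset.mem_filter.1 (hA 0)).2
  obtain ⟨tB, dB⟩ := C.val B 0 (Finset.mem_filter.1 (hB 0)).2
  obtain ⟨te, -⟩ := C.val C.e 0 (by rw [C.ae]; norm_num)
  rw [sumX, hX0] at tX dX
  rw [sumAll A hA ε1 hAj, hA0] at tA dA
  rw [sumAll B hB ε2 hBj, hB0] at tB dB
  have hte : C.t C.e = 1 := by
    rw [te, C.be, C.ae, Finset.sum_congr rfl fun k _ => C.ae k, Finset.sum_const, Finset.card_univ, Fintype.card_fin]
    norm_num
  have hbA : C.b A = ε1 * u := by simp only [u]; rcases hε1 with e | e <;> rw [e] <;> ring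
  have hbB : C.b B = ε2 * v := by simp only [v]; rcases hε2 with e | e <;> rw [e] <;> ring
  have hbX : C.b (X 0) = ε * (c - 4) := by rw [← hb0]; rcases hε with e | e <;> rw [e] <;> ring
  rw [hbA] at tA dA
  rw [hbB] at tB dB
  rw [hbX] at tX dX
  -- the equation
  have hq := C.sq
  have hz : ∀ i, i ∉ ({C.e, A, B, X 0} : Finset I) → (C.a 0 i : ℚ) * (C.t i : ℚ) ^ 2 / (C.D i : ℚ) = 0 := by
    intro i hi
    simp only [Finset.mem_insert, Finset.mem_singleton, not_or] at hi
    have : C.a 0 i = 0 := by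
      by_contra hne
      have hmem : i ∈ T 0 := Finset.mem_filter.2 ⟨Finset.mem_erase.2 ⟨hi.1, Finset.mem_univ i⟩, hne⟩
      rw [hTeq 0] at hmem
      simp [hi.2.1, hi.2.2.1, hi.2.2.2] at hmem
    rw [this]; simp
  rw [← Finset.sum_subset (Finset.subset_univ ({C.e, A, B, X 0} : Finset I)) (fun i _ hi => hz i hi),
    Finset.sum_insert (by simp [(hns 0 A (hA 0)).symm, (hns 0 B (hB 0)).symm, (hns 0 _ (hXmem 0).1).symm]),
    Finset.sum_insert (by simp [hAB, (hXA 0).symm]), Finset.sum_insert (by simp [(hXB 0).symm]),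
    Finset.sum_singleton, C.ae, C.De, hte] at hq
  have A1 : C.D A ≠ 1 := fun e => hns 0 A (hA 0) (C.D1 A e)
  have B1 : C.D B ≠ 1 := fun e => hns 0 B (hB 0) (C.D1 B e)
  have X1 : C.D (X 0) ≠ 1 := fun e => hns 0 _ (hXmem 0).1 (C.D1 _ e)
  have pA := C.Dpos A
  have pB := C.Dpos B
  have pX := C.Dpos (X 0)
  have term : ∀ (i : I) (m : ℕ) (K : ℕ), (C.a 0 i = 1 ∨ C.a 0 i = -1) → (C.t i) ^ 2 = (K : ℤ) → 0 < m →
      m ≤ C.D i → |(C.a 0 i : ℚ) * (C.t i : ℚ) ^ 2 / (C.D i : ℚ)| ≤ (K : ℚ) / m := by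
    intro i m K hi hK hm hle
    have hK' : (C.t i : ℚ) ^ 2 = (K : ℚ) := by exact_mod_cast hK
    rw [hK', abs_div, abs_mul]
    have hm' : (0 : ℚ) < m := by exact_mod_cast hm
    rw [show |(C.a 0 i : ℚ)| = 1 by rcases hi with e | e <;> rw [e] <;> norm_num, one_mul,
      abs_of_nonneg (Nat.cast_nonneg K), abs_of_nonneg (Nat.cast_nonneg (C.D i))]
    exact div_le_div_of_nonneg_left (Nat.cast_nonneg K) hm' (by exact_mod_cast hle)
  have eX : C.t (X 0) = ε * (3 - 4 * c) := by rw [tX]; ring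
  have eA : C.t A = ε1 * (-1 - 4 * u) := by rw [tA]; ring
  have eB : C.t B = ε2 * (15 - 4 * v - 16) := by rw [tB]; ring
  have sX := hsq1 ε (3 - 4 * c) hε
  have sA := hsq1 ε1 (-1 - 4 * u) hε1
  have sB := hsq1 ε2 (15 - 4 * v - 16) hε2
  rw [← eX] at sX
  rw [← eA] at sA
  rw [← eB] at sB
  rcases hcases with ⟨hu, hv⟩ | ⟨hu, hv⟩ | ⟨hu, hv⟩ <;>
    simp only [c, hu, hv] at tX dX tA dA tB dB sX sA sB <;>
    norm_num at tX dX tA dA tB dB
  · have hA63 : 63 ≤ C.D A := by rcases hε1 with e | e <;> rw [e] at dA <;> omega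
    have hB63 : 63 ≤ C.D B := by rcases hε2 with e | e <;> rw [e] at dB <;> omega
    have bA := abs_le.1 (term A 63 1 (hpm 0 _ (hA 0)) (by rw [sA]; norm_num) (by norm_num) hA63)
    have bB := abs_le.1 (term B 63 1 (hpm 0 _ (hB 0)) (by rw [sB]; norm_num) (by norm_num) hB63)
    norm_num at bA bB
    by_cases hd : C.D (X 0) = 3
    · have hs0 : C.t (X 0) ^ 2 = 9 := by rw [sX]; norm_num
      have hs : (C.t (X 0) : ℚ) ^ 2 = 9 := by exact_mod_cast hs0
      rw [hd, hs] at hq
      rcases hε with e | e <;> rw [hX0, e] at hq <;> norm_num at hq <;> linarith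
    · have hd61 : 61 ≤ C.D (X 0) := by rcases hε with e | e <;> rw [e] at dX <;> omega
      have bX := abs_le.1 (term (X 0) 61 9 (hpm 0 _ (hXmem 0).1) (by rw [sX]; norm_num) (by norm_num) hd61)
      norm_num at bX hq
      linarith
  · have hA13 : 13 ≤ C.D A := by rcases hε1 with e | e <;> rw [e] at dA <;> omega
    have hB63 : 63 ≤ C.D B := by rcases hε2 with e | e <;> rw [e] at dB <;> omega
    have hd15 : 15 ≤ C.D (X 0) := by rcases hε with e | e <;> rw [e] at dX <;> omega
    have bA := abs_le.1 (term A 13 9 (hpm 0 _ (hA 0)) (by rw [sA]; norm_num) (by norm_num) hA13)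
    have bB := abs_le.1 (term B 63 1 (hpm 0 _ (hB 0)) (by rw [sB]; norm_num) (by norm_num) hB63)
    have bX := abs_le.1 (term (X 0) 15 1 (hpm 0 _ (hXmem 0).1) (by rw [sX]; norm_num) (by norm_num) hd15)
    norm_num at bA bB bX hq
    linarith
  · have hA63 : 63 ≤ C.D A := by rcases hε1 with e | e <;> rw [e] at dA <;> omega
    have hB13 : 13 ≤ C.D B := by rcases hε2 with e | e <;> rw [e] at dB <;> omega
    have hd15 : 15 ≤ C.D (X 0) := by rcases hε with e | e <;> rw [e] at dX <;> omega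
    have bA := abs_le.1 (term A 63 1 (hpm 0 _ (hA 0)) (by rw [sA]; norm_num) (by norm_num) hA63)
    have bB := abs_le.1 (term B 13 9 (hpm 0 _ (hB 0)) (by rw [sB]; norm_num) (by norm_num) hB13)
    have bX := abs_le.1 (term (X 0) 15 1 (hpm 0 _ (hXmem 0).1) (by rw [sX]; norm_num) (by norm_num) hd15)
    norm_num at bA bB bX hq
    linarith

end Cols

end CfsgLib.PiClosedTwo
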