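import Cfsg.Agent.Lib.PiClosedTwo.RankTwo
import Cfsg.Agent.Lib.SL2Char.Tori
import Cfsg.Agent.Lib.SLCard
import Cfsg.Agent.Lib.SuzukiTwo.UnitarySixty
import Cfsg.Agent.S0516
import Cfsg.Agent.S0483

/-!
The Sylow `2`-subgroups of a minimal counterexample are of type `U₃(4)`.
-/

set_option autoImplicit false
set_option linter.unusedSectionVars false
set_option linter.style.haveILetI false

namespace CfsgLib.PiClosedTwo

open Subgroup Cfsg CfsgLib.HallE8 CfsgLib.ZCReduction
open scoped commutatorElement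

universe u

variable {G : Type u} [Group G] [Finite G] {π : Set ℕ} {S : Sylow 2 G} {a b : G}

theorem isPiNum_of_prime {π : Set ℕ} {p : ℕ} (hp : p.Prime) (hpπ : p ∈ π) : IsPiNum π p := fun q hq hd => by
  rwa [(Nat.prime_dvd_prime_iff_eq hq hp).mp hd]

theorem sixty_of_equiv {W : Type*} {W' : Type*} [Group W] [Group W'] (h : CfsgLib.SuzukiTwo.Sixty W)
    (e : W ≃* W') : CfsgLib.SuzukiTwo.Sixty W' := by
  have hiff : ∀ x, x ∈ center W' ↔ e.symm x ∈ center W := fun x => by
    refine ⟨fun hx => mem_center_iff.mpr fun w => e.injective ?_, fun hx => mem_center_iff.mpr fun w => e.symm.injective ?_⟩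
    · rw [map_mul, map_mul, e.apply_symm_apply]; exact mem_center_iff.mp hx (e w)
    · rw [map_mul, map_mul]; exact mem_center_iff.mp hx (e.symm w)
  refine ⟨(Nat.card_congr e.toEquiv).symm.trans h.card, ?_, fun x => (hiff _).mpr ?_, fun z hz => ?_,
    fun x hx => (hiff _).mpr (h.inv _ (by rw [← map_mul, hx, map_one])), fun x hx z hz => ?_⟩
  · rw [← h.card_center]
    exact Nat.card_congr (e.symm.toEquiv.subtypeEquiv fun x => hiff x)
  · rw [map_mul]; exact h.sq _
  · refine e.symm.injective ?_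
    rw [map_mul, map_one]; exact h.cen _ ((hiff z).mp hz)
  · obtain ⟨y, hy⟩ := h.surj (e.symm x) (fun hc => hx ((hiff x).mpr hc)) (e.symm z) ((hiff z).mp hz)
    refine ⟨e y, e.symm.injective ?_⟩
    rw [map_commutatorElement, e.symm_apply_apply, hy]

namespace Two

theorem perfect (h : Two π S a b) : Group.IsPerfect G := by
  refine ⟨(h.conf.normal_cases (commutator G)).resolve_left fun e => h.conf.nonab ⟨⟨fun x y => ?_⟩⟩⟩
  have h1 : ⁅x, y⁆ ∈ commutator G := commutator_mem_commutator (mem_top x) (mem_top y)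
  rw [e, mem_bot] at h1
  exact commutatorElement_eq_one_iff_mul_comm.mp h1

theorem prank (h : Two π S a b) : PRankLE 2 2 G := by
  haveI : Fact (Nat.Prime 2) := ⟨Nat.prime_two⟩
  intro A hA hA2
  obtain ⟨m, hm⟩ := exists_conj_into_sylow S (P := A) fun x =>
    ⟨1, Subtype.ext (by simpa using hA2 x x.2)⟩
  have hmV : ∀ x : A, m * x * m⁻¹ ∈ four S h := fun x => h.mem_four_of_sq (hm x x.2) (by
    rw [show m * x * m⁻¹ * (m * x * m⁻¹) = m * ((x : G) * x) * m⁻¹ by group, ← pow_two, hA2 x x.2]; group)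
  exact (Nat.card_le_card_of_injective (fun x : A => (⟨m * x * m⁻¹, hmV x⟩ : four S h))
    fun x y e => Subtype.ext (mul_left_cancel (mul_right_cancel (congrArg Subtype.val e)))).trans
    (le_of_eq h.card_four)

theorem invol_central (h : Two π S a b) (x : (S : Subgroup G)) (hx : x * x = 1) (y : (S : Subgroup G)) :
    x * y = y * x :=
  Subtype.ext (h.four_comm (h.mem_four_of_sq x.2 (congrArg Subtype.val hx)) y.2)

theorem three_dvd (h : Two π S a b) : 3 ∣ Nat.card G := by
  obtain ⟨y, -, ⟨k, hk⟩, hy⟩ := h.exists_three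
  refine Dvd.dvd.trans ?_ (orderOf_dvd_natCard y)
  rcases Nat.eq_zero_or_pos k with rfl | hk0
  · rw [pow_zero, orderOf_eq_one_iff] at hk
    exact absurd (hk ▸ one_mem _) hy
  · exact hk ▸ dvd_pow_self 3 hk0.ne'

theorem oddCore_eq_bot (h : Two π S a b) : oddCore G = ⊥ :=
  (h.conf.normal_cases (oddCore G)).resolve_right fun e => by
    have := CfsgLib.odd_card_oddCore (G := G)
    rw [e, card_top] at this
    exact Nat.not_even_iff_odd.mpr this (even_iff_two_dvd.mpr h.conf.even)

/-- The configuration is not `PSL(2,q)`. -/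
theorem not_psl (h : Two π S a b) (h8 : ¬ 8 ∣ Nat.card G) {F : Type} [Field F] [Fintype F]
    (hodd : Odd (Fintype.card F)) (h3 : 3 < Fintype.card F)
    (e : Matrix.ProjectiveSpecialLinearGroup (Fin 2) F ≃* G) : False := by
  classical
  obtain ⟨p, hchar⟩ := CharP.exists F
  obtain ⟨f0, hp, hf0⟩ := FiniteField.card F p
  haveI : Fact p.Prime := ⟨hp⟩
  let f : Matrix.SpecialLinearGroup (Fin 2) F →* G :=
    e.toMonoidHom.comp (QuotientGroup.mk' (center (Matrix.SpecialLinearGroup (Fin 2) F)))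
  have hfs : Function.Surjective f := e.surjective.comp (QuotientGroup.mk'_surjective _)
  have hker : ∀ x, f x = 1 → x ∈ center (Matrix.SpecialLinearGroup (Fin 2) F) := fun x hx =>
    (QuotientGroup.eq_one_iff x).mp (e.injective (hx.trans (map_one e).symm))
  have hscal : ∀ x ∈ center (Matrix.SpecialLinearGroup (Fin 2) F),
      ∃ r : F, r * r = 1 ∧ (x : Matrix (Fin 2) (Fin 2) F) = Matrix.scalar (Fin 2) r := fun x hx => by
    obtain ⟨r, hr, hrx⟩ := Matrix.SpecialLinearGroup.mem_center_iff.mp hx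
    exact ⟨r, by rwa [Fintype.card_fin, pow_two] at hr, hrx.symm⟩
  by_cases hp3 : p = 3
  swap
  · obtain ⟨g, hg⟩ := (haveI : Fact (Nat.Prime 3) := ⟨Nat.prime_three⟩; exists_prime_orderOf_dvd_card' 3 h.three_dvd)
    obtain ⟨x0, hx0⟩ := hfs g
    have hc : x0 ^ 3 ∈ center (Matrix.SpecialLinearGroup (Fin 2) F) := by
      refine (QuotientGroup.eq_one_iff _).mp (e.injective ?_)
      rw [map_one]
      show f (x0 ^ 3) = 1
      rw [map_pow, hx0, ← hg, pow_orderOf_eq_one]
    have h6 : x0 ^ 6 = 1 := by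
      obtain ⟨r, hr, hrx⟩ := hscal _ hc
      rw [show x0 ^ 6 = x0 ^ 3 * x0 ^ 3 by rw [← pow_add]]
      refine Subtype.ext ?_
      rw [Matrix.SpecialLinearGroup.coe_mul, hrx, ← map_mul, hr, map_one, Matrix.SpecialLinearGroup.coe_one]
    set x := x0 ^ 4 with hx
    have hx3 : x ^ 3 = 1 := by rw [hx, ← pow_mul, show 4 * 3 = 6 * 2 by rfl, pow_mul, h6, one_pow]
    have hfx : f x = g := by
      rw [hx, map_pow, hx0, show 4 = 3 + 1 by rfl, pow_succ, ← hg, pow_orderOf_eq_one, one_mul]
    have hx1 : x ≠ 1 := fun e1 => by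
      rw [e1, map_one] at hfx
      rw [← hfx, orderOf_one] at hg
      omega
    obtain ⟨w, hw⟩ := CfsgLib.SL2Tori.exists_inverting
      (CfsgLib.SL2Tori.trace_ne_of_odd p Nat.prime_three (by norm_num) (Ne.symm hp3) (x := x) (k := 1)
        (by rw [pow_one]; exact hx3) hx1)
    have h1 := h.conf.no_real (x := g) (g := f w) (hg ▸ isPiNum_of_prime Nat.prime_three h.three_mem)
      (hg ▸ by decide) (by rw [← hfx, ← map_inv, ← map_mul, ← map_mul, hw, map_inv])
    rw [h1, orderOf_one] at hg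
    omega
  subst hp3
  set q := Fintype.card F with hq
  have hcard : 2 * Nat.card G = q * (q ^ 2 - 1) := by
    rw [← Nat.card_congr e.toEquiv, ← CfsgLib.SLCard.card_SL_two, ← CfsgLib.SLCard.gcd_mul_card_PSL (n := 2) (by norm_num)]
    congr 1
    obtain ⟨j, hj⟩ := hodd
    exact (Nat.gcd_eq_left (by omega)).symm
  -- `q` is three modulo four
  have hmod : q % 4 = 3 := by
    by_contra hne
    obtain ⟨j, hj⟩ : ∃ j, q = 3 ^ (2 * j) := by
      rcases Nat.even_or_odd (f0 : ℕ) with ⟨j, hj⟩ | ⟨j, hj⟩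
      · exact ⟨j, by rw [hf0, hj, two_mul]⟩
      · refine absurd ?_ hne
        rw [hf0, hj, pow_succ, pow_mul, Nat.mul_mod, Nat.pow_mod]
        norm_num
    have h16 : 16 ∣ q * q - 1 := by
      have h9 : 8 ∣ q - 1 := by
        rw [hj, pow_mul]; simpa using Nat.sub_one_dvd_pow_sub_one 9 j
      obtain ⟨i, hi⟩ := h9
      exact ⟨4 * i * i + i, by
        have : q = 8 * i + 1 := by omega
        rw [this]
        exact (Nat.sub_eq_iff_eq_add (by nlinarith)).mpr (by ring)⟩
    refine h8 ?_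
    have h32 : 16 ∣ 2 * Nat.card G := hcard ▸ dvd_mul_of_dvd_right (by rwa [pow_two]) _
    omega
  -- an odd prime divisor of `q - 1`
  obtain ⟨r, hr, hrd⟩ := Nat.exists_prime_and_dvd (n := (q - 1) / 2) (by omega)
  haveI : Fact r.Prime := ⟨hr⟩
  have hrodd : Odd r := hr.odd_of_ne_two fun e2 => by
    rw [e2] at hrd
    omega
  have hru : r ∣ Nat.card Fˣ := by
    rw [Nat.card_units, Nat.card_eq_fintype_card]
    exact hrd.trans (Nat.div_dvd_of_dvd (by omega))
  obtain ⟨t, ht⟩ := exists_prime_orderOf_dvd_card' (G := Fˣ) r hru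
  have ht2 : t * t ≠ 1 := fun e2 => by
    have := orderOf_dvd_of_pow_eq_one (show t ^ 2 = 1 by rw [pow_two, e2])
    rw [ht, Nat.prime_dvd_prime_iff_eq hr Nat.prime_two] at this
    exact absurd hrodd (by rw [this]; decide)
  let D : Fˣ → Matrix.SpecialLinearGroup (Fin 2) F := fun c =>
    ⟨!![(c : F), 0; 0, ((c⁻¹ : Fˣ) : F)], by simp [Matrix.det_fin_two]⟩
  have hDmul : ∀ c c', D c * D c' = D (c * c') := fun c c' => by
    refine Subtype.ext ?_
    rw [Matrix.SpecialLinearGroup.coe_mul]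
    ext i j
    fin_cases i <;> fin_cases j <;> simp [D, Matrix.mul_apply, Fin.sum_univ_two, mul_comm]
  have hD1 : D 1 = 1 := by
    refine Subtype.ext ?_
    ext i j
    fin_cases i <;> fin_cases j <;> simp [D]
  let Dh : Fˣ →* Matrix.SpecialLinearGroup (Fin 2) F :=
    { toFun := D, map_one' := hD1, map_mul' := fun c c' => (hDmul c c').symm }
  let U : F → Matrix.SpecialLinearGroup (Fin 2) F := fun c => ⟨!![1, c; 0, 1], by simp [Matrix.det_fin_two]⟩
  let Uh : Multiplicative F →* G := f.comp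
    { toFun := fun c => U c.toAdd
      map_one' := Subtype.ext (by ext i j; fin_cases i <;> fin_cases j <;> simp [U])
      map_mul' := fun c c' => Subtype.ext (by
        rw [Matrix.SpecialLinearGroup.coe_mul]
        ext i j
        fin_cases i <;> fin_cases j <;> simp [U, Matrix.mul_apply, Fin.sum_univ_two, add_comm]) }
  set d := f (D t) with hd
  have hd1 : d ≠ 1 := fun e1 => by
    obtain ⟨c, -, hc⟩ := hscal _ (hker _ e1)
    have h00 := congrFun (congrFun hc 0) 0
    have h11 := congrFun (congrFun hc 1) 1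
    simp [D, Matrix.scalar_apply] at h00 h11
    exact ht2 (Units.ext (by
      rw [Units.val_mul, Units.val_one]
      calc (t : F) * t = t * (t : F)⁻¹ := by rw [show ((t : F))⁻¹ = t from h11.trans h00.symm]
        _ = 1 := mul_inv_cancel₀ t.ne_zero))
  have hdr : orderOf d = r := orderOf_eq_prime (by
    rw [hd, ← map_pow, show D t ^ r = Dh (t ^ r) from (map_pow Dh t r).symm, ← ht, pow_orderOf_eq_one, map_one,
      map_one]) hd1
  have hconj : ∀ c : F, D t * U c * (D t)⁻¹ = U ((t : F) * t * c) := fun c => by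
    rw [mul_inv_eq_iff_eq_mul]
    refine Subtype.ext ?_
    rw [Matrix.SpecialLinearGroup.coe_mul, Matrix.SpecialLinearGroup.coe_mul]
    ext i j
    fin_cases i <;> fin_cases j <;> simp [D, U, Matrix.mul_apply, Fin.sum_univ_two]
    rw [mul_assoc (t : F) t c, mul_comm (t : F) c, mul_assoc, mul_assoc, mul_inv_cancel₀ t.ne_zero, mul_one, mul_comm]
  set X := Uh.range with hX
  have hrπ : r ∈ π := by
    by_contra hrπ
    have hX3 : IsPiNum π (Nat.card X) := by
      intro s hs hsd
      have h1 : s ∣ Nat.card (Multiplicative F) := hsd.trans (card_range_dvd Uh)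
      rw [Nat.card_congr Multiplicative.toAdd, Nat.card_eq_fintype_card, ← hq, hf0] at h1
      rw [(Nat.prime_dvd_prime_iff_eq hs hp).mp (hs.dvd_of_dvd_pow h1)]
      exact h.three_mem
    have hn : d ∈ normalizer (X : Set G) := CfsgLib.Comp.mem_normalizer_of_maps (by
      rintro _ ⟨c, rfl⟩
      exact ⟨Multiplicative.ofAdd ((t : F) * t * c.toAdd), by
        show f (U _) = f (D t) * f (U _) * (f (D t))⁻¹
        rw [← map_inv, ← map_mul, ← map_mul, hconj]; rfl⟩)
    have hcomm := h.conf.cent_of_coEl hX3 hn (fun s hs hsd => by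
      rw [hdr] at hsd
      rwa [(Nat.prime_dvd_prime_iff_eq hs hr).mp hsd]) (x := f (U 1)) ⟨Multiplicative.ofAdd 1, rfl⟩
    have h1 : f (D t * U 1 * (D t)⁻¹ * (U 1)⁻¹) = 1 := by
      rw [map_mul, map_mul, map_mul, map_inv, map_inv, hcomm, mul_inv_cancel_right, mul_inv_cancel]
    rw [hconj] at h1
    obtain ⟨c, -, hc⟩ := hscal _ (hker _ h1)
    rw [Matrix.SpecialLinearGroup.coe_mul, Matrix.SpecialLinearGroup.coe_inv] at hc
    have h01 := congrFun (congrFun hc 0) 1
    simp [U, Matrix.mul_apply, Fin.sum_univ_two, Matrix.adjugate_fin_two, Matrix.scalar_apply] at h01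
    exact ht2 (Units.ext (by
      rw [Units.val_mul, Units.val_one]
      linear_combination h01))
  let W : Matrix.SpecialLinearGroup (Fin 2) F := ⟨!![0, 1; -1, 0], by simp [Matrix.det_fin_two]⟩
  have hW : W * D t * W⁻¹ = (D t)⁻¹ := by
    have e1 : (D t)⁻¹ = D t⁻¹ := inv_eq_of_mul_eq_one_right (by rw [hDmul, mul_inv_cancel, hD1])
    rw [e1, mul_inv_eq_iff_eq_mul]
    refine Subtype.ext ?_
    rw [Matrix.SpecialLinearGroup.coe_mul, Matrix.SpecialLinearGroup.coe_mul]
    ext i j
    fin_cases i <;> fin_cases j <;> simp [D, W, Matrix.mul_apply, Fin.sum_univ_two]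
  exact hd1 (h.conf.no_real (g := f W) (hdr ▸ isPiNum_of_prime hr hrπ) (hdr ▸ hrodd)
    (by rw [hd, ← map_inv, ← map_mul, ← map_mul, hW, map_inv]))

/-- The Sylow `2`-subgroup is of type `U₃(4)`. -/
theorem sixty (h : Two π S a b) : CfsgLib.SuzukiTwo.Sixty (S : Subgroup G) := by
  classical
  haveI : Fact (Nat.Prime 2) := ⟨Nat.prime_two⟩
  haveI := h.conf.simple
  haveI : Fintype (GaloisField 2 4) := Fintype.ofFinite _
  have h16 : Fintype.card (GaloisField 2 4) = 16 := by
    rw [← Nat.card_eq_fintype_card, GaloisField.card 2 4 (by norm_num)]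
    rfl
  obtain ⟨P⟩ : Nonempty (Sylow 2 (Cfsg.PSU 3 (GaloisField 2 4) 4)) := inferInstance
  rcases Cfsg.Agent.S0516.result h.conf.nonab h.prank S h16 P with ⟨n, hn, ⟨e⟩⟩ | hq | hw | ⟨⟨e⟩⟩
  · exfalso
    have hsr : ∀ i : ZMod n, e.symm (DihedralGroup.sr i) * e.symm (DihedralGroup.sr i) = 1 := fun i => by
      rw [← map_mul, DihedralGroup.sr_mul_sr, sub_self, ← DihedralGroup.one_def, map_one]
    have hcomm := h.invol_central _ (hsr 0) (e.symm (DihedralGroup.sr 1))
    rw [← map_mul, ← map_mul, DihedralGroup.sr_mul_sr, DihedralGroup.sr_mul_sr] at hcomm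
    have h1 := DihedralGroup.r.inj (e.symm.injective hcomm)
    have hn2 : n = 2 := by
      have h2 : ((2 : ℕ) : ZMod n) = 0 := by push_cast; linear_combination h1
      have := (ZMod.natCast_eq_zero_iff _ _).mp h2
      exact le_antisymm (Nat.le_of_dvd two_pos this) hn
    subst hn2
    have hS4 : Nat.card (S : Subgroup G) = 4 := by rw [Nat.card_congr e.toEquiv, DihedralGroup.nat_card]
    have h8 : ¬ 8 ∣ Nat.card G := fun hd => by
      have := S.pow_dvd_card_of_pow_dvd_card (n := 3) (by simpa using hd)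
      rw [hS4] at this
      omega
    haveI := h.perfect
    let e0 : G ⧸ oddCore G ≃* G :=
      (QuotientGroup.quotientMulEquivOfEq h.oddCore_eq_bot).trans QuotientGroup.quotientBot
    rcases Cfsg.Agent.S0483.result S 2 hn ⟨e⟩ with ⟨F, _, _, hodd, h3, ⟨f⟩⟩ | ⟨⟨f⟩⟩
    · exact h.not_psl h8 hodd h3 (f.symm.trans e0)
    · refine h8 ?_
      rw [Nat.card_congr (e0.symm.trans f).toEquiv, nat_card_alternatingGroup, Nat.card_eq_fintype_card,
        Fintype.card_fin]
      norm_num [Nat.factorial]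
  · exfalso
    obtain ⟨n, hn, -, x, y, hx, hy, hxy⟩ := hq
    rw [h.invol_central y (by rw [← pow_two]; exact orderOf_dvd_iff_pow_eq_one.mp (dvd_of_eq hy)) x, mul_inv_cancel_right] at hxy
    have h1 : 4 ≤ 2 ^ (n - 1) :=
      le_trans (by norm_num : 4 ≤ 2 ^ 2) (Nat.pow_le_pow_right two_pos (by omega : 2 ≤ n - 1))
    have h2 : x ^ (2 ^ (n - 1) - 1 - 1) = 1 := by
      refine mul_left_cancel (a := x) ?_
      rw [mul_one, ← pow_succ', show 2 ^ (n - 1) - 1 - 1 + 1 = 2 ^ (n - 1) - 1 by omega, ← hxy]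
    have h3 := Nat.le_of_dvd (by omega) (orderOf_dvd_of_pow_eq_one h2)
    rw [hx, show n = n - 1 + 1 by omega, pow_succ] at h3
    simp only [Nat.add_sub_cancel] at h3
    omega
  · exfalso
    obtain ⟨n, hn, -, x, y, z, hx, -, hdisj, hz, hxy⟩ := hw
    rw [h.invol_central z (by rw [← pow_two]; exact orderOf_dvd_iff_pow_eq_one.mp (dvd_of_eq hz)) x, mul_inv_cancel_right] at hxy
    rw [← hxy, inf_idem, zpowers_eq_bot] at hdisj
    rw [hdisj, orderOf_one] at hx
    exact absurd hx (Nat.one_lt_two_pow (by omega)).ne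
  · exact sixty_of_equiv (CfsgLib.SuzukiTwo.sixty h16 P) e.symm

end Two

end CfsgLib.PiClosedTwo
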