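import Cfsg.Agent.Lib.PiClosedTwo.Central
import Cfsg.Agent.Lib.InvTimesAlt.Count
import Cfsg.Agent.Lib.AfterFT.OddCentTransitive
import Cfsg.Agent.S1224

/-!
A minimal counterexample has no strongly embedded subgroup containing a Sylow `2`-subgroup with two involutions.
-/

set_option autoImplicit false
set_option linter.unusedSectionVars false
set_option linter.style.haveILetI false

namespace CfsgLib.PiClosedTwo

open Subgroup Cfsg CfsgLib.HallE8 CfsgLib.ZCReduction
open scoped Pointwise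

universe u

variable {G : Type u} [Group G] [Finite G] {π : Set ℕ} {M : Subgroup G}

theorem emb_mem_of_invol (hM : IsStronglyEmbedded M) {s g : G} (hs : IsInvol s) (hsM : s ∈ M)
    (hg : g * s * g⁻¹ ∈ M) : g ∈ M := by
  by_contra hgM
  have h2 : g * s * g⁻¹ ∈ M ⊓ M.map (MulAut.conj g).toMonoidHom := ⟨hg, s, hsM, rfl⟩
  have h3 := Subgroup.orderOf_dvd_natCard _ h2
  rw [(hs.conj g).orderOf_eq] at h3
  exact (Nat.not_even_iff_odd.mpr (hM.2.2 g hgM)) (even_iff_two_dvd.mpr h3)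

theorem emb_cent_le (hM : IsStronglyEmbedded M) {s : G} (hs : IsInvol s) (hsM : s ∈ M) :
    centralizer ({s} : Set G) ≤ M := fun g hg =>
  emb_mem_of_invol hM hs hsM (by rwa [commute_of_mem_cent hg, mul_inv_cancel_right])

theorem emb_exists_outside (hM : IsStronglyEmbedded M) {s : G} (hs : IsInvol s) (hsM : s ∈ M) :
    ∃ u : G, IsInvol u ∧ u ∉ M := by
  obtain ⟨g, hg⟩ : ∃ g : G, g ∉ M := by
    by_contra h
    push Not at h
    exact hM.1 ((eq_top_iff' M).mpr h)
  exact ⟨g * s * g⁻¹, hs.conj g, fun h => hg (emb_mem_of_invol hM hs hsM h)⟩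

theorem isConj_of_outside (hc : ∀ w ∈ M, IsInvol w → centralizer ({w} : Set G) ≤ M) {s u : G} (hs : IsInvol s)
    (hsM : s ∈ M) (hu : IsInvol u) (huM : u ∉ M) : IsConj s u := by
  by_cases ho : Odd (orderOf (u * s))
  · obtain ⟨d, -, hd⟩ := CfsgLib.OddCentTransitive.conj_of_odd hs.2 hu.2 ho
    exact isConj_iff.mpr ⟨d, hd⟩
  exfalso
  obtain ⟨j, hj⟩ := Nat.not_odd_iff_even.mp ho
  have hpos := orderOf_pos (u * s)
  set w := (u * s) ^ j with hw
  have hw1 : w ≠ 1 := fun e => by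
    have := Nat.le_of_dvd (by omega) (orderOf_dvd_of_pow_eq_one e)
    omega
  have hw2 : w * w = 1 := by rw [hw, ← pow_add, ← hj, pow_orderOf_eq_one]
  have e1 : s * (u * s) * s⁻¹ = (u * s)⁻¹ := by
    rw [mul_inv_rev, hs.inv_eq, hu.inv_eq, mul_assoc, mul_assoc, hs.2, mul_one]
  have e2 : u * (u * s) * u⁻¹ = (u * s)⁻¹ := by
    rw [mul_inv_rev, hs.inv_eq, hu.inv_eq, ← mul_assoc, hu.2, one_mul]
  have hwi : w⁻¹ = w := inv_eq_of_mul_eq_one_left hw2
  have hsw : s * w = w * s := by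
    have : s * w * s⁻¹ = w := by rw [hw, ← conj_pow, e1, inv_pow, ← hw, hwi]
    exact mul_inv_eq_iff_eq_mul.mp this
  have huw : u * w = w * u := by
    have : u * w * u⁻¹ = w := by rw [hw, ← conj_pow, e2, inv_pow, ← hw, hwi]
    exact mul_inv_eq_iff_eq_mul.mp this
  have hwM : w ∈ M := hc s hsM hs (mem_cent_of_commute hsw.symm)
  exact huM (hc w hwM ⟨hw1, hw2⟩ (mem_cent_of_commute huw))

theorem emb_conj_outside (hM : IsStronglyEmbedded M) {s u : G} (hs : IsInvol s) (hsM : s ∈ M) (hu : IsInvol u)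
    (huM : u ∉ M) : IsConj s u :=
  isConj_of_outside (fun _ hw hwi => emb_cent_le hM hwi hw) hs hsM hu huM

theorem emb_conj_M (hM : IsStronglyEmbedded M) {s t : G} (hs : IsInvol s) (hsM : s ∈ M) (ht : IsInvol t)
    (htM : t ∈ M) : ∃ m ∈ M, m * t * m⁻¹ = s := by
  obtain ⟨u, hu, huM⟩ := emb_exists_outside hM hs hsM
  obtain ⟨g, hg⟩ := isConj_iff.mp ((emb_conj_outside hM ht htM hu huM).trans (emb_conj_outside hM hs hsM hu huM).symm)
  exact ⟨g, emb_mem_of_invol hM ht htM (hg ▸ hsM), hg⟩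

theorem emb_card_invol (hM : IsStronglyEmbedded M) {t : G} (ht : IsInvol t) (htM : t ∈ M) :
    Nat.card {s : G // orderOf s = 2 ∧ s ∈ M} = (centralizer ({t} : Set G)).relIndex M := by
  set C := centralizer ({t} : Set G) with hC
  have key : ∀ a b : M, (a : G) * t * (a : G)⁻¹ = b * t * (b : G)⁻¹ ↔ a⁻¹ * b ∈ C.subgroupOf M := by
    intro a b
    rw [mem_subgroupOf, Subgroup.coe_mul, Subgroup.coe_inv]
    refine ⟨fun e => mem_cent_of_commute ?_, fun h1 => ?_⟩
    · calc (a : G)⁻¹ * b * t = (a : G)⁻¹ * (b * t * (b : G)⁻¹) * b := by group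
        _ = (a : G)⁻¹ * (a * t * (a : G)⁻¹) * b := by rw [e]
        _ = _ := by group
    · have h2 := commute_of_mem_cent h1
      calc (a : G) * t * (a : G)⁻¹ = a * (t * ((a : G)⁻¹ * b)) * (b : G)⁻¹ := by group
        _ = a * ((a : G)⁻¹ * b * t) * (b : G)⁻¹ := by rw [h2]
        _ = _ := by group
  let g : M → {s : G // orderOf s = 2 ∧ s ∈ M} := fun m =>
    ⟨(m : G) * t * (m : G)⁻¹, (ht.conj _).orderOf_eq, mul_mem (mul_mem m.2 htM) (inv_mem m.2)⟩
  let f : M ⧸ C.subgroupOf M → {s : G // orderOf s = 2 ∧ s ∈ M} := Quotient.lift g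
    fun a b hab => Subtype.ext ((key a b).mpr (QuotientGroup.leftRel_apply.mp hab))
  have hf : Function.Bijective f := by
    refine ⟨?_, fun s => ?_⟩
    · rintro ⟨a⟩ ⟨b⟩ e
      exact Quotient.sound (QuotientGroup.leftRel_apply.mpr ((key a b).mp (congrArg Subtype.val e)))
    · obtain ⟨m, hm, e⟩ := emb_conj_M hM (isInvol_of_orderOf s.2.1) s.2.2 ht htM
      exact ⟨QuotientGroup.mk ⟨m, hm⟩, Subtype.ext e⟩
  rw [← Nat.card_eq_of_bijective f hf, ← Subgroup.index_eq_card]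
  rfl

theorem emb_card_inverted (hM : IsStronglyEmbedded M) {u : G} (hu : IsInvol u) (huM : u ∉ M) :
    Nat.card {d : G // d ∈ M ∧ u * d * u ∈ M ∧ u * d * u = d⁻¹} = Nat.card {s : G // orderOf s = 2 ∧ s ∈ M} := by
  have hxy : ((1 : G) : G ⧸ M) ≠ (u : G ⧸ M) := fun e => huM (by simpa using QuotientGroup.eq.mp e)
  rw [← Cfsg.Agent.S1224.result M hM _ _ hxy]
  have huu := hu.2
  have hui := hu.inv_eq
  refine Nat.card_congr
    { toFun := fun d => ⟨u * d.1, ?_, ?_⟩
      invFun := fun i => ⟨u * i.1, ?_, ?_, ?_⟩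
      left_inv := fun d => Subtype.ext (by
        show u * (u * d.1) = d.1
        rw [← mul_assoc, huu, one_mul])
      right_inv := fun i => Subtype.ext (by
        show u * (u * i.1) = i.1
        rw [← mul_assoc, huu, one_mul]) }
  · refine IsInvol.orderOf_eq ⟨fun e => huM ?_, ?_⟩
    · rw [← hui, ← eq_inv_of_mul_eq_one_right e]; exact d.2.1
    · rw [← mul_assoc, d.2.2.2, inv_mul_cancel]
  · rw [MulAction.Quotient.smul_mk, smul_eq_mul, mul_one]
    refine QuotientGroup.eq.mpr ?_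
    rw [mul_inv_rev, mul_assoc, inv_mul_cancel, mul_one]
    exact inv_mem d.2.1
  · obtain ⟨i, hi, hiu⟩ := i
    rw [MulAction.Quotient.smul_mk, smul_eq_mul, mul_one] at hiu
    have h1 : i⁻¹ * u ∈ M := QuotientGroup.eq.mp hiu
    have := inv_mem h1
    rwa [mul_inv_rev, inv_inv, hui] at this
  · obtain ⟨i, hi, hiu⟩ := i
    rw [MulAction.Quotient.smul_mk, smul_eq_mul, mul_one] at hiu
    show u * (u * i) * u ∈ M
    rw [← mul_assoc, huu, one_mul]
    have h1 : i⁻¹ * u ∈ M := QuotientGroup.eq.mp hiu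
    rwa [(isInvol_of_orderOf hi).inv_eq] at h1
  · obtain ⟨i, hi, -⟩ := i
    show u * (u * i) * u = (u * i)⁻¹
    rw [← mul_assoc, huu, one_mul, mul_inv_rev, hui, (isInvol_of_orderOf hi).inv_eq]

namespace Conf

/-- The number of involutions of a strongly embedded subgroup is a `π'`-number. -/
theorem emb_count (h : Conf π G) (hM : IsStronglyEmbedded M) {u : G} (hu : IsInvol u) (huM : u ∉ M) :
    IsCoNum π (Nat.card {s : G // orderOf s = 2 ∧ s ∈ M}) := by
  have huu := hu.2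
  set K := piCore π M
  have hco : ∀ d : G, d ∈ M → u * d * u ∈ M → u * d * u = d⁻¹ → d ∈ K := by
    intro d hd hd' hinv
    refine mem_piCore_of hd fun p hp hpd hpπ => ?_
    have hodd : Odd (orderOf d) := by
      refine Odd.of_dvd_nat (hM.2.2 u huM) (Subgroup.orderOf_dvd_natCard _ ⟨hd, u * d * u, hd', ?_⟩)
      show u * (u * d * u) * u⁻¹ = d
      rw [hu.inv_eq, show u * (u * d * u) * u = u * u * d * (u * u) by group, huu, one_mul, mul_one]
    set x := d ^ (orderOf d / p) with hx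
    have hxo : orderOf x = p := by
      have := Nat.div_pos (Nat.le_of_dvd (orderOf_pos d) hpd) hp.pos
      rw [hx, orderOf_pow' _ this.ne', Nat.gcd_eq_right (Nat.div_dvd_of_dvd hpd),
        Nat.div_div_self hpd (orderOf_pos d).ne']
    have hxi : u * x * u⁻¹ = x⁻¹ := by
      rw [hx, ← conj_pow, ← inv_pow, ← hinv, hu.inv_eq]
    have h1 := h.no_real (fun q hq hqd => by
      rw [hxo] at hqd
      rwa [(Nat.prime_dvd_prime_iff_eq hq hp).mp hqd]) (hxo ▸ Odd.of_dvd_nat hodd hpd) hxi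
    rw [h1, orderOf_one] at hxo
    exact hp.one_lt.ne hxo
  have hK : IsCoNum π (Nat.card K) := piCore_card (h.closed M hM.1)
  set E := K ⊓ K.map (MulAut.conj u).toMonoidHom
  have hmem : ∀ {x : G}, x ∈ E ↔ x ∈ K ∧ u * x * u ∈ K := by
    intro x
    constructor
    · rintro ⟨h1, y, hy, rfl⟩
      refine ⟨h1, ?_⟩
      show u * (u * y * u⁻¹) * u ∈ K
      rwa [hu.inv_eq, show u * (u * y * u) * u = (u * u) * y * (u * u) by group, huu, one_mul, mul_one]
    · rintro ⟨h1, h2⟩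
      refine ⟨h1, u * x * u, h2, ?_⟩
      show u * (u * x * u) * u⁻¹ = x
      rw [hu.inv_eq, show u * (u * x * u) * u = (u * u) * x * (u * u) by group, huu, one_mul, mul_one]
  have hEodd : Odd (Nat.card E) :=
    Nat.odd_iff.mpr (Nat.two_dvd_ne_zero.mp ((hK.of_dvd (card_dvd_of_le inf_le_left)).odd h.two))
  have h1 := CfsgLib.InvTimesAlt.card_fixed_mul_inverted E hEodd huu fun x hx => by
    rw [hmem] at hx ⊢
    refine ⟨hx.2, ?_⟩
    rw [show u * (u * x * u) * u = (u * u) * x * (u * u) by group, huu, one_mul, mul_one]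
    exact hx.1
  have e : Nat.card {d : G // d ∈ E ∧ u * d * u = d⁻¹} = Nat.card {s : G // orderOf s = 2 ∧ s ∈ M} := by
    rw [← emb_card_inverted hM hu huM]
    refine Nat.card_congr (Equiv.subtypeEquivRight fun d => ⟨fun hd => ?_, fun hd => ⟨hmem.mpr ?_, hd.2.2⟩⟩)
    · exact ⟨piCore_le π M (hmem.mp hd.1).1, piCore_le π M (hmem.mp hd.1).2, hd.2⟩
    · have h2 := hco d hd.1 hd.2.1 hd.2.2
      exact ⟨h2, hd.2.2.symm ▸ inv_mem h2⟩
  rw [← e]
  exact (hK.of_dvd (card_dvd_of_le inf_le_left)).of_dvd (h1 ▸ dvd_mul_left _ _)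

/-- No strongly embedded subgroup contains a Sylow `2`-subgroup with two involutions. -/
theorem false_of_embedded (h : Conf π G) (hM : IsStronglyEmbedded M) (S : Sylow 2 G)
    (hSM : (S : Subgroup G) ≤ M) {a b : G} (haS : a ∈ (S : Subgroup G)) (hbS : b ∈ (S : Subgroup G))
    (ha : IsInvol a) (hb : IsInvol b) (hne : a ≠ b) : False := by
  haveI : Fact (Nat.Prime 2) := ⟨Nat.prime_two⟩
  have haM := hSM haS
  obtain ⟨u, hu, huM⟩ := emb_exists_outside hM ha haM
  have hk := h.emb_count hM hu huM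
  rw [emb_card_invol hM ha haM] at hk
  set C := centralizer ({a} : Set G)
  have hCM : C ≤ M := emb_cent_le hM ha haM
  obtain ⟨L, hL, hza⟩ := h.exists_hall (h.cent_ne_top ha.1) (U := zpowers a)
    (zpowers_le.mpr (mem_cent_of_commute rfl)) (by
      rw [Nat.card_zpowers, ha.orderOf_eq]; simpa using isPiNum_two_pow h.two 1)
  have haL : a ∈ L := hza (mem_zpowers a)
  have hLM : IsPiHallOf π L M := ⟨hL.1.trans hCM, hL.2.1, fun p hp hpπ hd => by
    rw [← Subgroup.relIndex_mul_relIndex L C M hL.1 hCM] at hd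
    rcases hp.dvd_mul.mp hd with e | e
    · exact hL.2.2 p hp hpπ e
    · exact hk p hp e hpπ⟩
  have huniq : ∀ s ∈ L, IsInvol s → s = a := by
    intro s hs hsi
    obtain ⟨m, hm, e⟩ := emb_conj_M hM hsi (hLM.1 hs) ha haM
    obtain ⟨r, hr, l, hl, rfl⟩ := exists_decomp (h.closed M hM.1) hLM hm
    have hla : l * a * l⁻¹ = a := by rw [commute_of_mem_cent (hL.1 hl), mul_inv_cancel_right]
    rw [show r * l * a * (r * l)⁻¹ = r * (l * a * l⁻¹) * r⁻¹ by group, hla] at e
    have h1 : s * a⁻¹ ∈ piCore π M := by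
      rw [← e, show r * a * r⁻¹ * a⁻¹ = r * (a * r⁻¹ * a⁻¹) by group]
      exact mul_mem hr ((mem_normalizer_iff.mp (le_normalizer_piCore π M haM) _).mp (inv_mem hr))
    have h2 := eq_one_of_pi_of_coEl hLM.2.1 (mul_mem hs (inv_mem haL)) (coEl_of_mem_piCore (h.closed M hM.1) h1)
    exact mul_inv_eq_one.mp h2
  obtain ⟨r, hr, hrS⟩ := exists_piCore_conj h.two h.twoClosed (h.closed M hM.1) hLM hSM
    (isPiNum_of_isPGroup h.two S.2)
  exact hne (mul_left_cancel (mul_right_cancel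
    ((huniq _ (hrS a haS) (ha.conj r)).trans (huniq _ (hrS b hbS) (hb.conj r)).symm)))

end Conf

end CfsgLib.PiClosedTwo
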