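import Cfsg.Agent.Lib.HallPi
import Cfsg.Agent.Lib.HallE8.Solvable

/-!
Groups all of whose `π`-subgroups are `2`-closed and in which `π'`-elements normalizing a `π`-subgroup centralize it:
elementary properties, inheritance, and the reduction to simple groups.
-/

set_option autoImplicit false
set_option linter.unusedSectionVars false
set_option linter.style.haveILetI false

namespace CfsgLib.PiClosedTwo

open Subgroup Cfsg CfsgLib.HallE8
open scoped Pointwise

universe u v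

/-- All prime divisors are in `π`. -/
def IsPiNum (π : Set ℕ) (n : ℕ) : Prop := ∀ p : ℕ, p.Prime → p ∣ n → p ∈ π

/-- No prime divisor is in `π`. -/
def IsCoNum (π : Set ℕ) (n : ℕ) : Prop := ∀ p : ℕ, p.Prime → p ∣ n → p ∉ π

theorem IsPiNum.of_dvd {π : Set ℕ} {m n : ℕ} (h : IsPiNum π n) (hd : m ∣ n) : IsPiNum π m :=
  fun p hp e => h p hp (e.trans hd)

theorem IsCoNum.of_dvd {π : Set ℕ} {m n : ℕ} (h : IsCoNum π n) (hd : m ∣ n) : IsCoNum π m :=
  fun p hp e => h p hp (e.trans hd)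

theorem IsPiNum.mul {π : Set ℕ} {m n : ℕ} (hm : IsPiNum π m) (hn : IsPiNum π n) : IsPiNum π (m * n) :=
  fun p hp e => (hp.dvd_mul.mp e).elim (hm p hp) (hn p hp)

theorem IsCoNum.mul {π : Set ℕ} {m n : ℕ} (hm : IsCoNum π m) (hn : IsCoNum π n) : IsCoNum π (m * n) :=
  fun p hp e => (hp.dvd_mul.mp e).elim (hm p hp) (hn p hp)

theorem IsPiNum.coprime {π : Set ℕ} {m n : ℕ} (hm : IsPiNum π m) (hn : IsCoNum π n) : m.Coprime n :=
  Nat.coprime_of_dvd fun p hp h1 h2 => hn p hp h2 (hm p hp h1)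

theorem IsCoNum.odd {π : Set ℕ} {n : ℕ} (h2 : 2 ∈ π) (hn : IsCoNum π n) : ¬ 2 ∣ n :=
  fun e => hn 2 Nat.prime_two e h2

theorem isPiNum_two_pow {π : Set ℕ} (h2 : 2 ∈ π) (k : ℕ) : IsPiNum π (2 ^ k) := fun p hp e => by
  rw [(Nat.prime_dvd_prime_iff_eq hp Nat.prime_two).mp (hp.dvd_of_dvd_pow e)]
  exact h2

theorem isPiNum_one {π : Set ℕ} : IsPiNum π 1 := fun _ hp e => absurd (Nat.dvd_one.mp e) hp.ne_one

theorem isCoNum_one {π : Set ℕ} : IsCoNum π 1 := fun _ hp e => absurd (Nat.dvd_one.mp e) hp.ne_one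

theorem eq_one_of_pi_co {π : Set ℕ} {n : ℕ} (hm : IsPiNum π n) (hn : IsCoNum π n) : n = 1 :=
  Nat.coprime_self n |>.mp (hm.coprime hn)

section Elements

variable {G : Type u} [Group G]

/-- A `2`-element. -/
def IsTwoEl (x : G) : Prop := ∃ k : ℕ, orderOf x = 2 ^ k

/-- A `π'`-element. -/
def IsCoEl (π : Set ℕ) (x : G) : Prop := IsCoNum π (orderOf x)

theorem isTwoEl_one : IsTwoEl (1 : G) := ⟨0, by simp⟩

theorem IsTwoEl.inv {x : G} (h : IsTwoEl x) : IsTwoEl x⁻¹ := by simpa [IsTwoEl] using h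

theorem IsTwoEl.conj {x : G} (h : IsTwoEl x) (g : G) : IsTwoEl (g * x * g⁻¹) := by
  obtain ⟨k, hk⟩ := h
  exact ⟨k, by rw [← hk]; exact orderOf_injective (MulAut.conj g).toMonoidHom (MulEquiv.injective _) x⟩

theorem isTwoEl_of_sq {x : G} (h : x * x = 1) : IsTwoEl x := by
  obtain ⟨k, -, hk⟩ := (Nat.dvd_prime_pow Nat.prime_two).mp
    (orderOf_dvd_of_pow_eq_one (show x ^ 2 ^ 1 = 1 by rw [pow_one, pow_two, h]))
  exact ⟨k, hk⟩

theorem IsCoEl.conj {π : Set ℕ} {x : G} (h : IsCoEl π x) (g : G) : IsCoEl π (g * x * g⁻¹) := by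
  show IsCoNum π _
  rw [show g * x * g⁻¹ = (MulAut.conj g).toMonoidHom x from rfl,
    orderOf_injective _ (MulEquiv.injective (MulAut.conj g)) x]
  exact h

theorem IsCoEl.map {π : Set ℕ} {Q : Type v} [Group Q] {x : G} (h : IsCoEl π x) (f : G →* Q) : IsCoEl π (f x) :=
  h.of_dvd (orderOf_map_dvd f x)

theorem isTwoEl_coe {H : Subgroup G} {x : H} : IsTwoEl (x : G) ↔ IsTwoEl x := by
  simp [IsTwoEl, Subgroup.orderOf_coe]

theorem isCoEl_coe {π : Set ℕ} {H : Subgroup G} {x : H} : IsCoEl π (x : G) ↔ IsCoEl π x := by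
  simp [IsCoEl, Subgroup.orderOf_coe]

theorem isPGroup_of_twoEl {T : Subgroup G} (h : ∀ x ∈ T, IsTwoEl x) : IsPGroup 2 T := fun x => by
  obtain ⟨k, hk⟩ := h x x.2
  exact ⟨k, by rw [← hk, Subgroup.orderOf_coe, pow_orderOf_eq_one]⟩

theorem isTwoEl_of_mem {T : Subgroup G} (hT : IsPGroup 2 T) {x : G} (hx : x ∈ T) : IsTwoEl x := by
  haveI : Fact (Nat.Prime 2) := ⟨Nat.prime_two⟩
  obtain ⟨k, hk⟩ := (IsPGroup.iff_orderOf.mp hT) ⟨x, hx⟩
  exact ⟨k, by rw [← hk, Subgroup.orderOf_mk]⟩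

variable [Finite G]

/-- The part of `x` of order dividing `b`. -/
theorem exists_part {Q : Type v} [Group Q] (f : G →* Q) (x : G) {a b : ℕ} (hab : orderOf x = a * b)
    (hcop : a.Coprime b) (hf : (orderOf (f x)).Coprime a) :
    ∃ v ∈ zpowers x, orderOf v ∣ b ∧ f v = f x := by
  obtain ⟨e, he1, he2⟩ := Nat.chineseRemainder hcop 0 1
  refine ⟨x ^ e, pow_mem (mem_zpowers x) e, orderOf_dvd_of_pow_eq_one ?_, ?_⟩
  · rw [← pow_mul, ← orderOf_dvd_iff_pow_eq_one, hab]
    exact mul_dvd_mul_right (Nat.modEq_zero_iff_dvd.mp he1) b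
  · have hd : orderOf (f x) ∣ b := hf.dvd_of_dvd_mul_left (hab ▸ orderOf_map_dvd f x)
    rw [map_pow]
    calc f x ^ e = f x ^ 1 := pow_eq_pow_iff_modEq.mpr (he2.of_dvd hd)
      _ = f x := pow_one _

theorem exists_coPart {π : Set ℕ} {Q : Type v} [Group Q] (f : G →* Q) (x : G) (hx : IsCoEl π (f x)) :
    ∃ v ∈ zpowers x, IsCoEl π v ∧ f v = f x := by
  obtain ⟨a, b, hab, hcop, ha, hb⟩ := CfsgLib.exists_pi_split π (orderOf x) (orderOf_pos x).ne'
  obtain ⟨v, hv, hd, e⟩ := exists_part f x hab hcop ((IsPiNum.coprime ha hx).symm)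
  exact ⟨v, hv, IsCoNum.of_dvd hb hd, e⟩

theorem exists_twoPart {Q : Type v} [Group Q] (f : G →* Q) (x : G) (hx : IsTwoEl (f x)) :
    ∃ v ∈ zpowers x, IsTwoEl v ∧ f v = f x := by
  obtain ⟨k, m, hm, hk⟩ := Nat.exists_eq_two_pow_mul_odd (orderOf_pos x).ne'
  obtain ⟨j, hj⟩ := hx
  have hc : m.Coprime (2 ^ k) := (Nat.Coprime.pow_left k (Nat.coprime_two_left.mpr hm)).symm
  obtain ⟨v, hv, hd, e⟩ := exists_part f x (hk.trans (mul_comm _ _)) hc
    (hj ▸ Nat.Coprime.pow_left j (Nat.coprime_two_left.mpr hm))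
  obtain ⟨i, -, hi⟩ := (Nat.dvd_prime_pow Nat.prime_two).mp hd
  exact ⟨v, hv, ⟨i, hi⟩, e⟩

theorem eq_one_of_pi_of_coEl {π : Set ℕ} {H : Subgroup G} (hH : IsPiNum π (Nat.card H)) {x : G} (hx : x ∈ H)
    (hc : IsCoEl π x) : x = 1 :=
  orderOf_eq_one_iff.mp (eq_one_of_pi_co (hH.of_dvd (Subgroup.orderOf_dvd_natCard H hx)) hc)

theorem isPiNum_card_of {π : Set ℕ} {H : Subgroup G} (h : ∀ x ∈ H, IsCoEl π x → x = 1) :
    IsPiNum π (Nat.card H) := by
  intro p hp hd
  by_contra hpπ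
  haveI : Fact p.Prime := ⟨hp⟩
  obtain ⟨x, hx⟩ := exists_prime_orderOf_dvd_card' (G := H) p hd
  have h1 : (x : G) = 1 := h x x.2 fun q hq hqd => by
    rw [Subgroup.orderOf_coe, hx] at hqd
    rwa [(Nat.prime_dvd_prime_iff_eq hq hp).mp hqd]
  rw [← Subgroup.orderOf_coe, h1, orderOf_one] at hx
  exact hp.one_lt.ne hx

theorem isCoNum_card_of {π : Set ℕ} {H : Subgroup G} (h : ∀ x ∈ H, IsCoEl π x) :
    IsCoNum π (Nat.card H) := by
  intro p hp hd
  haveI : Fact p.Prime := ⟨hp⟩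
  obtain ⟨x, hx⟩ := exists_prime_orderOf_dvd_card' (G := H) p hd
  exact h x x.2 p hp (by rw [Subgroup.orderOf_coe, hx])

end Elements

/-- The `2`-elements of every `π`-subgroup are closed under multiplication. -/
def TwoClosed (π : Set ℕ) (G : Type u) [Group G] : Prop :=
  ∀ H : Subgroup G, IsPiNum π (Nat.card H) → ∀ x ∈ H, ∀ y ∈ H, IsTwoEl x → IsTwoEl y → IsTwoEl (x * y)

/-- A `π'`-element normalizing a nontrivial `π`-subgroup centralizes it. -/
def Homog (π : Set ℕ) (G : Type u) [Group G] : Prop :=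
  ∀ H : Subgroup G, H ≠ ⊥ → IsPiNum π (Nat.card H) → ∀ g ∈ normalizer (H : Set G), IsCoEl π g →
    ∀ h ∈ H, g * h = h * g

/-- The `π'`-elements form a subgroup. -/
def Closed (π : Set ℕ) (G : Type u) [Group G] : Prop :=
  ∃ K : Subgroup G, ∀ x : G, x ∈ K ↔ IsCoEl π x

section Group

variable {G : Type u} [Group G] [Finite G] {π : Set ℕ}

theorem twoClosed_of (hcl : ∀ H : Subgroup G, IsPiNum π (Nat.card H) →
    ∀ P : Sylow 2 ↥H, (P : Subgroup ↥H).Normal) : TwoClosed π G := by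
  haveI : Fact (Nat.Prime 2) := ⟨Nat.prime_two⟩
  intro H hH x hx y hy hx2 hy2
  obtain ⟨P⟩ : Nonempty (Sylow 2 ↥H) := inferInstance
  haveI := hcl H hH P
  have key : ∀ z : H, IsTwoEl (z : G) → z ∈ (P : Subgroup H) := by
    intro z hz
    obtain ⟨k, hk⟩ := isTwoEl_coe.mp hz
    have hp : IsPGroup 2 (zpowers z) := IsPGroup.of_card (n := k) (by rw [Nat.card_zpowers, hk])
    obtain ⟨Q, hQ⟩ := hp.exists_le_sylow
    obtain ⟨g, hg⟩ := MulAction.exists_smul_eq H P Q
    rw [Sylow.smul_eq_of_normal] at hg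
    exact hg ▸ hQ (mem_zpowers z)
  have h := isTwoEl_of_mem P.2 ((P : Subgroup H).mul_mem (key ⟨x, hx⟩ hx2) (key ⟨y, hy⟩ hy2))
  exact isTwoEl_coe.mpr h

theorem centralizer_normal (H : Subgroup G) :
    ((centralizer (H : Set G)).subgroupOf (normalizer (H : Set G))).Normal :=
  ⟨fun c hc n => mem_subgroupOf.mpr (mem_centralizer_iff.mpr fun h hh => by
    have h1 : (n : G)⁻¹ * h * n ∈ H := by
      have := (mem_normalizer_iff.mp (inv_mem n.2) h).mp hh
      rwa [inv_inv] at this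
    have h2 := mem_centralizer_iff.mp (mem_subgroupOf.mp hc) _ h1
    simp only [Subgroup.coe_mul, Subgroup.coe_inv]
    calc h * ((n : G) * c * (n : G)⁻¹) = n * ((n : G)⁻¹ * h * n * c) * (n : G)⁻¹ := by group
      _ = n * ((c : G) * ((n : G)⁻¹ * h * n)) * (n : G)⁻¹ := by rw [h2]
      _ = _ := by group)⟩

theorem homog_of (h : ∀ H : Subgroup G, H ≠ ⊥ → IsPiNum π (Nat.card H) →
    IsPiNum π ((centralizer (H : Set G)).relIndex (normalizer (H : Set G)))) : Homog π G := by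
  intro H h0 hH g hg hco x hx
  haveI := centralizer_normal H
  set N := normalizer (H : Set G)
  set f := QuotientGroup.mk' ((centralizer (H : Set G)).subgroupOf N)
  have h1 : IsCoEl π (f ⟨g, hg⟩) := (isCoEl_coe (x := (⟨g, hg⟩ : N))).mp hco |>.map f
  have h2 : IsPiNum π (orderOf (f ⟨g, hg⟩)) := (h H h0 hH).of_dvd (orderOf_dvd_natCard _)
  have h3 : f ⟨g, hg⟩ = 1 := orderOf_eq_one_iff.mp (eq_one_of_pi_co h2 h1)
  have h4 : g ∈ centralizer (H : Set G) := mem_subgroupOf.mp ((QuotientGroup.eq_one_iff _).mp h3)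
  exact (mem_centralizer_iff.mp h4 x hx).symm

/-- The easy direction. -/
theorem relIndex_of_closed (hc : Closed π G) (H : Subgroup G) (hH : IsPiNum π (Nat.card H)) :
    IsPiNum π ((centralizer (H : Set G)).relIndex (normalizer (H : Set G))) := by
  obtain ⟨K, hK⟩ := hc
  intro p hp hd
  by_contra hpπ
  haveI := centralizer_normal H
  haveI : Fact p.Prime := ⟨hp⟩
  set N := normalizer (H : Set G)
  obtain ⟨q, hq⟩ := exists_prime_orderOf_dvd_card' (G := N ⧸ (centralizer (H : Set G)).subgroupOf N) p hd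
  obtain ⟨n, rfl⟩ := QuotientGroup.mk'_surjective _ q
  obtain ⟨v, -, hv, e⟩ := exists_coPart (π := π) (QuotientGroup.mk' _) n (fun r hr hrd => by
    rw [hq] at hrd
    rwa [(Nat.prime_dvd_prime_iff_eq hr hp).mp hrd])
  have hvc : v ∈ (centralizer (H : Set G)).subgroupOf N := by
    refine mem_subgroupOf.mpr (mem_centralizer_iff.mpr fun h hh => ?_)
    have hvG : IsCoEl π (v : G) := isCoEl_coe.mpr hv
    have h1 : (v : G) * h * (v : G)⁻¹ * h⁻¹ ∈ H := mul_mem ((mem_normalizer_iff.mp v.2 h).mp hh) (inv_mem hh)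
    have h2 : (v : G) * h * (v : G)⁻¹ * h⁻¹ ∈ K := by
      rw [show (v : G) * h * (v : G)⁻¹ * h⁻¹ = v * (h * (v : G)⁻¹ * h⁻¹) by group]
      exact mul_mem ((hK _).mpr hvG) ((hK _).mpr ((hK _).mp (inv_mem ((hK _).mpr hvG)) |>.conj h))
    have h3 := eq_one_of_pi_of_coEl hH h1 ((hK _).mp h2)
    exact (mul_inv_eq_iff_eq_mul.mp (mul_inv_eq_one.mp h3)).symm
  have : QuotientGroup.mk' _ v = (1 : N ⧸ (centralizer (H : Set G)).subgroupOf N) :=
    (QuotientGroup.eq_one_iff _).mpr hvc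
  rw [← e, this, orderOf_one] at hq
  exact hp.one_lt.ne hq

theorem TwoClosed.subgroup (h : TwoClosed π G) (M : Subgroup G) : TwoClosed π M := by
  intro H hH x hx y hy hx2 hy2
  exact isTwoEl_coe.mp (h (H.map M.subtype) (by rwa [card_map_of_injective M.subtype_injective]) _
    (mem_map_of_mem _ hx) _ (mem_map_of_mem _ hy) (isTwoEl_coe.mpr hx2) (isTwoEl_coe.mpr hy2))

theorem Homog.subgroup (h : Homog π G) (M : Subgroup G) : Homog π M := by
  intro H h0 hH g hg hco x hx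
  refine Subtype.ext (h (H.map M.subtype) ?_ (by rwa [card_map_of_injective M.subtype_injective]) g
    (CfsgLib.Comp.mem_normalizer_of_maps ?_) (isCoEl_coe.mpr hco) x (mem_map_of_mem _ hx))
  · exact fun e => h0 ((map_eq_bot_iff_of_injective _ M.subtype_injective).mp e)
  · rintro _ ⟨a, ha, rfl⟩
    exact ⟨g * a * g⁻¹, (mem_normalizer_iff.mp hg a).mp ha, rfl⟩

/-- The `2`-elements of a `π`-subgroup form a normal `2`-subgroup. -/
theorem exists_twoGroup (h : TwoClosed π G) {L : Subgroup G} (hL : IsPiNum π (Nat.card L)) :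
    ∃ T : Subgroup G, T ≤ L ∧ IsPGroup 2 T ∧ L ≤ normalizer (T : Set G) ∧ ∀ x ∈ L, IsTwoEl x → x ∈ T := by
  let T : Subgroup G :=
    { carrier := {x | x ∈ L ∧ IsTwoEl x}
      mul_mem' := fun ha hb => ⟨mul_mem ha.1 hb.1, h L hL _ ha.1 _ hb.1 ha.2 hb.2⟩
      one_mem' := ⟨one_mem L, isTwoEl_one⟩
      inv_mem' := fun ha => ⟨inv_mem ha.1, ha.2.inv⟩ }
  refine ⟨T, fun x hx => hx.1, isPGroup_of_twoEl fun x hx => hx.2, fun l hl => ?_, fun x hx h2 => ⟨hx, h2⟩⟩
  exact CfsgLib.Comp.mem_normalizer_of_maps fun x hx => ⟨mul_mem (mul_mem hl hx.1) (inv_mem hl), hx.2.conj l⟩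

theorem isSolvable_of_pi (h : TwoClosed π G) {L : Subgroup G} (hL : IsPiNum π (Nat.card L)) :
    Group.IsSolvable L := by
  haveI : Fact (Nat.Prime 2) := ⟨Nat.prime_two⟩
  obtain ⟨T, hTL, hT, hTn, hT2⟩ := exists_twoGroup h hL
  haveI : (T.subgroupOf L).Normal := (normal_subgroupOf_iff_le_normalizer hTL).mpr hTn
  have hT' : IsPGroup 2 (T.subgroupOf L) := hT.of_equiv (subgroupOfEquivOfLe hTL).symm
  refine isSolvable_of_ext (T.subgroupOf L) ?_ (isSolvable_of_odd ?_)
  · haveI := hT'.isNilpotent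
    infer_instance
  · obtain ⟨P⟩ : Nonempty (Sylow 2 ↥L) := inferInstance
    rw [← Subgroup.index_eq_card]
    intro e
    refine P.not_dvd_index (e.trans (index_dvd_of_le fun x hx => ?_))
    exact mem_subgroupOf.mpr (hT2 x x.2 (isTwoEl_coe.mpr (isTwoEl_of_mem P.2 hx)))

/-- The subgroup generated by the `π'`-elements of `H`. -/
def piCore (π : Set ℕ) (H : Subgroup G) : Subgroup G := closure {x | x ∈ H ∧ IsCoEl π x}

theorem piCore_le (π : Set ℕ) (H : Subgroup G) : piCore π H ≤ H := (closure_le _).mpr fun _ hx => hx.1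

theorem mem_piCore_of {H : Subgroup G} {x : G} (hx : x ∈ H) (hc : IsCoEl π x) : x ∈ piCore π H :=
  subset_closure ⟨hx, hc⟩

theorem normalizer_le_piCore (π : Set ℕ) (H : Subgroup G) :
    normalizer (H : Set G) ≤ normalizer (piCore π H : Set G) := by
  intro n hn
  refine CfsgLib.Comp.mem_normalizer_of_maps fun x hx => ?_
  induction hx using closure_induction with
  | mem y hy => exact subset_closure ⟨(mem_normalizer_iff.mp hn y).mp hy.1, hy.2.conj n⟩
  | one => simpa using one_mem (piCore π H)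
  | mul y z _ _ hy hz =>
    rw [show n * (y * z) * n⁻¹ = n * y * n⁻¹ * (n * z * n⁻¹) by group]
    exact mul_mem hy hz
  | inv y _ hy =>
    rw [show n * y⁻¹ * n⁻¹ = (n * y * n⁻¹)⁻¹ by group]
    exact inv_mem hy

theorem le_normalizer_piCore (π : Set ℕ) (H : Subgroup G) : H ≤ normalizer (piCore π H : Set G) :=
  le_normalizer.trans (normalizer_le_piCore π H)

variable {H : Subgroup G}

theorem coEl_of_mem_piCore (hc : Closed π H) {x : G} (hx : x ∈ piCore π H) : IsCoEl π x := by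
  obtain ⟨K, hK⟩ := hc
  have : piCore π H ≤ K.map H.subtype := (closure_le _).mpr fun y hy =>
    ⟨⟨y, hy.1⟩, (hK _).mpr ((isCoEl_coe (x := (⟨y, hy.1⟩ : H))).mp hy.2), rfl⟩
  obtain ⟨y, hy, rfl⟩ := this hx
  exact isCoEl_coe.mpr ((hK y).mp hy)

theorem piCore_card (hc : Closed π H) : IsCoNum π (Nat.card (piCore π H)) :=
  isCoNum_card_of fun _ hx => coEl_of_mem_piCore hc hx

theorem piCore_relIndex (hc : Closed π H) : IsPiNum π ((piCore π H).relIndex H) := by
  haveI : ((piCore π H).subgroupOf H).Normal :=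
    (normal_subgroupOf_iff_le_normalizer (piCore_le π H)).mpr (le_normalizer_piCore π H)
  intro p hp hd
  by_contra hpπ
  haveI : Fact p.Prime := ⟨hp⟩
  obtain ⟨q, hq⟩ := exists_prime_orderOf_dvd_card' (G := H ⧸ (piCore π H).subgroupOf H) p hd
  obtain ⟨n, rfl⟩ := QuotientGroup.mk'_surjective _ q
  obtain ⟨v, -, hv, e⟩ := exists_coPart (π := π) (QuotientGroup.mk' _) n (fun r hr hrd => by
    rw [hq] at hrd
    rwa [(Nat.prime_dvd_prime_iff_eq hr hp).mp hrd])
  have : QuotientGroup.mk' _ v = (1 : H ⧸ (piCore π H).subgroupOf H) :=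
    (QuotientGroup.eq_one_iff _).mpr (mem_subgroupOf.mpr (mem_piCore_of v.2 (isCoEl_coe.mpr hv)))
  rw [← e, this, orderOf_one] at hq
  exact hp.one_lt.ne hq

theorem isSolvable_of_closed (h2 : 2 ∈ π) (htc : TwoClosed π G) (hc : Closed π H) : Group.IsSolvable H := by
  haveI : ((piCore π H).subgroupOf H).Normal :=
    (normal_subgroupOf_iff_le_normalizer (piCore_le π H)).mpr (le_normalizer_piCore π H)
  have hN : IsCoNum π (Nat.card ((piCore π H).subgroupOf H)) := by
    rw [Nat.card_congr (subgroupOfEquivOfLe (piCore_le π H)).toEquiv]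
    exact piCore_card hc
  have hi : IsPiNum π ((piCore π H).subgroupOf H).index := piCore_relIndex hc
  obtain ⟨C, hC⟩ := exists_right_complement'_of_coprime (hi.coprime hN).symm
  have hCs : Group.IsSolvable C := isSolvable_of_pi (htc.subgroup H) (by rwa [← hC.symm.index_eq_card])
  refine isSolvable_of_ext ((piCore π H).subgroupOf H) (isSolvable_of_odd (hN.odd h2)) ?_
  haveI := hCs
  exact Group.isSolvable_of_surjective (f := hC.symm.QuotientMulEquiv.symm.toMonoidHom)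
    hC.symm.QuotientMulEquiv.symm.surjective

/-- `H` is the product of its `π'`-part and any Hall `π`-subgroup. -/
theorem piCore_sup_hall (hc : Closed π H) {L : Subgroup G} (hL : IsPiHallOf π L H) :
    piCore π H ⊔ L = H := by
  obtain ⟨hLH, hLπ, hLi⟩ := hL
  refine le_antisymm (sup_le (piCore_le π H) hLH) ?_
  have hn : L ≤ normalizer (piCore π H : Set G) := hLH.trans (le_normalizer_piCore π H)
  have h1 := card_sup_mul hn
  have h3 : piCore π H ⊓ L = ⊥ := inf_eq_bot_of_coprime ((IsPiNum.coprime hLπ (piCore_card hc)).symm)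
  rw [h3, card_bot, mul_one] at h1
  refine (eq_of_le_of_card_ge (sup_le (piCore_le π H) hLH) ?_).ge
  rw [h1]
  have e1 := CfsgLib.card_mul_relIndex (piCore_le π H)
  have e2 := CfsgLib.card_mul_relIndex hLH
  have h4 : (piCore π H).relIndex H ∣ Nat.card L := by
    refine (Nat.Coprime.dvd_of_dvd_mul_right ?_ (e2 ▸ e1 ▸ dvd_mul_left _ _))
    exact CfsgLib.coprime_of_pi (piCore_relIndex hc) hLi
  rw [← e1]
  exact Nat.mul_le_mul_left _ (Nat.le_of_dvd Nat.card_pos h4)

theorem exists_decomp (hc : Closed π H) {L : Subgroup G} (hL : IsPiHallOf π L H) {x : G} (hx : x ∈ H) :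
    ∃ r ∈ piCore π H, ∃ l ∈ L, x = r * l := by
  have hn : L ≤ normalizer (piCore π H : Set G) := hL.1.trans (le_normalizer_piCore π H)
  rw [← piCore_sup_hall hc hL, ← SetLike.mem_coe, coe_mul_of_right_le_normalizer_left _ _ hn] at hx
  obtain ⟨r, hr, l, hl, rfl⟩ := hx
  exact ⟨r, hr, l, hl, rfl⟩

/-- Two `π`-subgroups of `H` are brought together by an element of the `π'`-part. -/
theorem exists_piCore_conj (h2 : 2 ∈ π) (htc : TwoClosed π G) (hc : Closed π H) {L U : Subgroup G}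
    (hL : IsPiHallOf π L H) (hUH : U ≤ H) (hU : IsPiNum π (Nat.card U)) :
    ∃ r ∈ piCore π H, ∀ x ∈ U, r * x * r⁻¹ ∈ L := by
  obtain ⟨g, hg, hgU⟩ := CfsgLib.pi_le_conj_hall (isSolvable_of_closed h2 htc hc) hL hUH hU
  obtain ⟨r, hr, l, hl, e⟩ := exists_decomp hc hL (inv_mem hg)
  refine ⟨r⁻¹, inv_mem hr, fun x hx => ?_⟩
  have h1 : g * x * g⁻¹ ∈ L := hgU (Subgroup.smul_mem_pointwise_smul x (MulAut.conj g) U hx)
  have h2 := mul_mem (mul_mem hl h1) (inv_mem hl)
  rwa [show l = r⁻¹ * g⁻¹ by rw [e, inv_mul_cancel_left],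
    show r⁻¹ * g⁻¹ * (g * x * g⁻¹) * (r⁻¹ * g⁻¹)⁻¹ = r⁻¹ * x * r⁻¹⁻¹ by group] at h2

theorem Closed.of_piCore_top (hc : Closed π G) (N : Subgroup G) : Closed π N := by
  obtain ⟨K, hK⟩ := hc
  exact ⟨K.subgroupOf N, fun x => (hK x).trans isCoEl_coe⟩

end Group

/-- A minimal counterexample. -/
structure Conf (π : Set ℕ) (G : Type u) [Group G] : Prop where
  two : 2 ∈ π
  twoClosed : TwoClosed π G
  homog : Homog π G
  simple : IsSimpleGroup G
  nonab : ¬ IsMulCommutative G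
  even : 2 ∣ Nat.card G
  closed : ∀ H : Subgroup G, H ≠ ⊤ → Closed π H

section Reduction

variable {G : Type u} [Group G] [Finite G] {π : Set ℕ} {N : Subgroup G} [N.Normal]

theorem Closed.of_quotient (hN : IsCoNum π (Nat.card N)) (h : Closed π (G ⧸ N)) : Closed π G := by
  obtain ⟨K, hK⟩ := h
  refine ⟨K.comap (QuotientGroup.mk' N), fun x => ⟨fun hx => ?_, fun hx => (hK _).mpr (hx.map _)⟩⟩
  have h1 : IsCoNum π (orderOf (QuotientGroup.mk' N x)) := (hK _).mp hx
  refine (h1.mul hN).of_dvd (orderOf_dvd_of_pow_eq_one ?_)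
  rw [pow_mul]
  refine orderOf_dvd_iff_pow_eq_one.mp (Subgroup.orderOf_dvd_natCard N ((QuotientGroup.eq_one_iff _).mp ?_))
  exact (map_pow (QuotientGroup.mk' N) x _).trans (pow_orderOf_eq_one _)

theorem exists_lift (h2 : 2 ∈ π) (htc : TwoClosed π G) (hN : IsCoNum π (Nat.card N))
    {Hq : Subgroup (G ⧸ N)} (hH : IsPiNum π (Nat.card Hq)) :
    ∃ L : Subgroup G, Nat.card L = Nat.card Hq ∧ (∀ x ∈ L, QuotientGroup.mk' N x = 1 → x = 1) ∧
      L.map (QuotientGroup.mk' N) = Hq ∧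
      ∀ g : G, QuotientGroup.mk' N g ∈ normalizer (Hq : Set (G ⧸ N)) →
        ∃ k ∈ N, k * g ∈ normalizer (L : Set G) := by
  set f := QuotientGroup.mk' N
  set M := Hq.comap f with hM
  have hNM : N ≤ M := fun x hx => by
    show f x ∈ Hq
    rw [show f x = 1 from (QuotientGroup.eq_one_iff x).mpr hx]
    exact one_mem Hq
  have hNc : Nat.card (N.subgroupOf M) = Nat.card N := Nat.card_congr (subgroupOfEquivOfLe hNM).toEquiv
  have hidx : (N.subgroupOf M).index = Nat.card Hq := by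
    have h1 := relIndex_map_map f N M
    rw [QuotientGroup.map_mk'_self, relIndex_bot_left, QuotientGroup.ker_mk', sup_idem, sup_of_le_left hNM,
      map_comap_eq_self_of_surjective (QuotientGroup.mk'_surjective N)] at h1
    exact h1.symm
  obtain ⟨C, hC⟩ := exists_right_complement'_of_coprime (N := N.subgroupOf M)
    (by rw [hNc, hidx]; exact (hH.coprime hN).symm)
  set L := C.map M.subtype with hL
  have hLM : L ≤ M := map_subtype_le _
  have hLc : Nat.card L = Nat.card Hq := by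
    rw [hL, card_map_of_injective M.subtype_injective, ← hC.symm.index_eq_card, hidx]
  have hker : ∀ x ∈ L, f x = 1 → x = 1 := fun x hx e =>
    Subgroup.disjoint_def.mp (disjoint_of_coprime_natCard (hLc ▸ hH.coprime hN)) hx ((QuotientGroup.eq_one_iff x).mp e)
  have hmap : L.map f = Hq := by
    refine eq_of_le_of_card_ge ((map_mono hLM).trans (map_comap_le f Hq)) (le_of_eq ?_)
    rw [← hLc]
    exact Nat.card_eq_of_bijective (fun x : L => (⟨f x, mem_map_of_mem f x.2⟩ : L.map f))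
      ⟨fun a b e => Subtype.ext (inv_mul_eq_one.mp (hker _ (mul_mem (inv_mem a.2) b.2) (by
        rw [map_mul, map_inv, show f (a : G) = f b from congrArg Subtype.val e]; exact inv_mul_cancel _))),
        fun ⟨_, x, hx, e⟩ => ⟨⟨x, hx⟩, Subtype.ext e⟩⟩
  refine ⟨L, hLc, hker, hmap, fun g hg => ?_⟩
  haveI : (N.subgroupOf M).Normal := inferInstance
  have hsol : Group.IsSolvable M := by
    refine isSolvable_of_ext (N.subgroupOf M) (isSolvable_of_odd ?_) ?_
    · rw [hNc]; exact hN.odd h2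
    · haveI : Group.IsSolvable C := isSolvable_of_pi (htc.subgroup M) (by
        rw [← hC.symm.index_eq_card, hidx]; exact hH)
      exact Group.isSolvable_of_surjective (f := hC.symm.QuotientMulEquiv.symm.toMonoidHom)
        hC.symm.QuotientMulEquiv.symm.surjective
  have hHall : IsPiHallOf π L M := (CfsgLib.isPiHallOf_iff_card (a := Nat.card Hq) (b := Nat.card N) (by
      rw [← card_mul_index (N.subgroupOf M), hidx, hNc, mul_comm]) hH hN).mpr ⟨hLM, hLc⟩
  set U := L.map (MulAut.conj g).toMonoidHom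
  have hUM : U ≤ M := by
    rintro _ ⟨x, hx, rfl⟩
    show f (g * x * g⁻¹) ∈ Hq
    rw [map_mul, map_mul, map_inv]
    exact (mem_normalizer_iff.mp hg (f x)).mp (hmap ▸ mem_map_of_mem f hx)
  have hUc : IsPiNum π (Nat.card U) := by
    rw [card_map_of_injective (MulEquiv.injective (MulAut.conj g)), hLc]
    exact hH
  obtain ⟨h, hh, hhU⟩ := CfsgLib.pi_le_conj_hall hsol hHall hUM hUc
  obtain ⟨l, hl, e⟩ : ∃ l ∈ L, f l = f h := hmap.ge (show f h ∈ Hq from hh)
  refine ⟨l⁻¹ * h, (QuotientGroup.eq_one_iff _).mp ?_, CfsgLib.Comp.mem_normalizer_of_maps fun x hx => ?_⟩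
  · show f (l⁻¹ * h) = 1
    rw [map_mul, map_inv, e, inv_mul_cancel]
  · have h1 : h * (g * x * g⁻¹) * h⁻¹ ∈ L :=
      hhU (Subgroup.smul_mem_pointwise_smul _ (MulAut.conj h) U (mem_map_of_mem _ hx))
    have h3 := mul_mem (mul_mem (inv_mem hl) h1) hl
    rwa [show l⁻¹ * h * g * x * (l⁻¹ * h * g)⁻¹ = l⁻¹ * (h * (g * x * g⁻¹) * h⁻¹) * l by group]

theorem TwoClosed.quotient (h2 : 2 ∈ π) (htc : TwoClosed π G) (hN : IsCoNum π (Nat.card N)) :
    TwoClosed π (G ⧸ N) := by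
  intro Hq hH x hx y hy hx2 hy2
  obtain ⟨L, hc, hker, hmap, -⟩ := exists_lift h2 htc hN hH
  obtain ⟨a, ha, rfl⟩ := hmap.ge hx
  obtain ⟨b, hb, rfl⟩ := hmap.ge hy
  have key : ∀ z ∈ L, orderOf (QuotientGroup.mk' N z) = orderOf z := fun z hz =>
    Nat.dvd_antisymm (orderOf_map_dvd _ _) (orderOf_dvd_of_pow_eq_one (hker _ (pow_mem hz _) (by
      rw [map_pow, pow_orderOf_eq_one])))
  have ha2 : IsTwoEl a := by unfold IsTwoEl at hx2 ⊢; rwa [key a ha] at hx2
  have hb2 : IsTwoEl b := by unfold IsTwoEl at hy2 ⊢; rwa [key b hb] at hy2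
  have h := htc L (hc ▸ hH) a ha b hb ha2 hb2
  rw [← map_mul]
  unfold IsTwoEl at h ⊢
  rwa [key _ (mul_mem ha hb)]

theorem Homog.quotient (h2 : 2 ∈ π) (htc : TwoClosed π G) (hh : Homog π G) (hN : IsCoNum π (Nat.card N)) :
    Homog π (G ⧸ N) := by
  intro Hq h0 hH q hq hco x hx
  obtain ⟨L, hc, -, hmap, hn⟩ := exists_lift h2 htc hN hH
  obtain ⟨g, rfl⟩ := QuotientGroup.mk'_surjective N q
  obtain ⟨k, hk, hkg⟩ := hn g hq
  have e : QuotientGroup.mk' N (k * g) = QuotientGroup.mk' N g := by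
    rw [map_mul, show QuotientGroup.mk' N k = 1 from (QuotientGroup.eq_one_iff k).mpr hk, one_mul]
  obtain ⟨v, hv, hvc, hve⟩ := exists_coPart (π := π) (QuotientGroup.mk' N) (k * g) (e.symm ▸ hco)
  obtain ⟨a, ha, rfl⟩ := hmap.ge hx
  have h1 := hh L (fun e0 => h0 (by rw [← hmap, e0, Subgroup.map_bot])) (hc ▸ hH) v
    ((zpowers_le.mpr hkg) hv) hvc a ha
  rw [← e, ← hve, ← map_mul, ← map_mul, h1]

theorem TwoClosed.quotient_pi (htc : TwoClosed π G) (hN : IsPiNum π (Nat.card N)) : TwoClosed π (G ⧸ N) := by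
  intro Hq hH x hx y hy hx2 hy2
  set M := Hq.comap (QuotientGroup.mk' N)
  have hM : IsPiNum π (Nat.card M) := isPiNum_card_of fun z hz hco => by
    have h1 : QuotientGroup.mk' N z = 1 := eq_one_of_pi_of_coEl hH hz (hco.map _)
    exact eq_one_of_pi_of_coEl hN ((QuotientGroup.eq_one_iff z).mp h1) hco
  obtain ⟨a, rfl⟩ := QuotientGroup.mk'_surjective N x
  obtain ⟨b, rfl⟩ := QuotientGroup.mk'_surjective N y
  obtain ⟨a', ha', ha2, hae⟩ := exists_twoPart _ a hx2
  obtain ⟨b', hb', hb2, hbe⟩ := exists_twoPart _ b hy2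
  have h := htc M hM a' ((zpowers_le.mpr (show a ∈ M from hx)) ha') b' ((zpowers_le.mpr (show b ∈ M from hy)) hb')
    ha2 hb2
  rw [← hae, ← hbe, ← map_mul]
  obtain ⟨j, hj⟩ := h
  obtain ⟨i, -, hi⟩ := (Nat.dvd_prime_pow Nat.prime_two).mp (hj ▸ orderOf_map_dvd (QuotientGroup.mk' N) (a' * b'))
  exact ⟨i, hi⟩

theorem Homog.quotient_pi (hh : Homog π G) (hN : IsPiNum π (Nat.card N)) : Homog π (G ⧸ N) := by
  intro Hq h0 hH q hq hco x hx
  set M := Hq.comap (QuotientGroup.mk' N)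
  have hM : IsPiNum π (Nat.card M) := isPiNum_card_of fun z hz hcz => by
    have h1 : QuotientGroup.mk' N z = 1 := eq_one_of_pi_of_coEl hH hz (hcz.map _)
    exact eq_one_of_pi_of_coEl hN ((QuotientGroup.eq_one_iff z).mp h1) hcz
  obtain ⟨g, rfl⟩ := QuotientGroup.mk'_surjective N q
  obtain ⟨a, rfl⟩ := QuotientGroup.mk'_surjective N x
  obtain ⟨v, -, hv, e⟩ := exists_coPart (π := π) (QuotientGroup.mk' N) g hco
  by_cases hM0 : M = ⊥
  · have : a = 1 := (eq_bot_iff_forall _).mp hM0 a hx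
    rw [this, map_one, one_mul, mul_one]
  · have hvn : v ∈ normalizer (M : Set G) := CfsgLib.Comp.mem_normalizer_of_maps fun z hz => by
      show QuotientGroup.mk' N (v * z * v⁻¹) ∈ Hq
      rw [map_mul, map_mul, map_inv, e]
      exact (mem_normalizer_iff.mp hq _).mp hz
    rw [← e, ← map_mul, ← map_mul, hh M hM0 hM v hvn hv a hx]

end Reduction

/-- The reduction to a simple group. -/
theorem closed_of_conf {π : Set ℕ} (h2 : 2 ∈ π)
    (key : ∀ (Γ : Type u) [Group Γ] [Finite Γ], Conf π Γ → False)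
    (G : Type u) [Group G] [Finite G] (htc : TwoClosed π G) (hh : Homog π G) : Closed π G := by
  classical
  suffices H : ∀ (n : ℕ) (Γ : Type u) [Group Γ] [Finite Γ], Nat.card Γ = n → TwoClosed π Γ → Homog π Γ →
      Closed π Γ from H _ G rfl htc hh
  intro n
  induction n using Nat.strong_induction_on with
  | _ n IH =>
  intro Γ _ _ hn htc hh
  have sub : ∀ M : Subgroup Γ, M ≠ ⊤ → Closed π M := fun M hM => by
    refine IH _ (hn ▸ lt_of_le_of_ne (card_le_card_group M) fun e => hM (eq_top_of_card_eq M e)) M rfl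
      (htc.subgroup M) (hh.subgroup M)
  by_contra hc
  have quot : ∀ (N : Subgroup Γ) [N.Normal], N ≠ ⊥ → Nat.card (Γ ⧸ N) < n := fun N _ h0 => by
    rw [← hn, card_eq_card_quotient_mul_card_subgroup N]
    exact lt_mul_of_one_lt_right Nat.card_pos ((one_lt_card_iff_ne_bot N).mpr h0)
  have nonsimple : ∀ (N : Subgroup Γ) [N.Normal], N = ⊥ ∨ N = ⊤ := by
    intro N hNn
    by_contra hN
    push Not at hN
    obtain ⟨h0, h1⟩ := hN
    haveI hRn : (piCore π N).Normal := by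
      refine normalizer_eq_top_iff.mp (top_le_iff.mp ?_)
      rw [← normalizer_eq_top_iff.mpr hNn]
      exact normalizer_le_piCore π N
    by_cases hR : piCore π N = ⊥
    · have hNπ : IsPiNum π (Nat.card N) := isPiNum_card_of fun x hx hco =>
        (eq_bot_iff_forall _).mp hR x (mem_piCore_of hx hco)
      obtain ⟨K, hK⟩ := IH _ (quot N h0) (Γ ⧸ N) rfl (htc.quotient_pi hNπ) (hh.quotient_pi hNπ)
      set f := QuotientGroup.mk' N
      set M := K.comap f
      have hall : ∀ x : Γ, IsCoEl π x → x ∈ M := fun x hx => (hK _).mpr (hx.map f)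
      by_cases hM : M = ⊤
      · have hidx : IsCoNum π N.index := by
          rw [index_eq_card, ← card_top]
          refine isCoNum_card_of fun x _ => ?_
          obtain ⟨g, rfl⟩ := QuotientGroup.mk'_surjective N x
          exact (hK _).mp (show g ∈ M from hM ▸ mem_top g)
        obtain ⟨C, hC⟩ := exists_right_complement'_of_coprime (hNπ.coprime hidx)
        have hCc : IsCoNum π (Nat.card C) := by rwa [← hC.symm.index_eq_card]
        refine hc ⟨C, fun x => ⟨fun hx => hCc.of_dvd (orderOf_dvd_natCard C hx), fun hx => ?_⟩⟩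
        obtain ⟨m, hm, c, hcC, e⟩ : ∃ m ∈ N, ∃ c ∈ C, m * c = x := by
          obtain ⟨⟨m, c⟩, e⟩ := hC.2 x
          exact ⟨m, m.2, c, c.2, e⟩
        have hcomm : ∀ y ∈ C, ∀ z ∈ N, y * z = z * y := fun y hy =>
          hh N h0 hNπ y (normalizer_eq_top_iff.mpr hNn ▸ mem_top y) (hCc.of_dvd (orderOf_dvd_natCard C hy))
        have hxm : Commute x m := by
          rw [← e]
          exact (Commute.refl m).mul_left (hcomm c hcC m hm)
        have hm1 : IsCoEl π m := by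
          have e2 : m = x * c⁻¹ := by rw [← e, mul_inv_cancel_right]
          have hxc : Commute x c⁻¹ := by
            rw [← e]
            exact (show Commute m c from (hcomm c hcC m hm).symm).inv_right.mul_left (Commute.refl c).inv_right
          refine (hx.mul (hCc.of_dvd (orderOf_dvd_natCard C (inv_mem hcC)))).of_dvd ?_
          rw [e2]
          exact hxc.orderOf_mul_dvd_mul_orderOf
        rw [← e, eq_one_of_pi_of_coEl hNπ hm hm1, one_mul]
        exact hcC
      · obtain ⟨K', hK'⟩ := sub M hM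
        refine hc ⟨K'.map M.subtype, fun x => ⟨?_, fun hx => ?_⟩⟩
        · rintro ⟨y, hy, rfl⟩
          exact isCoEl_coe.mpr ((hK' y).mp hy)
        · exact ⟨⟨x, hall x hx⟩, (hK' _).mpr (isCoEl_coe.mp hx), rfl⟩
    · have hco : IsCoNum π (Nat.card (piCore π N)) := piCore_card (sub N h1)
      exact hc (Closed.of_quotient hco (IH _ (quot _ hR) _ rfl (htc.quotient h2 hco) (hh.quotient h2 htc hco)))
  haveI : Nontrivial Γ := by
    by_contra h
    rw [not_nontrivial_iff_subsingleton] at h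
    exact hc ⟨⊤, fun x => ⟨fun _ => by rw [Subsingleton.elim x 1, IsCoEl, orderOf_one]; exact isCoNum_one,
      fun _ => mem_top x⟩⟩
  have hs : IsSimpleGroup Γ := ⟨fun N hN => @nonsimple N hN⟩
  have hnab : ¬ IsMulCommutative Γ := by
    intro hcomm
    haveI := hcomm
    letI : CommGroup Γ := { (inferInstance : Group Γ) with mul_comm := hcomm.is_comm.comm }
    have hp : (Nat.card Γ).Prime := IsSimpleGroup.prime_card
    refine hc ?_
    by_cases hpπ : Nat.card Γ ∈ π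
    · refine ⟨⊥, fun x => ⟨fun hx => ?_, fun hx => ?_⟩⟩
      · rw [mem_bot.mp hx, IsCoEl, orderOf_one]; exact isCoNum_one
      · refine mem_bot.mpr (orderOf_eq_one_iff.mp (eq_one_of_pi_co ?_ hx))
        intro q hq hqd
        rwa [(Nat.prime_dvd_prime_iff_eq hq hp).mp (hqd.trans (orderOf_dvd_natCard x))]
    · exact ⟨⊤, fun x => ⟨fun _ q hq hqd => by
        rwa [(Nat.prime_dvd_prime_iff_eq hq hp).mp (hqd.trans (orderOf_dvd_natCard x))], fun _ => mem_top x⟩⟩
  have heven : 2 ∣ Nat.card Γ := by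
    by_contra h
    haveI := isSolvable_of_odd h
    exact hnab ⟨⟨IsSimpleGroup.comm_iff_isSolvable.mpr inferInstance⟩⟩
  exact key Γ ⟨h2, htc, hh, hs, hnab, heven, sub⟩

end CfsgLib.PiClosedTwo
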