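import Cfsg.Agent.Lib.PiClosedTwo.Basic
import Cfsg.Agent.S0215

/-!
A minimal counterexample: no odd `π`-element is real, and the centre of a Sylow `2`-subgroup is not cyclic.
-/

set_option autoImplicit false
set_option linter.unusedSectionVars false
set_option linter.style.haveILetI false

namespace CfsgLib.PiClosedTwo

open Subgroup Cfsg CfsgLib.HallE8 CfsgLib.ZCReduction
open scoped Pointwise

universe u

variable {G : Type u} [Group G] [Finite G] {π : Set ℕ}

theorem exists_lt_normalizer {p : ℕ} [Fact p.Prime] {P D : Subgroup G} (hP : IsPGroup p P) (hlt : D < P) :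
    ∃ A : Subgroup G, A ≤ P ∧ A ≤ normalizer (D : Set G) ∧ D < A := by
  refine ⟨P ⊓ normalizer (D : Set G), inf_le_left, inf_le_right,
    lt_of_le_of_ne (le_inf hlt.le le_normalizer) fun e => ?_⟩
  haveI := hP.isNilpotent
  have hne : D.subgroupOf P < ⊤ := lt_top_iff_ne_top.mpr fun e' => hlt.not_ge (subgroupOf_eq_top.mp e')
  obtain ⟨-, x, hx, hxD⟩ := SetLike.lt_iff_le_and_exists.mp (Group.normalizerCondition_of_isNilpotent _ hne)
  refine hxD (mem_subgroupOf.mpr (e.ge ⟨x.2, CfsgLib.Comp.mem_normalizer_of_maps fun w hw => ?_⟩))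
  exact (mem_normalizer_iff.mp hx ⟨w, hlt.le hw⟩).mp hw

theorem isPiNum_of_isPGroup {p : ℕ} [hp : Fact p.Prime] (hpπ : p ∈ π) {P : Subgroup G} (hP : IsPGroup p P) :
    IsPiNum π (Nat.card P) := by
  obtain ⟨k, hk⟩ := IsPGroup.iff_card.mp hP
  intro q hq hd
  rw [hk] at hd
  rwa [(Nat.prime_dvd_prime_iff_eq hq hp.out).mp (hq.dvd_of_dvd_pow hd)]

/-- An odd `π`-element inverted by some element is trivial. -/
theorem eq_one_of_inverted (h2 : 2 ∈ π) (htc : TwoClosed π G) {x g : G} (hx : IsPiNum π (orderOf x))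
    (hodd : Odd (orderOf x)) (hg : g * x * g⁻¹ = x⁻¹) : x = 1 := by
  obtain ⟨k, m, hm, hk⟩ := Nat.exists_eq_two_pow_mul_odd (orderOf_pos g).ne'
  obtain ⟨i, rfl⟩ := hm
  set w := g ^ (2 * i + 1) with hw
  have hw2 : IsTwoEl w := by
    obtain ⟨j, -, hj⟩ := (Nat.dvd_prime_pow Nat.prime_two).mp (orderOf_dvd_of_pow_eq_one
      (show w ^ 2 ^ k = 1 by rw [hw, ← pow_mul, mul_comm, ← hk, pow_orderOf_eq_one]))
    exact ⟨j, hj⟩
  have hsq : Commute (g ^ 2) x := by
    refine (mul_inv_eq_iff_eq_mul.mp ?_ : g ^ 2 * x = x * g ^ 2)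
    calc g ^ 2 * x * (g ^ 2)⁻¹ = g * (g * x * g⁻¹) * g⁻¹ := by rw [pow_two]; group
      _ = g * x⁻¹ * g⁻¹ := by rw [hg]
      _ = (g * x * g⁻¹)⁻¹ := by group
      _ = x := by rw [hg, inv_inv]
  have hwx : w * x * w⁻¹ = x⁻¹ := by
    rw [hw, pow_succ', pow_mul]
    calc g * (g ^ 2) ^ i * x * (g * (g ^ 2) ^ i)⁻¹ = g * ((g ^ 2) ^ i * x) * ((g ^ 2) ^ i)⁻¹ * g⁻¹ := by group
      _ = g * (x * (g ^ 2) ^ i) * ((g ^ 2) ^ i)⁻¹ * g⁻¹ := by rw [(hsq.pow_left i).eq]
      _ = g * x * g⁻¹ := by group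
      _ = x⁻¹ := hg
  have hn : zpowers w ≤ normalizer (zpowers x : Set G) := zpowers_le.mpr
    (CfsgLib.Comp.mem_normalizer_of_maps fun y hy => by
      obtain ⟨j, rfl⟩ := mem_zpowers_iff.mp hy
      rw [← conj_zpow, hwx]
      exact zpow_mem (inv_mem (mem_zpowers x)) j)
  set U := zpowers x ⊔ zpowers w
  have hU : IsPiNum π (Nat.card U) := by
    have h := card_sup_mul hn
    obtain ⟨j, hj⟩ := hw2
    refine (hx.mul (isPiNum_two_pow h2 j)).of_dvd ?_
    rw [← Nat.card_zpowers x, ← hj, ← Nat.card_zpowers w, ← h]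
    exact dvd_mul_right _ _
  have hxU : x ∈ U := mem_sup_left (mem_zpowers x)
  have hwU : w ∈ U := mem_sup_right (mem_zpowers w)
  have h := htc U hU _ (mul_mem (mul_mem hxU hwU) (inv_mem hxU)) w⁻¹ (inv_mem hwU) (hw2.conj x) hw2.inv
  rw [show x * w * x⁻¹ * w⁻¹ = x * (w * x * w⁻¹)⁻¹ by group, hwx, inv_inv] at h
  obtain ⟨j, hj⟩ := h
  have h4 : orderOf (x * x) ∣ orderOf x := orderOf_dvd_of_pow_eq_one (by
    rw [← pow_two, ← pow_mul, mul_comm, pow_mul, pow_orderOf_eq_one, one_pow])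
  have h5 : x * x = 1 := orderOf_eq_one_iff.mp (Nat.dvd_one.mp (by
    have := Nat.dvd_gcd (hj ▸ dvd_rfl : orderOf (x * x) ∣ 2 ^ j) h4
    rwa [((Nat.coprime_two_left.mpr hodd).pow_left j).gcd_eq_one] at this))
  have h6 : orderOf x ∣ 2 := orderOf_dvd_of_pow_eq_one (by rw [pow_two, h5])
  exact orderOf_eq_one_iff.mp (Nat.eq_one_of_dvd_coprimes (Nat.coprime_two_left.mpr hodd).symm dvd_rfl h6)

namespace Conf

theorem normal_cases (h : Conf π G) (N : Subgroup G) [N.Normal] : N = ⊥ ∨ N = ⊤ :=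
  CfsgLib.HallE8.normal_cases h.simple N

theorem normalizer_ne_top (h : Conf π G) {K : Subgroup G} (h0 : K ≠ ⊥) (h1 : K ≠ ⊤) :
    normalizer (K : Set G) ≠ ⊤ := CfsgLib.HallE8.normalizer_ne_top h.simple h0 h1

theorem center_eq_bot (h : Conf π G) : center G = ⊥ := (h.normal_cases _).resolve_right fun e =>
  h.nonab ⟨⟨fun a b => mem_center_iff.mp (e ▸ mem_top b) a⟩⟩

theorem cent_ne_top (h : Conf π G) {t : G} (ht : t ≠ 1) : centralizer ({t} : Set G) ≠ ⊤ := fun e =>
  ht (mem_bot.mp (h.center_eq_bot ▸ mem_center_iff.mpr fun g => commute_of_mem_cent (e ▸ mem_top g)))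

theorem mem_piCore (h : Conf π G) {H : Subgroup G} (hH : H ≠ ⊤) {x : G} :
    x ∈ piCore π H ↔ x ∈ H ∧ IsCoEl π x :=
  ⟨fun hx => ⟨piCore_le π H hx, coEl_of_mem_piCore (h.closed H hH) hx⟩, fun hx => mem_piCore_of hx.1 hx.2⟩

theorem solvable (h : Conf π G) {H : Subgroup G} (hH : H ≠ ⊤) : Group.IsSolvable H :=
  isSolvable_of_closed h.two h.twoClosed (h.closed H hH)

theorem exists_hall (h : Conf π G) {H U : Subgroup G} (hH : H ≠ ⊤) (hUH : U ≤ H) (hU : IsPiNum π (Nat.card U)) :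
    ∃ L : Subgroup G, IsPiHallOf π L H ∧ U ≤ L := by
  obtain ⟨L, hL⟩ := CfsgLib.exists_isPiHallOf π (h.solvable hH)
  obtain ⟨g, hg, hgU⟩ := CfsgLib.pi_le_conj_hall (h.solvable hH) hL hUH hU
  refine ⟨MulAut.conj g⁻¹ • L, CfsgLib.isPiHallOf_conj_smul hL (le_normalizer (inv_mem hg)), fun x hx => ?_⟩
  rw [CfsgLib.mem_conj_smul_iff]
  have := hgU (Subgroup.smul_mem_pointwise_smul x (MulAut.conj g) U hx)
  simpa [mul_assoc] using this

theorem cent_of_coEl (h : Conf π G) {X : Subgroup G} (hX : IsPiNum π (Nat.card X)) {g : G}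
    (hg : g ∈ normalizer (X : Set G)) (hco : IsCoEl π g) {x : G} (hx : x ∈ X) : g * x = x * g := by
  by_cases h0 : X = ⊥
  · rw [mem_bot.mp (h0 ▸ hx : x ∈ (⊥ : Subgroup G)), mul_one, one_mul]
  · exact h.homog X h0 hX g hg hco x hx

theorem piCore_cent (h : Conf π G) {X : Subgroup G} (hX : IsPiNum π (Nat.card X))
    (hN : normalizer (X : Set G) ≠ ⊤) {r x : G} (hr : r ∈ piCore π (normalizer (X : Set G))) (hx : x ∈ X) :
    r * x = x * r :=
  h.cent_of_coEl hX (piCore_le π _ hr) ((h.mem_piCore hN).mp hr).2 hx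

theorem no_real (h : Conf π G) {x g : G} (hx : IsPiNum π (orderOf x)) (hodd : Odd (orderOf x))
    (hg : g * x * g⁻¹ = x⁻¹) : x = 1 := eq_one_of_inverted h.two h.twoClosed hx hodd hg

theorem sylow_ne_top (h : Conf π G) (S : Sylow 2 G) : (S : Subgroup G) ≠ ⊤ := fun e => by
  haveI : Fact (Nat.Prime 2) := ⟨Nat.prime_two⟩
  haveI := h.simple
  have hP : IsPGroup 2 G := (e ▸ S.2).of_equiv Subgroup.topEquiv
  haveI := hP.isNilpotent
  exact h.nonab ⟨⟨IsSimpleGroup.comm_iff_isSolvable.mpr inferInstance⟩⟩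

theorem sylow_ne_bot (h : Conf π G) (S : Sylow 2 G) : (S : Subgroup G) ≠ ⊥ := by
  haveI : Fact (Nat.Prime 2) := ⟨Nat.prime_two⟩
  intro e
  have := S.dvd_card_of_dvd_card h.even
  rw [e, card_bot] at this
  omega

end Conf

/-- A central involution of a Sylow `2`-subgroup. -/
def IsCentInv (T : Sylow 2 G) (z : G) : Prop :=
  z ∈ (T : Subgroup G) ∧ IsInvol z ∧ ∀ s ∈ (T : Subgroup G), z * s = s * z

theorem IsCentInv.conj {T : Sylow 2 G} {z : G} (h : IsCentInv T z) (g : G) :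
    IsCentInv (g • T) (g * z * g⁻¹) := by
  refine ⟨?_, h.2.1.conj g, fun s hs => ?_⟩
  · rw [Sylow.coe_subgroup_smul]
    exact Subgroup.smul_mem_pointwise_smul z (MulAut.conj g) (T : Subgroup G) h.1
  · rw [Sylow.coe_subgroup_smul] at hs
    obtain ⟨w, hw, rfl⟩ := hs
    exact conj_commute g (h.2.2 w hw)

theorem exists_centInv (h : Conf π G) (T : Sylow 2 G) : ∃ z : G, IsCentInv T z := by
  haveI : Fact (Nat.Prime 2) := ⟨Nat.prime_two⟩
  haveI : Nontrivial (T : Subgroup G) := (Subgroup.nontrivial_iff_ne_bot _).mpr (h.sylow_ne_bot T)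
  haveI := T.2.center_nontrivial
  obtain ⟨k, hk, hc⟩ := (T.2.to_subgroup (center (T : Subgroup G))).nontrivial_iff_card.mp inferInstance
  obtain ⟨z, hz⟩ := exists_prime_orderOf_dvd_card' (G := center (T : Subgroup G)) 2
    (hc ▸ dvd_pow_self 2 hk.ne')
  refine ⟨((z : (T : Subgroup G)) : G), (z : (T : Subgroup G)).2, isInvol_of_orderOf ?_, fun s hs => ?_⟩
  · rw [Subgroup.orderOf_coe, Subgroup.orderOf_coe, hz]
  · exact (congrArg Subtype.val (mem_center_iff.mp z.2 ⟨s, hs⟩)).symm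

namespace Conf

theorem exists_two_central (h : Conf π G) (S : Sylow 2 G) :
    ∃ a b : G, IsCentInv S a ∧ IsCentInv S b ∧ a ≠ b := by
  classical
  haveI : Fact (Nat.Prime 2) := ⟨Nat.prime_two⟩
  by_contra hcon
  push Not at hcon
  -- uniqueness in every Sylow subgroup
  have huniq : ∀ (T : Sylow 2 G) (x y : G), IsCentInv T x → IsCentInv T y → x = y := by
    intro T x y hx hy
    obtain ⟨g, hg⟩ := MulAction.exists_smul_eq G T S
    have := hcon _ _ (hg ▸ hx.conj g) (hg ▸ hy.conj g)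
    exact mul_left_cancel (mul_right_cancel this)
  have hconj : ∀ (T T' : Sylow 2 G) (x y : G), IsCentInv T x → IsCentInv T' y → IsConj x y := by
    intro T T' x y hx hy
    obtain ⟨g, hg⟩ := MulAction.exists_smul_eq G T T'
    exact isConj_iff.mpr ⟨g, huniq T' _ _ (hg ▸ hx.conj g) hy⟩
  have claim : ∀ (n : ℕ) (T : Sylow 2 G) (z w : G), IsCentInv T z → w ∈ (T : Subgroup G) → IsConj z w →
      Nat.card (T : Subgroup G) - Nat.card ↥((T : Subgroup G) ⊓ centralizer ({w} : Set G)) ≤ n → w = z := by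
    intro n
    induction n with
    | zero =>
      intro T z w hz hw hzw hle
      have e : (T : Subgroup G) ⊓ centralizer ({w} : Set G) = T :=
        eq_of_le_of_card_ge inf_le_left (by omega)
      obtain ⟨g, hg⟩ := isConj_iff.mp hzw
      exact huniq T w z ⟨hw, hg ▸ hz.2.1.conj g, fun s hs =>
        (commute_of_mem_cent ((e.ge hs).2 : s ∈ centralizer ({w} : Set G))).symm⟩ hz
    | succ n IH =>
      intro T z w hz hw hzw hle
      obtain ⟨g, hg⟩ := isConj_iff.mp hzw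
      have hwi : IsInvol w := hg ▸ hz.2.1.conj g
      set D := (T : Subgroup G) ⊓ centralizer ({w} : Set G)
      have hwD : w ∈ D := ⟨hw, mem_cent_of_commute rfl⟩
      have hzD : z ∈ D := ⟨hz.1, mem_cent_of_commute (hz.2.2 w hw)⟩
      by_cases hDT : D = T
      · exact huniq T w z ⟨hw, hwi, fun s hs => (commute_of_mem_cent ((hDT.ge hs).2)).symm⟩ hz
      -- a Sylow subgroup of `C(w)` through `D`
      have hD2 : IsPGroup 2 D := T.2.to_le inf_le_left
      have hT0 : ((g • T : Sylow 2 G) : Subgroup G) ≤ centralizer ({w} : Set G) := fun s hs =>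
        mem_cent_of_commute (((hg ▸ hz.conj g : IsCentInv (g • T) w)).2.2 s hs).symm
      obtain ⟨P, hP⟩ := (hD2.of_equiv (subgroupOfEquivOfLe (inf_le_right : D ≤ centralizer ({w} : Set G))).symm
        ).exists_le_sylow
      have hPc : Nat.card (P : Subgroup (centralizer ({w} : Set G))) = Nat.card (T : Subgroup G) := by
        have h2 := Sylow.coe_subtype (g • T) hT0
        rw [P.card_eq_multiplicity, ← ((g • T).subtype hT0).card_eq_multiplicity, h2,
          Nat.card_congr (subgroupOfEquivOfLe hT0).toEquiv, Sylow.card_eq_multiplicity, Sylow.card_eq_multiplicity]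
      set Q := (P : Subgroup (centralizer ({w} : Set G))).map (centralizer ({w} : Set G)).subtype with hQ
      have hQc : Nat.card Q = Nat.card (T : Subgroup G) := by
        rw [hQ, card_map_of_injective (subtype_injective _), hPc]
      have hDQ : D ≤ Q := fun x hx => ⟨⟨x, hx.2⟩, hP (show (⟨x, hx.2⟩ : centralizer ({w} : Set G)) ∈ _ from hx), rfl⟩
      have hQC : Q ≤ centralizer ({w} : Set G) := map_subtype_le _
      let Q' : Sylow 2 G := Sylow.ofCard Q (by rw [hQc, T.card_eq_multiplicity])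
      have hQ' : (Q' : Subgroup G) = Q := rfl
      have hcw : IsCentInv Q' w := ⟨hDQ hwD, hwi, fun s hs => (commute_of_mem_cent (hQC hs)).symm⟩
      -- the normalizer of `D`
      have hD0 : D ≠ ⊥ := fun e => hwi.1 (mem_bot.mp (e ▸ hwD))
      have hDtop : D ≠ ⊤ := fun e => h.cent_ne_top hwi.1 (top_le_iff.mp (e ▸ (inf_le_right : D ≤ _)))
      set N := normalizer (D : Set G)
      have hN : N ≠ ⊤ := h.normalizer_ne_top hD0 hDtop
      have hDπ : IsPiNum π (Nat.card D) := isPiNum_of_isPGroup h.two hD2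
      obtain ⟨A, hA, hAN, hDA⟩ := exists_lt_normalizer T.2 (lt_of_le_of_ne inf_le_left hDT)
      obtain ⟨B, hB, hBN, hDB⟩ := exists_lt_normalizer Q'.2 (D := D)
        (lt_of_le_of_ne hDQ fun e => hDT (eq_of_le_of_card_ge inf_le_left (by rw [← hQc]; exact card_le_of_le (hQ' ▸ e.ge : Q ≤ D))))
      obtain ⟨L, hL, hAL⟩ := h.exists_hall hN hAN (isPiNum_of_isPGroup h.two (T.2.to_le hA))
      obtain ⟨r, hr, hrB⟩ := exists_piCore_conj h.two h.twoClosed (h.closed N hN) hL hBN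
        (isPiNum_of_isPGroup h.two (Q'.2.to_le hB))
      obtain ⟨P2, hP2L, hP2, -, hP2m⟩ := exists_twoGroup h.twoClosed hL.2.1
      obtain ⟨T', hT'⟩ := hP2.exists_le_sylow
      have hfix : ∀ x ∈ D, r * x * r⁻¹ = x := fun x hx => by
        rw [h.piCore_cent hDπ hN hr hx, mul_inv_cancel_right]
      have hAT : A ≤ (T' : Subgroup G) := fun x hx => hT' (hP2m x (hAL hx) (isTwoEl_of_mem T.2 (hA hx)))
      have hBT : ∀ x ∈ B, r * x * r⁻¹ ∈ (T' : Subgroup G) := fun x hx =>
        hT' (hP2m _ (hrB x hx) ((isTwoEl_of_mem Q'.2 (hB hx)).conj r))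
      obtain ⟨z', hz'⟩ := exists_centInv h T'
      have hcard : Nat.card (T' : Subgroup G) = Nat.card (T : Subgroup G) := by
        rw [T'.card_eq_multiplicity, T.card_eq_multiplicity]
      have hle' : Nat.card ↥D ≤ Nat.card (T : Subgroup G) := card_le_of_le inf_le_left
      have step : ∀ v : G, IsConj z v → v ∈ D → ∀ E : Subgroup G, Nat.card D < Nat.card E →
          E ≤ (T' : Subgroup G) ⊓ centralizer ({v} : Set G) → v = z' := by
        intro v hv hvD E hE hEle
        refine IH T' z' v hz' (hAT (hDA.le hvD)) ((hconj T' T z' z hz' hz).trans hv) ?_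
        have := card_le_of_le hEle
        rw [hcard]
        omega
      have h1 : z = z' := step z (IsConj.refl z) hzD A
        (Nat.lt_of_not_le fun hc => hDA.ne (eq_of_le_of_card_ge hDA.le hc))
        (fun x hx => ⟨hAT hx, mem_cent_of_commute (hz.2.2 x (hA hx)).symm⟩)
      have h2 : w = z' := step w hzw hwD (B.map (MulAut.conj r).toMonoidHom)
        (by rw [card_map_of_injective (MulEquiv.injective (MulAut.conj r))]
            exact Nat.lt_of_not_le fun hc => hDB.ne (eq_of_le_of_card_ge hDB.le hc))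
        (by
          rintro _ ⟨x, hx, rfl⟩
          refine ⟨hBT x hx, mem_cent_of_commute ?_⟩
          have := conj_commute r (hcw.2.2 x (hB hx)).symm
          rwa [hfix w hwD] at this)
      rw [h2, h1]
  obtain ⟨z, hz⟩ := exists_centInv h S
  obtain ⟨N, hN, hNodd, hNz⟩ := Cfsg.Agent.S0215.result S z hz.2.1.orderOf_eq hz.1
    fun g hg => claim _ S z _ hz hg (isConj_iff.mpr ⟨g, rfl⟩) le_rfl
  haveI := hN
  rcases h.normal_cases N with rfl | rfl
  · refine hz.2.1.1 (mem_bot.mp (h.center_eq_bot ▸ mem_center_iff.mpr fun g => ?_))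
    have := mem_bot.mp (hNz g)
    exact (mul_inv_eq_iff_eq_mul.mp (mul_inv_eq_one.mp this)).symm
  · rw [card_top] at hNodd
    exact Nat.not_even_iff_odd.mpr hNodd (even_iff_two_dvd.mpr h.even)

end Conf

end CfsgLib.PiClosedTwo
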