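import Cfsg.Agent.Lib.PiClosedTwo.SylowAct

/-!
Centralizers and fusion of `2`-elements in the remaining configuration.
-/

set_option autoImplicit false
set_option linter.unusedSectionVars false
set_option linter.style.haveILetI false

namespace CfsgLib.PiClosedTwo

open Subgroup Cfsg CfsgLib.HallE8 CfsgLib.ZCReduction
open scoped commutatorElement Pointwise

universe u

variable {G : Type u} [Group G] [Finite G] {π : Set ℕ}

theorem isTwoEl_of_sylow (S : Sylow 2 G) {s : G} (hs : s ∈ (S : Subgroup G)) : IsTwoEl s := isTwoEl_of_mem S.2 hs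

theorem eq_one_of_twoEl_odd {x : G} (hx : IsTwoEl x) {H : Subgroup G} (hH : ¬ 2 ∣ Nat.card H) (hm : x ∈ H) : x = 1 := by
  obtain ⟨k, hk⟩ := hx
  exact orderOf_eq_one_iff.mp (Nat.eq_one_of_dvd_coprimes
    ((Nat.prime_two.coprime_iff_not_dvd.mpr hH).pow_left k) (dvd_of_eq hk) (Subgroup.orderOf_dvd_natCard H hm))

namespace Two

variable {S : Sylow 2 G} {a b : G}

/-- The centralizer of an involution of `S` is its core times `S`. -/
theorem cent_decomp (h : Two π S a b) (hs : CfsgLib.SuzukiTwo.Sixty (S : Subgroup G)) {v : G} (hv : v ∈ four S h)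
    (hv1 : v ≠ 1) {g : G} (hg : g ∈ centralizer ({v} : Set G)) :
    ∃ o ∈ theta v, ∃ s ∈ (S : Subgroup G), g = o * s := by
  haveI : Fact (Nat.Prime 2) := ⟨Nat.prime_two⟩
  set C := centralizer ({v} : Set G)
  have hC : C ≠ ⊤ := h.conf.cent_ne_top hv1
  have hSC : (S : Subgroup G) ≤ C := fun s hs' => mem_cent_of_commute (h.four_comm hv hs').symm
  obtain ⟨L, hL, hSL⟩ := h.conf.exists_hall hC hSC (isPiNum_of_isPGroup h.conf.two S.2)
  have hLN : L ≤ normalizer (four S h : Set G) := h.le_normalizer_of_pi hL.2.1 (h.four_le.trans hSL)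
  have hLS : L ≤ normalizer ((S : Subgroup G) : Set G) := by
    obtain ⟨T, -, hT, hTn, hTm⟩ := exists_twoGroup h.conf.twoClosed hL.2.1
    exact (S.3 hT fun x hx => hTm x (hSL hx) (isTwoEl_of_sylow S hx)) ▸ hTn
  haveI : ((S : Subgroup G).subgroupOf L).Normal := (normal_subgroupOf_iff_le_normalizer hSL).mpr hLS
  obtain ⟨K, hK⟩ := exists_right_complement'_of_coprime (N := (S : Subgroup G).subgroupOf L) (by
    rw [Nat.card_congr (subgroupOfEquivOfLe hSL).toEquiv]
    obtain ⟨k, hk⟩ := IsPGroup.iff_card.mp S.2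
    rw [hk]
    exact (Nat.prime_two.coprime_iff_not_dvd.mpr (S.subtype hSL).not_dvd_index).pow_left k)
  set K0 := K.map L.subtype
  have hKodd : ¬ 2 ∣ Nat.card K := by
    rw [← hK.symm.index_eq_card]
    exact (S.subtype hSL).not_dvd_index
  have hK0c : Nat.card K0 = Nat.card K := card_map_of_injective L.subtype_injective
  have hK0L : K0 ≤ L := map_subtype_le _
  have hKS : ∀ k ∈ K0, ∀ s ∈ (S : Subgroup G), k * s = s * k := by
    intro k hk s hs'
    have hko : Odd (orderOf k) := Odd.of_dvd_nat (Nat.odd_iff.mpr (Nat.two_dvd_ne_zero.mp (hK0c ▸ hKodd)))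
      (Subgroup.orderOf_dvd_natCard K0 hk)
    exact (mem_centralizer_iff.mp (h.odd_cent hs (hLS (hK0L hk))
      (h.cent_of_fix (hLN (hK0L hk)) hko hv hv1 (commute_of_mem_cent (hL.1 (hK0L hk)))) hko
      (IsPiNum.of_dvd hL.2.1 (Subgroup.orderOf_dvd_natCard L (hK0L hk)))) s hs').symm
  set R := piCore π C
  have hK0R : K0 ≤ normalizer (R : Set G) := (hK0L.trans hL.1).trans (le_normalizer_piCore π C)
  set O := R ⊔ K0
  have hOC : O ≤ C := sup_le (piCore_le π C) (hK0L.trans hL.1)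
  have hOodd : ¬ 2 ∣ Nat.card O := fun e => by
    have h1 : 2 ∣ Nat.card R * Nat.card K0 := e.trans (card_sup_mul hK0R ▸ dvd_mul_right _ _)
    rcases Nat.prime_two.dvd_mul.mp h1 with e' | e'
    · exact (piCore_card (h.conf.closed C hC)).odd h.conf.two e'
    · exact hKodd (hK0c ▸ e')
  have hLdec : ∀ l ∈ L, ∃ k ∈ K0, ∃ s ∈ (S : Subgroup G), l = k * s := by
    intro l hl
    obtain ⟨⟨⟨s, hs'⟩, ⟨k, hk⟩⟩, e⟩ := hK.2 ⟨l, hl⟩
    refine ⟨(k : G), mem_map_of_mem L.subtype hk, (s : G), mem_subgroupOf.mp hs', ?_⟩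
    rw [show (k : G) * s = s * k from hKS _ (mem_map_of_mem L.subtype hk) _ (mem_subgroupOf.mp hs')]
    exact (congrArg Subtype.val e).symm
  have hdec : ∀ x ∈ C, ∃ o ∈ O, ∃ s ∈ (S : Subgroup G), x = o * s := by
    intro x hx
    obtain ⟨r, hr, l, hl, rfl⟩ := exists_decomp (h.conf.closed C hC) hL hx
    obtain ⟨k, hk, s, hs', rfl⟩ := hLdec l hl
    exact ⟨r * k, mul_mem (mem_sup_left hr) (mem_sup_right hk), s, hs', (mul_assoc _ _ _).symm⟩
  have hn : ∀ x ∈ C, ∀ o ∈ O, x * o * x⁻¹ ∈ O := by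
    intro x hx o ho
    obtain ⟨o', ho', s, hs', rfl⟩ := hdec x hx
    have hsO : s * o * s⁻¹ ∈ O := by
      rw [← SetLike.mem_coe, coe_mul_of_right_le_normalizer_left _ _ hK0R] at ho
      obtain ⟨r, hr, k, hk, rfl⟩ := ho
      show s * (r * k) * s⁻¹ ∈ O
      rw [show s * (r * k) * s⁻¹ = s * r * s⁻¹ * (s * k * s⁻¹) by group, ← hKS k hk s hs', mul_inv_cancel_right]
      exact mul_mem (mem_sup_left ((mem_normalizer_iff.mp (le_normalizer_piCore π C (hSC hs')) r).mp hr))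
        (mem_sup_right hk)
    rw [show o' * s * o * (o' * s)⁻¹ = o' * (s * o * s⁻¹) * o'⁻¹ by group]
    exact mul_mem (mul_mem ho' hsO) (inv_mem ho')
  haveI : (O.subgroupOf C).Normal := ⟨fun o ho x => hn x x.2 o ho⟩
  obtain ⟨o, ho, s, hs', e⟩ := hdec g hg
  refine ⟨o, ?_, s, hs', e⟩
  refine ⟨⟨o, hOC ho⟩, CfsgLib.le_pPrimeCore (N := O.subgroupOf C) ?_ ho, rfl⟩
  rw [Nat.card_congr (subgroupOfEquivOfLe hOC).toEquiv]
  exact (Nat.prime_two.coprime_iff_not_dvd.mpr hOodd).symm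

/-- Elements of `S` congruent modulo the core are equal. -/
theorem eq_of_mod_theta (h : Two π S a b) {z o x y : G} (ho : o ∈ theta z) (hx : x ∈ (S : Subgroup G))
    (hy : y ∈ (S : Subgroup G)) (hxc : x ∈ centralizer ({z} : Set G)) (e : o * x * o⁻¹ = y) : x = y := by
  have h1 : y * x⁻¹ ∈ theta z := by
    rw [← e, show o * x * o⁻¹ * x⁻¹ = o * (x * o⁻¹ * x⁻¹) by group]
    exact mul_mem ho ((mem_normalizer_iff.mp (theta_normalized z hxc) _).mp (inv_mem ho))
  have h2 := eq_one_of_twoEl_odd (isTwoEl_of_sylow S (mul_mem hy (inv_mem hx))) (not_two_dvd_theta z) h1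
  exact (mul_inv_eq_one.mp h2).symm

/-- A frame: an element of `N(S)` inducing an automorphism of order three. -/
structure Frame (h : Two π S a b) where
  y : G
  norm : y ∈ normalizer ((S : Subgroup G) : Set G)
  cube : ∀ s ∈ (S : Subgroup G), y ^ 3 * s = s * y ^ 3
  move : ∀ v ∈ four S h, v ≠ 1 → y * v * y⁻¹ ≠ v

theorem exists_frame (h : Two π S a b) (hs : CfsgLib.SuzukiTwo.Sixty (S : Subgroup G)) : Nonempty (Frame h) := by
  obtain ⟨y, hy, ⟨k, hk⟩, hyC⟩ := h.exists_three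
  have hyodd : Odd (orderOf y) := hk ▸ (by decide : Odd 3).pow
  set V := four S h
  have hyV := h.sylow_normalizer_le hy
  have hmove : ∀ v ∈ V, v ≠ 1 → y * v * y⁻¹ ≠ v := fun v hv hv1 e =>
    hyC (h.cent_of_fix hyV hyodd hv hv1 (mul_inv_eq_iff_eq_mul.mp e))
  have hy3 : y ^ 3 * a * (y ^ 3)⁻¹ = a := by
    set σ : G → G := fun v => y * v * y⁻¹
    have hσV : ∀ v ∈ V, σ v ∈ V := fun v hv => (mem_normalizer_iff.mp hyV v).mp hv
    have hne1 : ∀ v, v ≠ 1 → σ v ≠ 1 := fun v hv e => hv (conj_eq_one_iff.mp e)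
    have inj : ∀ v v', σ v = σ v' → v = v' := fun v v' e => mul_left_cancel (mul_right_cancel e)
    have g1 := hne1 a h.ha.2.1.1
    have g2 := hne1 _ g1
    have g3 := hne1 _ g2
    have n1 : σ a ≠ a := hmove a h.a_mem h.ha.2.1.1
    have n2 : σ (σ a) ≠ σ a := hmove _ (hσV a h.a_mem) g1
    have n3 : σ (σ (σ a)) ≠ σ (σ a) := hmove _ (hσV _ (hσV a h.a_mem)) g2
    have n4 : σ (σ a) ≠ a := fun e => by
      obtain ⟨j, hj⟩ := hyodd
      have h2 : Commute (y ^ 2) a := (mul_inv_eq_iff_eq_mul.mp (Eq.trans (by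
        show y ^ 2 * a * (y ^ 2)⁻¹ = y * (y * a * y⁻¹) * y⁻¹
        rw [pow_two]; group) e) : y ^ 2 * a = a * y ^ 2)
      have h7 := h2.pow_left (j + 1)
      rw [← pow_mul, show 2 * (j + 1) = (2 * j + 1) + 1 by ring, pow_succ, ← hj, pow_orderOf_eq_one, one_mul] at h7
      exact n1 (by show y * a * y⁻¹ = a; rw [h7.eq, mul_inv_cancel_right])
    have n5 : σ (σ (σ a)) ≠ σ a := fun e => n4 (inj _ _ e)
    by_contra e
    have e' : σ (σ (σ a)) ≠ a := fun e0 => e (Eq.trans (by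
      show y ^ 3 * a * (y ^ 3)⁻¹ = y * (y * (y * a * y⁻¹) * y⁻¹) * y⁻¹
      rw [pow_succ, pow_two]; group) e0)
    classical
    have hsub : ({1, a, σ a, σ (σ a), σ (σ (σ a))} : Finset G) ⊆ (Set.toFinite (V : Set G)).toFinset := by
      intro v hv
      simp only [Finset.mem_insert, Finset.mem_singleton] at hv
      rw [Set.Finite.mem_toFinset]
      rcases hv with rfl | rfl | rfl | rfl | rfl
      exacts [one_mem V, h.a_mem, hσV a h.a_mem, hσV _ (hσV a h.a_mem), hσV _ (hσV _ (hσV a h.a_mem))]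
    have hc := Finset.card_le_card hsub
    rw [← Set.ncard_eq_toFinset_card, ← Nat.card_coe_set_eq, SetLike.coe_sort_coe, h.card_four] at hc
    rw [Finset.card_insert_of_notMem (by simp [h.ha.2.1.1.symm, g1.symm, g2.symm, g3.symm]),
      Finset.card_insert_of_notMem (by simp [n1.symm, n4.symm, e'.symm]),
      Finset.card_insert_of_notMem (by simp [n2.symm, n5.symm]),
      Finset.card_insert_of_notMem (by simp [n3.symm]), Finset.card_singleton] at hc
    omega
  have ho3 : Odd (orderOf (y ^ 3)) := Odd.of_dvd_nat hyodd (orderOf_pow_dvd _)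
  have hC3 : y ^ 3 ∈ centralizer (V : Set G) :=
    h.cent_of_fix (pow_mem hyV 3) ho3 h.a_mem h.ha.2.1.1 (mul_inv_eq_iff_eq_mul.mp hy3)
  have hπ : IsPiNum π (orderOf (y ^ 3)) := fun p hp hd => by
    have := hd.trans (orderOf_pow_dvd _)
    rw [hk] at this
    rw [(Nat.prime_dvd_prime_iff_eq hp Nat.prime_three).mp (hp.dvd_of_dvd_pow this)]
    exact h.three_mem
  exact ⟨⟨y, hy, fun s hs' => (mem_centralizer_iff.mp
    (h.odd_cent hs (pow_mem hy 3) hC3 ho3 hπ) s hs').symm, hmove⟩⟩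

namespace Frame

variable {h : Two π S a b} (F : Frame h)

/-- The automorphism. -/
def act (i : ℕ) (s : G) : G := F.y ^ i * s * (F.y ^ i)⁻¹

theorem act_mem (i : ℕ) {s : G} (hs' : s ∈ (S : Subgroup G)) : F.act i s ∈ (S : Subgroup G) :=
  (mem_normalizer_iff.mp (pow_mem F.norm i) s).mp hs'

theorem act_add (i j : ℕ) (s : G) : F.act (i + j) s = F.act i (F.act j s) := by
  unfold act; rw [pow_add]; group

theorem act_three {s : G} (hs' : s ∈ (S : Subgroup G)) : F.act 3 s = s := by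
  rw [act, F.cube s hs', mul_inv_cancel_right]

theorem act_four_mem (i : ℕ) {v : G} (hv : v ∈ four S h) : F.act i v ∈ four S h :=
  (mem_normalizer_iff.mp (h.sylow_normalizer_le (pow_mem F.norm i)) v).mp hv

theorem act_move {i : ℕ} (hi0 : i ≠ 0) (hi : i < 3) {v : G} (hv : v ∈ four S h) (hv1 : v ≠ 1) :
    F.act i v ≠ v := by
  intro e
  rcases (by omega : i = 1 ∨ i = 2) with rfl | rfl
  · exact F.move v hv hv1 (by simpa [act] using e)
  · refine F.move v hv hv1 ?_
    have h1 : F.act 1 (F.act 2 v) = v := by rw [← F.act_add]; exact F.act_three (h.four_le hv)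
    rw [e] at h1
    simpa [act] using h1

theorem moves_coset (hs : CfsgLib.SuzukiTwo.Sixty (S : Subgroup G)) {i : ℕ} (hi0 : i ≠ 0) (hi : i < 3) {s : G}
    (hs' : s ∈ (S : Subgroup G)) (e : F.act i s * s⁻¹ ∈ four S h) : s ∈ four S h := by
  refine h.mem_four_of_sq hs' ?_
  by_contra h1
  refine F.act_move hi0 hi (h.sq_mem hs hs') h1 ?_
  set d := F.act i s * s⁻¹ with hd
  have e1 : F.act i s = d * s := by rw [hd, inv_mul_cancel_right]
  have e2 : F.act i (s * s) = F.act i s * F.act i s := by unfold act; group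
  rw [e2, e1]
  calc d * s * (d * s) = d * (s * d) * s := by group
    _ = d * (d * s) * s := by rw [h.four_comm e hs']
    _ = d * d * (s * s) := by group
    _ = s * s := by rw [h.four_sq e, one_mul]

/-- The action of the normalizer of `S`. -/
theorem normalizer_action (hs : CfsgLib.SuzukiTwo.Sixty (S : Subgroup G)) {n : G}
    (hn : n ∈ normalizer ((S : Subgroup G) : Set G)) :
    ∃ i < 3, ∃ t ∈ (S : Subgroup G), ∀ s ∈ (S : Subgroup G), n * s * n⁻¹ = t * F.act i s * t⁻¹ := by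
  haveI : Fact (Nat.Prime 2) := ⟨Nat.prime_two⟩
  set V := four S h
  have hnV := h.sylow_normalizer_le hn
  obtain ⟨i, hi, hia⟩ : ∃ i < 3, n * a * n⁻¹ = F.act i a := by
    by_contra hc
    push Not at hc
    classical
    have g0 : F.act 0 a = a := by simp [act]
    have hn1 : ∀ j, F.act j a ≠ 1 := fun j e => h.ha.2.1.1 (conj_eq_one_iff.mp e)
    have n1 := F.act_move (i := 1) (by norm_num) (by norm_num) h.a_mem h.ha.2.1.1
    have n2 := F.act_move (i := 2) (by norm_num) (by norm_num) h.a_mem h.ha.2.1.1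
    have n3 : F.act 2 a ≠ F.act 1 a := fun e => F.act_move (i := 1) (by norm_num) (by norm_num)
      (F.act_four_mem 1 h.a_mem) (hn1 1) ((F.act_add 1 1 a).symm.trans e)
    have hna1 : n * a * n⁻¹ ≠ 1 := fun e => h.ha.2.1.1 (conj_eq_one_iff.mp e)
    have hsub : ({1, a, F.act 1 a, F.act 2 a, n * a * n⁻¹} : Finset G) ⊆ (Set.toFinite (V : Set G)).toFinset := by
      intro v hv
      simp only [Finset.mem_insert, Finset.mem_singleton] at hv
      rw [Set.Finite.mem_toFinset]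
      rcases hv with rfl | rfl | rfl | rfl | rfl
      exacts [one_mem V, h.a_mem, F.act_four_mem 1 h.a_mem, F.act_four_mem 2 h.a_mem,
        (mem_normalizer_iff.mp hnV a).mp h.a_mem]
    have hcard := Finset.card_le_card hsub
    rw [← Set.ncard_eq_toFinset_card, ← Nat.card_coe_set_eq, SetLike.coe_sort_coe, h.card_four] at hcard
    have m0 := hc 0 (by norm_num)
    rw [g0] at m0
    rw [Finset.card_insert_of_notMem (by simp [h.ha.2.1.1.symm, (hn1 1).symm, (hn1 2).symm, hna1.symm]),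
      Finset.card_insert_of_notMem (by simp [n1.symm, n2.symm, m0.symm]),
      Finset.card_insert_of_notMem (by simp [n3.symm, (hc 1 (by norm_num)).symm]),
      Finset.card_insert_of_notMem (by simp [(hc 2 (by norm_num)).symm]), Finset.card_singleton] at hcard
    omega
  refine ⟨i, hi, ?_⟩
  set m := (F.y ^ i)⁻¹ * n with hm
  have hmS : m ∈ normalizer ((S : Subgroup G) : Set G) := mul_mem (inv_mem (pow_mem F.norm i)) hn
  have hma : m * a = a * m := by
    refine mul_inv_eq_iff_eq_mul.mp ?_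
    rw [show m * a * m⁻¹ = (F.y ^ i)⁻¹ * (n * a * n⁻¹) * F.y ^ i by rw [hm]; group, hia, act]
    group
  obtain ⟨k, q, hq, hk⟩ := Nat.exists_eq_two_pow_mul_odd (orderOf_pos m).ne'
  set w := m ^ 2 ^ k
  have hwodd : Odd (orderOf w) := Odd.of_dvd_nat hq (orderOf_dvd_of_pow_eq_one (by rw [← pow_mul, ← hk, pow_orderOf_eq_one]))
  have hwS : w ∈ normalizer ((S : Subgroup G) : Set G) := pow_mem hmS _
  have hwC : w ∈ centralizer (V : Set G) := h.cent_of_fix (h.sylow_normalizer_le hwS) hwodd h.a_mem h.ha.2.1.1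
    ((show Commute m a from hma).pow_left _).eq
  -- the odd part centralizes `S`
  have hwc : ∀ s ∈ (S : Subgroup G), w * s = s * w := by
    obtain ⟨α, β, hab, hcop, hα, hβ⟩ := CfsgLib.exists_pi_split π (orderOf w) (orderOf_pos w).ne'
    intro s hs'
    have h1 : w ^ α * s = s * w ^ α := h.conf.cent_of_coEl (isPiNum_of_isPGroup h.conf.two S.2) (pow_mem hwS α)
      (IsCoNum.of_dvd hβ (orderOf_dvd_of_pow_eq_one (by rw [← pow_mul, ← hab, pow_orderOf_eq_one]))) hs'
    have hβd : orderOf (w ^ β) ∣ α := orderOf_dvd_of_pow_eq_one (by rw [← pow_mul, mul_comm, ← hab, pow_orderOf_eq_one])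
    have h2 : w ^ β * s = s * w ^ β := (mem_centralizer_iff.mp (h.odd_cent hs (pow_mem hwS β) (pow_mem hwC β)
      (Odd.of_dvd_nat hwodd (orderOf_pow_dvd _)) (IsPiNum.of_dvd hα hβd)) s hs').symm
    have h3 := ((show Commute (w ^ α) s from h1).zpow_left (Nat.gcdA α β)).mul_left
      ((show Commute (w ^ β) s from h2).zpow_left (Nat.gcdB α β))
    rwa [← zpow_natCast w α, ← zpow_natCast w β, ← zpow_mul, ← zpow_mul, ← zpow_add, ← Nat.gcd_eq_gcd_ab,
      hcop.gcd_eq_one, Nat.cast_one, zpow_one] at h3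
  have hm2 : m ^ q ∈ (S : Subgroup G) := by
    refine mem_of_twoEl_normalizer S ?_ (pow_mem hmS q)
    obtain ⟨j, -, hj⟩ := (Nat.dvd_prime_pow Nat.prime_two).mp (orderOf_dvd_of_pow_eq_one
      (show (m ^ q) ^ 2 ^ k = 1 by rw [← pow_mul, mul_comm, ← hk, pow_orderOf_eq_one]))
    exact ⟨j, hj⟩
  have hcopq : Nat.Coprime (2 ^ k) q := (Nat.coprime_two_left.mpr hq).pow_left k
  set A := w ^ Nat.gcdA (2 ^ k) q
  set B := (m ^ q) ^ Nat.gcdB (2 ^ k) q
  have hmAB : m = B * A := by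
    show m = (m ^ q) ^ Nat.gcdB (2 ^ k) q * (m ^ 2 ^ k) ^ Nat.gcdA (2 ^ k) q
    rw [← zpow_natCast m q, ← zpow_natCast m (2 ^ k), ← zpow_mul, ← zpow_mul, ← zpow_add, add_comm,
      ← Nat.gcd_eq_gcd_ab, hcopq.gcd_eq_one, Nat.cast_one, zpow_one]
  have hBS : B ∈ (S : Subgroup G) := Subgroup.zpow_mem _ hm2 _
  refine ⟨F.act i B, F.act_mem i hBS, fun s hs' => ?_⟩
  have hA : A * s * A⁻¹ = s := mul_inv_eq_iff_eq_mul.mpr ((show Commute w s from hwc s hs').zpow_left _).eq
  calc n * s * n⁻¹ = F.y ^ i * (m * s * m⁻¹) * (F.y ^ i)⁻¹ := by rw [hm]; group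
    _ = F.y ^ i * (B * (A * s * A⁻¹) * B⁻¹) * (F.y ^ i)⁻¹ := by rw [hmAB]; group
    _ = F.act i B * F.act i s * (F.act i B)⁻¹ := by rw [hA, act, act]; group

/-- Fusion of elements of `S`. -/
theorem fusion (hs : CfsgLib.SuzukiTwo.Sixty (S : Subgroup G)) {x x' g : G} (hx : x ∈ (S : Subgroup G))
    (hx' : x' ∈ (S : Subgroup G)) (hx1 : x ≠ 1) (e : g * x * g⁻¹ = x') :
    ∃ i < 3, ∃ t ∈ (S : Subgroup G), x' = t * F.act i x * t⁻¹ := by
  suffices key : ∃ n ∈ normalizer ((S : Subgroup G) : Set G), n * x * n⁻¹ = x' by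
    obtain ⟨n, hn, hne⟩ := key
    obtain ⟨i, hi, t, ht, ht'⟩ := F.normalizer_action hs hn
    exact ⟨i, hi, t, ht, hne.symm.trans (ht' x hx)⟩
  have inv : ∀ z z' k : G, z ∈ four S h → z ≠ 1 → z' ∈ (S : Subgroup G) → k * z * k⁻¹ = z' →
      ∃ n ∈ normalizer ((S : Subgroup G) : Set G), n * z * n⁻¹ = z' := by
    intro z z' k hz hz1 hz' ek
    have hzc := h.four_cases hz hz1
    have hi' : IsInvol z' := ek ▸ hzc.2.1.conj k
    have hzc' := h.four_cases (h.mem_four_of_sq hz' hi'.2) hi'.1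
    obtain ⟨c, hc, hcn⟩ := exists_cent_mul_normalizer S hzc hzc' ek
    refine ⟨c * k, hcn, ?_⟩
    rw [show c * k * z * (c * k)⁻¹ = c * (k * z * k⁻¹) * c⁻¹ by group, ek, commute_of_mem_cent hc, mul_inv_cancel_right]
  by_cases h2 : x * x = 1
  · exact inv x x' g (h.mem_four_of_sq hx h2) hx1 hx' e
  set z := x * x
  set z' := x' * x'
  have hzV := h.sq_mem hs hx
  have ez : g * z * g⁻¹ = z' := by show g * (x * x) * g⁻¹ = x' * x'; rw [← e]; group
  obtain ⟨n, hn, hne⟩ := inv z z' g hzV h2 (mul_mem hx' hx') ez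
  have hz'V : z' ∈ four S h := h.sq_mem hs hx'
  have hz'1 : z' ≠ 1 := fun e0 => h2 (conj_eq_one_iff.mp (hne.trans e0))
  have hgn : g * n⁻¹ ∈ centralizer ({z'} : Set G) := mem_cent_of_commute (mul_inv_eq_iff_eq_mul.mp (by
    conv_lhs => rw [← hne]
    rw [show g * n⁻¹ * (n * z * n⁻¹) * (g * n⁻¹)⁻¹ = g * z * g⁻¹ by group, ez]))
  obtain ⟨o, ho, s, hs', eos⟩ := h.cent_decomp hs hz'V hz'1 hgn
  refine ⟨s * n, mul_mem (le_normalizer hs') hn, ?_⟩
  refine h.eq_of_mod_theta (z := z') ho ((mem_normalizer_iff.mp (mul_mem (le_normalizer hs') hn) x).mp hx) hx'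
    (mem_cent_of_commute (h.four_comm hz'V ((mem_normalizer_iff.mp (mul_mem (le_normalizer hs') hn) x).mp hx)).symm) ?_
  rw [← e, show o * (s * n * x * (s * n)⁻¹) * o⁻¹ = o * s * n * x * (o * s * n)⁻¹ by group, ← eos, inv_mul_cancel_right]

theorem index_unique (hs : CfsgLib.SuzukiTwo.Sixty (S : Subgroup G)) {x t t' : G} (hx : x ∈ (S : Subgroup G))
    (hx1 : x ≠ 1) (ht : t ∈ (S : Subgroup G)) (ht' : t' ∈ (S : Subgroup G)) {i j : ℕ} (hi : i < 3) (hj : j < 3)
    (e : t * F.act i x * t⁻¹ = t' * F.act j x * t'⁻¹) : i = j := by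
  obtain ⟨z, hz, hz1, hzp⟩ : ∃ z ∈ four S h, z ≠ 1 ∧
      ∀ k, ∀ r ∈ (S : Subgroup G), (z = x ∧ True) ∨ (z = x * x ∧
        r * F.act k z * r⁻¹ = (r * F.act k x * r⁻¹) * (r * F.act k x * r⁻¹)) := by
    by_cases h2 : x * x = 1
    · exact ⟨x, h.mem_four_of_sq hx h2, hx1, fun _ _ _ => Or.inl ⟨rfl, trivial⟩⟩
    · exact ⟨x * x, h.sq_mem hs hx, h2, fun k r _ => Or.inr ⟨rfl, by unfold act; group⟩⟩
  have hfix : ∀ k, ∀ r ∈ (S : Subgroup G), r * F.act k z * r⁻¹ = F.act k z := fun k r hr => by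
    rw [← h.four_comm (F.act_four_mem k hz) hr, mul_inv_cancel_right]
  have ez : F.act i z = F.act j z := by
    rcases hzp i t ht with ⟨rfl, -⟩ | ⟨hzx, e1⟩
    · rw [← hfix i t ht, e, hfix j t' ht']
    · rcases hzp j t' ht' with ⟨hzx', -⟩ | ⟨-, e2⟩
      · exact absurd (mul_eq_left.mp (hzx.symm.trans hzx')) hx1
      · rw [← hfix i t ht, e1, e, ← e2, hfix j t' ht']
  by_contra hne
  rcases Nat.lt_or_gt_of_ne hne with hl | hl
  · refine F.act_move (i := j - i) (by omega) (by omega) (F.act_four_mem i hz) (fun e0 => hz1 (conj_eq_one_iff.mp e0)) ?_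
    rw [← F.act_add, show j - i + i = j by omega, ez]
  · refine F.act_move (i := i - j) (by omega) (by omega) (F.act_four_mem j hz) (fun e0 => hz1 (conj_eq_one_iff.mp e0)) ?_
    rw [← F.act_add, show i - j + j = i by omega, ez]

end Frame

/-- The centralizer of a nontrivial element of `S` is an odd normal subgroup times its centralizer in `S`. -/
theorem cent_element (h : Two π S a b) (hs : CfsgLib.SuzukiTwo.Sixty (S : Subgroup G)) {u : G}
    (hu : u ∈ (S : Subgroup G)) (hu1 : u ≠ 1) :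
    ∃ O : Subgroup (centralizer ({u} : Set G)), O.Normal ∧ ¬ 2 ∣ Nat.card O ∧
      (∀ g : centralizer ({u} : Set G), ∃ o ∈ O, ∃ s : centralizer ({u} : Set G), (s : G) ∈ (S : Subgroup G) ∧ g = o * s) := by
  obtain ⟨z, hz, hz1, huz, hCu⟩ : ∃ z ∈ four S h, z ≠ 1 ∧ u * z = z * u ∧
      centralizer ({u} : Set G) ≤ centralizer ({z} : Set G) := by
    by_cases h2 : u * u = 1
    · exact ⟨u, h.mem_four_of_sq hu h2, hu1, rfl, le_rfl⟩
    · exact ⟨u * u, h.sq_mem hs hu, h2, (mul_assoc _ _ _).symm, fun g hg => mem_cent_of_commute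
        ((show Commute g u from commute_of_mem_cent hg).mul_right (commute_of_mem_cent hg)).eq⟩
  set C := centralizer ({u} : Set G)
  have huC : u ∈ centralizer ({z} : Set G) := mem_cent_of_commute huz
  refine ⟨(theta z).subgroupOf C, ⟨fun o ho g => (mem_normalizer_iff.mp (theta_normalized z (hCu g.2)) _).mp ho⟩,
    fun e => not_two_dvd_theta z (e.trans (card_comap_dvd_of_injective (theta z) C.subtype C.subtype_injective)),
    fun g => ?_⟩
  obtain ⟨o, ho, s, hs', e⟩ := h.cent_decomp hs hz hz1 (hCu g.2)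
  have hsu : s * u * s⁻¹ ∈ (S : Subgroup G) := mul_mem (mul_mem hs' hu) (inv_mem hs')
  have h1 : s * u * s⁻¹ = u := h.eq_of_mod_theta ho hsu hu
    (mem_cent_of_commute (h.four_comm hz hsu).symm) (by
      rw [show o * (s * u * s⁻¹) * o⁻¹ = o * s * u * (o * s)⁻¹ by group, ← e, commute_of_mem_cent g.2,
        mul_inv_cancel_right])
  have hsC : s ∈ C := mem_cent_of_commute (mul_inv_eq_iff_eq_mul.mp h1)
  have hoC : o ∈ C := by
    have := mul_mem g.2 (inv_mem hsC)
    rwa [e, mul_inv_cancel_right] at this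
  exact ⟨⟨o, hoC⟩, ho, ⟨s, hsC⟩, hs', Subtype.ext e⟩

/-- No involution inverts an element of order four of `S`. -/
theorem no_invert (h : Two π S a b) (hs : CfsgLib.SuzukiTwo.Sixty (S : Subgroup G)) {u i : G}
    (hu : u ∈ (S : Subgroup G)) (huV : u ∉ four S h) (hi : i * i = 1) : i * u * i⁻¹ ≠ u⁻¹ := by
  intro e
  set z := u * u with hz'
  have hz : z ∈ four S h := h.sq_mem hs hu
  have hz1 : z ≠ 1 := fun e0 => huV (h.mem_four_of_sq hu e0)
  have hiz : i ∈ centralizer ({z} : Set G) := mem_cent_of_commute (mul_inv_eq_iff_eq_mul.mp (by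
    rw [hz', show i * (u * u) * i⁻¹ = i * u * i⁻¹ * (i * u * i⁻¹) by group, e, ← mul_inv_rev]
    exact inv_eq_of_mul_eq_one_left (h.four_sq hz)))
  obtain ⟨o, ho, s, hs', eos⟩ := h.cent_decomp hs hz hz1 hiz
  have hss : s * s = 1 := by
    refine eq_one_of_twoEl_odd (isTwoEl_of_sylow S (mul_mem hs' hs')) (not_two_dvd_theta z) ?_
    have hso : s * o * s⁻¹ ∈ theta z := (mem_normalizer_iff.mp
      (theta_normalized z (mem_cent_of_commute (h.four_comm hz hs').symm)) o).mp ho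
    have : s * s = (o * (s * o * s⁻¹))⁻¹ * (o * s * (o * s)) := by group
    rw [this, ← eos, hi, mul_one]
    exact inv_mem (mul_mem ho hso)
  have hsV := h.mem_four_of_sq hs' hss
  have hsu : s * u * s⁻¹ = u := by rw [h.four_comm hsV hu, mul_inv_cancel_right]
  have h1 := h.eq_of_mod_theta ho hu (inv_mem hu) (mem_cent_of_commute (h.four_comm hz hu).symm) (by
    rw [← e, eos]
    conv_lhs => rw [← hsu]
    group)
  exact hz1 (by rw [hz']; nth_rw 2 [h1]; exact mul_inv_cancel u)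

end Two

end CfsgLib.PiClosedTwo
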