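import Cfsg.Agent.Lib.PiClosedTwo.Central

/-!
A group of odd order whose Sylow `3`-subgroup has an element with centralizer of order at most nine in it is not
`3`-perfect.
-/

set_option autoImplicit false
set_option linter.unusedSectionVars false
set_option linter.style.haveILetI false

namespace CfsgLib.PiClosedTwo

open Subgroup Cfsg
open scoped commutatorElement

universe u

/-- In a group of odd order only the identity is conjugate to its inverse. -/
theorem eq_one_of_real {Q : Type u} [Group Q] [Finite Q] (hodd : Odd (Nat.card Q)) {x g : Q}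
    (h : g * x * g⁻¹ = x⁻¹) : x = 1 := by
  have h2 : Commute (g ^ 2) x := (mul_inv_eq_iff_eq_mul.mp (by
    calc g ^ 2 * x * (g ^ 2)⁻¹ = g * (g * x * g⁻¹) * g⁻¹ := by rw [pow_two]; group
      _ = g * x⁻¹ * g⁻¹ := by rw [h]
      _ = (g * x * g⁻¹)⁻¹ := by group
      _ = x := by rw [h, inv_inv]) : g ^ 2 * x = x * g ^ 2)
  obtain ⟨j, hj⟩ := Odd.of_dvd_nat hodd (orderOf_dvd_natCard g)
  have h7 := h2.pow_left (j + 1)
  rw [← pow_mul, show 2 * (j + 1) = (2 * j + 1) + 1 by ring, pow_succ, ← hj, pow_orderOf_eq_one, one_mul] at h7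
  rw [h7.eq, mul_inv_cancel_right] at h
  have h3 : x ^ 2 = 1 := by rw [pow_two]; nth_rw 1 [h]; exact inv_mul_cancel x
  exact orderOf_eq_one_iff.mp (Nat.eq_one_of_dvd_coprimes (Nat.coprime_two_left.mpr hodd)
    (orderOf_dvd_of_pow_eq_one h3) (orderOf_dvd_natCard x))

theorem not_le_commutator_of_nine {L : Type u} [Group L] [Finite L] (hodd : Odd (Nat.card L)) (P : Sylow 3 L)
    {w : L} (hw1 : w ≠ 1) (hwP : w ∈ (P : Subgroup L))
    (hC : Nat.card ↥((P : Subgroup L) ⊓ centralizer ({w} : Set L)) ≤ 9) :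
    ¬ (P : Subgroup L) ≤ commutator L := by
  classical
  haveI : Fact (Nat.Prime 3) := ⟨Nat.prime_three⟩
  intro hPL
  have hsol : Group.IsSolvable L := CfsgLib.HallE8.isSolvable_of_odd (Nat.two_dvd_ne_zero.mpr (Nat.odd_iff.mp hodd))
  set A := normalClosure ((P : Subgroup L) : Set L)
  have hPA : (P : Subgroup L) ≤ A := subset_normalClosure
  haveI : Nontrivial A := (Subgroup.nontrivial_iff_ne_bot A).mpr fun e => hw1 (mem_bot.mp (e ▸ hPA hwP))
  haveI := hsol
  set B := ⁅A, A⁆
  haveI : B.Normal := Subgroup.commutator_normal A A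
  have hPB : ¬ (P : Subgroup L) ≤ B := by
    intro hle
    have h1 : A ≤ B := normalClosure_le_normal hle
    have h2 : commutator A = ⊤ := by
      apply map_injective A.subtype_injective
      rw [Subgroup.map_subtype_commutator, ← MonoidHom.range_eq_map, range_subtype]
      exact le_antisymm (commutator_le.mpr fun a ha b hb =>
        mul_mem (mul_mem (mul_mem ha hb) (inv_mem ha)) (inv_mem hb)) h1
    exact (Group.IsSolvable.commutator_lt_top_of_nontrivial A).ne h2
  set f := QuotientGroup.mk' B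
  set Pb := P.mapSurjective (QuotientGroup.mk'_surjective B) with hPb
  have hPbe : (Pb : Subgroup (L ⧸ B)) = (P : Subgroup L).map f := Sylow.coe_mapSurjective _ _
  have hcomm : ∀ x ∈ A.map f, ∀ y ∈ A.map f, x * y = y * x := by
    rintro _ ⟨a, ha, rfl⟩ _ ⟨c, hc, rfl⟩
    rw [← commutatorElement_eq_one_iff_mul_comm, ← map_commutatorElement]
    exact (QuotientGroup.eq_one_iff _).mpr (commutator_mem_commutator ha hc)
  have hPbA : (Pb : Subgroup (L ⧸ B)) ≤ A.map f := hPbe ▸ map_mono hPA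
  -- the image of `P` has order at most nine
  have hPb9 : Nat.card (Pb : Subgroup (L ⧸ B)) ≤ 9 := by
    set C := ((P : Subgroup L) ⊓ centralizer ({w} : Set L)).subgroupOf (P : Subgroup L) with hCdef
    let F : ↥(P : Subgroup L) →* L ⧸ B := f.comp (P : Subgroup L).subtype
    have hker : ∀ q : (P : Subgroup L) ⧸ C, (⟨⁅(q.out : L), w⁆, mul_mem (mul_mem (mul_mem q.out.2 hwP)
        (inv_mem q.out.2)) (inv_mem hwP)⟩ : (P : Subgroup L)) ∈ F.ker := fun q =>
      (QuotientGroup.eq_one_iff _).mpr (commutator_mem_commutator (hPA q.out.2) (hPA hwP))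
    have h1 : Nat.card ((P : Subgroup L) ⧸ C) ≤ Nat.card F.ker := by
      refine Nat.card_le_card_of_injective (fun q => (⟨_, hker q⟩ : F.ker)) fun q q' e => ?_
      have e1 : ⁅(q.out : L), w⁆ = ⁅(q'.out : L), w⁆ :=
        congrArg (fun z : F.ker => ((z : (P : Subgroup L)) : L)) e
      rw [← q.out_eq, ← q'.out_eq]
      refine QuotientGroup.eq.mpr ?_
      refine mem_subgroupOf.mpr ⟨(q.out⁻¹ * q'.out).2, mem_centralizer_singleton_iff.mpr ?_⟩
      rw [commutatorElement_def, commutatorElement_def, mul_right_cancel_iff] at e1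
      rw [Subgroup.coe_mul, Subgroup.coe_inv]
      calc (q.out : L)⁻¹ * q'.out * w = (q.out : L)⁻¹ * (q'.out * w * (q'.out : L)⁻¹) * q'.out := by group
        _ = (q.out : L)⁻¹ * (q.out * w * (q.out : L)⁻¹) * q'.out := by rw [e1]
        _ = _ := by group
    have h2 : Nat.card F.range = Nat.card (Pb : Subgroup (L ⧸ B)) := by
      rw [MonoidHom.range_comp, range_subtype, hPbe]
    have e1 := card_mul_index F.ker
    rw [index_ker, h2, ← card_mul_index C, index_eq_card] at e1
    have h3 : Nat.card C ≤ 9 := by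
      rw [hCdef, Nat.card_congr (subgroupOfEquivOfLe inf_le_left).toEquiv]; exact hC
    refine Nat.le_of_mul_le_mul_left ?_ (Nat.card_pos : 0 < Nat.card F.ker)
    rw [e1, mul_comm _ 9]
    exact Nat.mul_le_mul h3 h1
  -- and is central
  have hnorm : ∀ q : L ⧸ B, ∀ x ∈ (Pb : Subgroup (L ⧸ B)), q * x * q⁻¹ ∈ (Pb : Subgroup (L ⧸ B)) := by
    intro q x hx
    have hA' : ∀ y ∈ A.map f, q * y * q⁻¹ ∈ A.map f := by
      rintro _ ⟨c, hc, rfl⟩
      obtain ⟨g, rfl⟩ := QuotientGroup.mk'_surjective B q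
      exact ⟨g * c * g⁻¹, normalClosure_normal.conj_mem c hc g, by rw [map_mul, map_mul, map_inv]⟩
    set P' := (Pb : Subgroup (L ⧸ B)).map (MulAut.conj q).toMonoidHom
    have hP'n : P' ≤ normalizer ((Pb : Subgroup (L ⧸ B)) : Set (L ⧸ B)) := by
      rintro _ ⟨y, hy, rfl⟩
      refine CfsgLib.Comp.mem_normalizer_of_maps fun z hz => ?_
      show q * y * q⁻¹ * z * (q * y * q⁻¹)⁻¹ ∈ _
      rw [hcomm _ (hA' y (hPbA hy)) _ (hPbA hz), mul_inv_cancel_right]
      exact hz
    have hsup : IsPGroup 3 (P' ⊔ (Pb : Subgroup (L ⧸ B)) : Subgroup (L ⧸ B)) :=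
      (Pb.2.map _).to_sup_of_normal_right' Pb.2 hP'n
    exact (Pb.3 hsup le_sup_right).le (mem_sup_left (mem_map_of_mem (MulAut.conj q).toMonoidHom hx))
  have hQodd : Odd (Nat.card (L ⧸ B)) := Odd.of_dvd_nat hodd (card_quotient_dvd_card B)
  have hcent : ∀ x ∈ (Pb : Subgroup (L ⧸ B)), x ∈ center (L ⧸ B) := by
    intro x hx
    by_cases hx1 : x = 1
    · rw [hx1]; exact one_mem _
    set D := centralizer ({x} : Set (L ⧸ B))
    have hd3 : ¬ 3 ∣ D.index := fun e => Pb.not_dvd_index (e.trans (index_dvd_of_le fun y hy =>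
      mem_centralizer_singleton_iff.mpr (hcomm _ (hPbA hy) _ (hPbA hx))))
    have hd2 : ¬ 2 ∣ D.index := fun e =>
      Nat.not_even_iff_odd.mpr hQodd (even_iff_two_dvd.mpr (e.trans (index_dvd_card D)))
    let g : ((L ⧸ B) ⧸ D) × Bool → {y : (Pb : Subgroup (L ⧸ B)) // y ≠ 1} := fun p =>
      if p.2 then ⟨⟨p.1.out * x * p.1.out⁻¹, hnorm _ x hx⟩, fun e =>
        hx1 (conj_eq_one_iff.mp (congrArg Subtype.val e))⟩
      else ⟨⟨(p.1.out * x * p.1.out⁻¹)⁻¹, inv_mem (hnorm _ x hx)⟩, fun e =>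
        hx1 (conj_eq_one_iff.mp (inv_eq_one.mp (congrArg Subtype.val e)))⟩
    have hsame : ∀ q q' : (L ⧸ B) ⧸ D, q.out * x * q.out⁻¹ = q'.out * x * q'.out⁻¹ → q = q' := by
      intro q q' e
      rw [← q.out_eq, ← q'.out_eq]
      refine QuotientGroup.eq.mpr (mem_centralizer_singleton_iff.mpr ?_)
      calc q.out⁻¹ * q'.out * x = q.out⁻¹ * (q'.out * x * q'.out⁻¹) * q'.out := by group
        _ = q.out⁻¹ * (q.out * x * q.out⁻¹) * q'.out := by rw [e]
        _ = _ := by group
    have hdiff : ∀ q q' : (L ⧸ B) ⧸ D, q.out * x * q.out⁻¹ ≠ (q'.out * x * q'.out⁻¹)⁻¹ := by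
      intro q q' e
      refine hx1 (eq_one_of_real hQodd (g := q'.out⁻¹ * q.out) ?_)
      calc q'.out⁻¹ * q.out * x * (q'.out⁻¹ * q.out)⁻¹ = q'.out⁻¹ * (q.out * x * q.out⁻¹) * q'.out := by group
        _ = q'.out⁻¹ * (q'.out * x * q'.out⁻¹)⁻¹ * q'.out := by rw [e]
        _ = x⁻¹ := by group
    have hgi : Function.Injective g := by
      rintro ⟨q, i⟩ ⟨q', i'⟩ e
      have e1 := congrArg (fun y : {y : (Pb : Subgroup (L ⧸ B)) // y ≠ 1} => ((y.1 : (Pb : Subgroup (L ⧸ B))) : L ⧸ B)) e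
      cases i <;> cases i' <;> simp [g] at e1
      · exact Prod.ext (hsame _ _ (inv_injective (by simpa [mul_assoc] using e1))) rfl
      · exact absurd (by simpa [mul_assoc] using e1.symm) (hdiff q' q)
      · exact absurd (by simpa [mul_assoc] using e1) (hdiff q q')
      · exact Prod.ext (hsame _ _ (by simpa [mul_assoc] using e1)) rfl
    have h8 := Nat.card_le_card_of_injective g hgi
    rw [Nat.card_prod, ← index_eq_card, Nat.card_eq_fintype_card (α := Bool), Fintype.card_bool] at h8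
    have h9 : Nat.card {y : (Pb : Subgroup (L ⧸ B)) // y ≠ 1} < 9 := by
      haveI := Fintype.ofFinite ↥(Pb : Subgroup (L ⧸ B))
      refine lt_of_lt_of_le ?_ hPb9
      rw [Nat.card_eq_fintype_card, Nat.card_eq_fintype_card]
      exact Fintype.card_subtype_lt (x := 1) (by simp)
    have hD1 : D.index = 1 := by
      have h0 : D.index ≠ 0 := index_ne_zero_of_finite
      have h4 : D.index ≤ 4 := by omega
      interval_cases D.index <;> omega
    rw [index_eq_one] at hD1
    exact mem_center_iff.mpr fun y => mem_centralizer_singleton_iff.mp (hD1.ge (mem_top y) : y ∈ D)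
  -- transfer
  obtain ⟨x0, hx0, hx0B⟩ := SetLike.not_le_iff_exists.mp hPB
  set x := f x0
  have hx : x ∈ (Pb : Subgroup (L ⧸ B)) := hPbe ▸ mem_map_of_mem f hx0
  have hxc : x ∈ commutator (L ⧸ B) := by
    have := mem_map_of_mem f (hPL hx0)
    rw [_root_.commutator_def, map_commutator, map_top_of_surjective _ (QuotientGroup.mk'_surjective B),
      ← _root_.commutator_def] at this
    exact this
  have hker : commutator (L ⧸ B) ≤ (MonoidHom.transferCenterPow (L ⧸ B)).ker :=
    commutator_le.mpr fun a _ c _ => MonoidHom.mem_ker.mpr (by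
      rw [map_commutatorElement]
      exact commutatorElement_eq_one_iff_mul_comm.mpr
        (Subtype.ext (mem_center_iff.mp (MonoidHom.transferCenterPow (L ⧸ B) c).2 _)))
  have hpow : x ^ (center (L ⧸ B)).index = 1 := by
    rw [← MonoidHom.transferCenterPow_apply, MonoidHom.mem_ker.mp (hker hxc), OneMemClass.coe_one]
  have h3 : Nat.Coprime 3 (center (L ⧸ B)).index := Nat.prime_three.coprime_iff_not_dvd.mpr fun e =>
    Pb.not_dvd_index (e.trans (index_dvd_of_le hcent))
  obtain ⟨k, hk⟩ := (IsPGroup.iff_orderOf.mp Pb.2) ⟨x, hx⟩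
  rw [Subgroup.orderOf_mk] at hk
  have hx1 : x = 1 := orderOf_eq_one_iff.mp (Nat.eq_one_of_dvd_coprimes (h3.pow_left k) (dvd_of_eq hk)
    (orderOf_dvd_of_pow_eq_one hpow))
  exact hx0B ((QuotientGroup.eq_one_iff x0).mp hx1)

end CfsgLib.PiClosedTwo
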