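import Cfsg.Agent.Lib.PiClosedTwo.Embedded
import Cfsg.Agent.Lib.StronglyEmbedded
import Cfsg.Agent.S0223

/-!
A minimal counterexample has only three involutions in a Sylow `2`-subgroup.
-/

set_option autoImplicit false
set_option linter.unusedSectionVars false
set_option linter.style.haveILetI false

namespace CfsgLib.PiClosedTwo

open Subgroup Cfsg CfsgLib.HallE8 CfsgLib.ZCReduction
open scoped Pointwise

universe u

variable {G : Type u} [Group G] [Finite G] {π : Set ℕ}

theorem mem_of_twoEl_normalizer (S : Sylow 2 G) {x : G} (hx : IsTwoEl x)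
    (hn : x ∈ normalizer ((S : Subgroup G) : Set G)) : x ∈ (S : Subgroup G) := by
  haveI : Fact (Nat.Prime 2) := ⟨Nat.prime_two⟩
  obtain ⟨k, hk⟩ := hx
  have hp : IsPGroup 2 (zpowers x) := IsPGroup.of_card (n := k) (by rw [Nat.card_zpowers, hk])
  have h1 : IsPGroup 2 (zpowers x ⊔ (S : Subgroup G) : Subgroup G) :=
    hp.to_sup_of_normal_right' S.2 (zpowers_le.mpr hn)
  exact (S.3 h1 le_sup_right).le (mem_sup_left (mem_zpowers x))

/-- An element carrying a central involution of `S` to a central involution factors through the centralizer. -/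
theorem exists_cent_mul_normalizer (S : Sylow 2 G) {z z' g : G} (hz : IsCentInv S z) (hz' : IsCentInv S z')
    (hg : g * z * g⁻¹ = z') :
    ∃ c ∈ centralizer ({z'} : Set G), c * g ∈ normalizer ((S : Subgroup G) : Set G) := by
  haveI : Fact (Nat.Prime 2) := ⟨Nat.prime_two⟩
  set C := centralizer ({z'} : Set G)
  have hSC : (S : Subgroup G) ≤ C := fun s hs => mem_cent_of_commute (hz'.2.2 s hs).symm
  have hgSC : ∀ s ∈ (S : Subgroup G), g * s * g⁻¹ ∈ C := fun s hs => mem_cent_of_commute (by
    have := conj_commute g (hz.2.2 s hs).symm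
    rwa [hg] at this)
  set U := ((S : Subgroup G).map (MulAut.conj g).toMonoidHom).subgroupOf C
  obtain ⟨c, hc⟩ := exists_conj_into_sylow (S.subtype hSC) (P := U)
    ((S.2.map _).comap_of_injective C.subtype C.subtype_injective)
  refine ⟨c, c.2, CfsgLib.Comp.mem_normalizer_of_maps fun s hs => ?_⟩
  have h1 := hc ⟨g * s * g⁻¹, hgSC s hs⟩ (mem_map_of_mem (MulAut.conj g).toMonoidHom hs)
  rw [show (c : G) * g * s * ((c : G) * g)⁻¹ = c * (g * s * g⁻¹) * (c : G)⁻¹ by group]
  exact h1

theorem IsCentInv.mul {S : Sylow 2 G} {a b : G} (ha : IsCentInv S a) (hb : IsCentInv S b) (hne : a ≠ b) :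
    IsCentInv S (a * b) :=
  ⟨mul_mem ha.1 hb.1, ha.2.1.mul hb.2.1 (ha.2.2 b hb.1) hne, fun s hs => by
    rw [mul_assoc, hb.2.2 s hs, ← mul_assoc, ha.2.2 s hs, mul_assoc]⟩

namespace Conf

theorem solvCent (h : Conf π G) : SolvCent G := fun _ ht => h.solvable (h.cent_ne_top (isInvol_of_orderOf ht).1)

theorem piCore_le_theta (h : Conf π G) (t : G) (ht : t ≠ 1) :
    piCore π (centralizer ({t} : Set G)) ≤ theta t := by
  set C := centralizer ({t} : Set G)
  haveI : ((piCore π C).subgroupOf C).Normal :=
    (normal_subgroupOf_iff_le_normalizer (piCore_le π C)).mpr (le_normalizer_piCore π C)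
  intro x hx
  refine ⟨⟨x, piCore_le π C hx⟩, CfsgLib.le_pPrimeCore (N := (piCore π C).subgroupOf C) ?_ hx, rfl⟩
  rw [Nat.card_congr (subgroupOfEquivOfLe (piCore_le π C)).toEquiv]
  exact (Nat.prime_two.coprime_iff_not_dvd.mpr
    ((piCore_card (h.closed C (h.cent_ne_top ht))).odd h.two)).symm

/-- There are only three involutions in `S`. -/
theorem rank_two (h : Conf π G) (S : Sylow 2 G) {a b : G} (ha : IsCentInv S a) (hb : IsCentInv S b) (hne : a ≠ b)
    {c : G} (hcS : c ∈ (S : Subgroup G)) (hc : IsInvol c) : c = a ∨ c = b ∨ c = a * b := by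
  classical
  haveI : Fact (Nat.Prime 2) := ⟨Nat.prime_two⟩
  by_contra hcon
  push Not at hcon
  obtain ⟨hca, hcb, hcab⟩ := hcon
  have hsc := h.solvCent
  have habS := ha.mul hb hne
  set W := theta a ⊔ theta b ⊔ theta (a * b) with hW
  have hWodd : ¬ 2 ∣ Nat.card W := not_two_dvd_closure hsc ha.2.1 hb.2.1 hc (ha.2.2 b hb.1) (ha.2.2 c hcS)
    (hb.2.2 c hcS) hne hca hcb hcab le_rfl
  have hθ : ∀ t ∈ (S : Subgroup G), IsInvol t → theta t ≤ W := fun t ht hti =>
    theta_le_sup hsc hti ha.2.1 hb.2.1 hne (ha.2.2 b hb.1) (ha.2.2 t ht) (hb.2.2 t ht)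
  have into_S : ∀ s : G, IsInvol s → ∃ m : G, m * s * m⁻¹ ∈ (S : Subgroup G) := fun s hs => by
    obtain ⟨m, hm⟩ := exists_conj_into_sylow S (P := zpowers s)
      (IsPGroup.of_card (n := 1) (by rw [Nat.card_zpowers, hs.orderOf_eq, pow_one]))
    exact ⟨m, hm s (mem_zpowers s)⟩
  obtain ⟨M, hM, hSM⟩ : ∃ M : Subgroup G, IsStronglyEmbedded M ∧ (S : Subgroup G) ≤ M := by
    by_cases hW0 : W = ⊥
    · have hpi : ∀ s : G, IsInvol s → IsPiNum π (Nat.card (centralizer ({s} : Set G))) := by
        intro s hs
        obtain ⟨m, hm⟩ := into_S s hs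
        refine isPiNum_card_of fun x hx hco => ?_
        have h1 : theta s = ⊥ := card_eq_one.mp (by
          rw [← card_theta_conj m s, card_eq_one]
          exact le_bot_iff.mp ((hθ _ hm (hs.conj m)).trans hW0.le))
        exact mem_bot.mp (h1 ▸ h.piCore_le_theta s hs.1 (mem_piCore_of hx hco))
      -- Sylow subgroups intersect trivially
      have hTI : ∀ T : Sylow 2 G, (S : Subgroup G) ⊓ (T : Subgroup G) ≠ ⊥ → T = S := by
        suffices H : ∀ (n : ℕ) (T : Sylow 2 G), Nat.card (S : Subgroup G) ≤
            Nat.card ↥((S : Subgroup G) ⊓ (T : Subgroup G)) + n → (S : Subgroup G) ⊓ (T : Subgroup G) ≠ ⊥ → T = S from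
          fun T => H _ T (Nat.le_add_left _ _)
        intro n
        induction n with
        | zero =>
          intro T hle _
          exact Sylow.ext ((eq_of_le_of_card_ge (inf_le_right : (S : Subgroup G) ⊓ (T : Subgroup G) ≤ T) (by
            rw [T.card_eq_multiplicity, ← S.card_eq_multiplicity]; omega)).symm.trans
            (eq_of_le_of_card_ge inf_le_left (by omega)))
        | succ n IH =>
          intro T hle hD0
          set D := (S : Subgroup G) ⊓ (T : Subgroup G)
          by_contra hTS
          have hDS : D < S := lt_of_le_of_ne inf_le_left fun e =>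
            hTS (Sylow.ext (S.3 T.2 (e ▸ inf_le_right)))
          have hDT : D < T := lt_of_le_of_ne inf_le_right fun e =>
            hTS (Sylow.ext (T.3 S.2 (e ▸ inf_le_left)).symm)
          have hN : normalizer (D : Set G) ≠ ⊤ := h.normalizer_ne_top hD0 fun e =>
            h.sylow_ne_top S (top_le_iff.mp (e ▸ inf_le_left))
          have hD2 : IsPGroup 2 D := S.2.to_le inf_le_left
          obtain ⟨z, hzD, hz⟩ := CfsgLib.StronglyEmbedded.exists_orderOf_eq
            (CfsgLib.StronglyEmbedded.dvd_card_of_ne_bot hD2 hD0)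
          have hNπ : IsPiNum π (Nat.card (normalizer (D : Set G))) := isPiNum_card_of fun x hx hco =>
            eq_one_of_pi_of_coEl (hpi z (isInvol_of_orderOf hz)) (mem_cent_of_commute
              (h.piCore_cent (isPiNum_of_isPGroup h.two hD2) hN (mem_piCore_of hx hco) hzD)) hco
          obtain ⟨A, hA, hAN, hDA⟩ := exists_lt_normalizer S.2 hDS
          obtain ⟨B, hB, hBN, hDB⟩ := exists_lt_normalizer T.2 hDT
          obtain ⟨P2, -, hP2, -, hP2m⟩ := exists_twoGroup h.twoClosed hNπ
          obtain ⟨U, hU⟩ := hP2.exists_le_sylow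
          have hAU : A ≤ (U : Subgroup G) := fun x hx => hU (hP2m x (hAN hx) (isTwoEl_of_mem S.2 (hA hx)))
          have hBU : B ≤ (U : Subgroup G) := fun x hx => hU (hP2m x (hBN hx) (isTwoEl_of_mem T.2 (hB hx)))
          have hlt : Nat.card ↥D < Nat.card A :=
            Nat.lt_of_not_le fun hc => hDA.ne (eq_of_le_of_card_ge hDA.le hc)
          have hle2 := card_le_of_le (le_inf hA hAU)
          have hUS : U = S := IH U (by omega) fun e => by
            rw [e, card_bot] at hle2
            have : 0 < Nat.card D := Nat.card_pos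
            omega
          exact hDB.not_ge (le_inf (hUS ▸ hBU) hB)
      set M := normalizer ((S : Subgroup G) : Set G)
      have hSM : (S : Subgroup G) ≤ M := le_normalizer
      have hmemM : ∀ g s : G, s ∈ M → IsInvol s → g * s * g⁻¹ ∈ M → g ∈ M := by
        intro g s hs hsi hg
        have h1 := mem_of_twoEl_normalizer S (isTwoEl_of_sq hsi.2) hs
        have h2 := mem_of_twoEl_normalizer S (isTwoEl_of_sq (hsi.conj g).2) hg
        have h3 : g • S = S := hTI (g • S) fun e => (hsi.conj g).1 (mem_bot.mp (e ▸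
          ⟨h2, by rw [Sylow.coe_subgroup_smul]; exact Subgroup.smul_mem_pointwise_smul s (MulAut.conj g) (S : Subgroup G) h1⟩))
        exact Sylow.smul_eq_iff_mem_normalizer.mp h3
      refine ⟨M, (Cfsg.Agent.S0223.result M (h.normalizer_ne_top (h.sylow_ne_bot S) (h.sylow_ne_top S))
        (even_iff_two_dvd.mpr ((S.dvd_card_of_dvd_card h.even).trans (card_dvd_of_le hSM)))).mpr
        ⟨fun t ht hto g hg => hmemM g t ht (isInvol_of_orderOf hto)
          (by rwa [commute_of_mem_cent hg, mul_inv_cancel_right]),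
          fun t ht s hs hto _ hts => ?_⟩, hSM⟩
      obtain ⟨g, rfl⟩ := isConj_iff.mp hts
      exact ⟨g, hmemM g t ht (isInvol_of_orderOf hto) hs, rfl⟩
    · set M := normalizer (W : Set G) with hMdef
      have hM1 : M ≠ ⊤ := h.normalizer_ne_top hW0 fun e => hWodd (by rw [e, card_top]; exact h.even)
      have key : ∀ g : G, g * a * g⁻¹ ∈ (S : Subgroup G) → g * b * g⁻¹ ∈ (S : Subgroup G) → g ∈ M := by
        intro g hga hgb
        refine mem_normalizer_iff_map_conj_eq.mpr (eq_of_le_of_card_ge ?_
          (card_map_of_injective (MulEquiv.injective (MulAut.conj g))).ge)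
        rw [hW, Subgroup.map_sup, Subgroup.map_sup]
        refine sup_le (sup_le ((theta_conj g a).le.trans (hθ _ hga (ha.2.1.conj g)))
          ((theta_conj g b).le.trans (hθ _ hgb (hb.2.1.conj g))))
          ((theta_conj g (a * b)).le.trans (hθ _ ?_ (habS.2.1.conj g)))
        rw [show g * (a * b) * g⁻¹ = g * a * g⁻¹ * (g * b * g⁻¹) by group]
        exact mul_mem hga hgb
      have hNS : normalizer ((S : Subgroup G) : Set G) ≤ M := fun g hg =>
        key g ((mem_normalizer_iff.mp hg a).mp ha.1) ((mem_normalizer_iff.mp hg b).mp hb.1)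
      have hSM : (S : Subgroup G) ≤ M := le_normalizer.trans hNS
      -- the centralizer of a suitable conjugate
      have good : ∀ s ∈ M, IsInvol s → ∃ m ∈ M, m * s * m⁻¹ ∈ (S : Subgroup G) ∧
          centralizer ({m * s * m⁻¹} : Set G) ≤ M ∧
          ∀ P : Subgroup G, IsPGroup 2 P → P ≤ centralizer ({m * s * m⁻¹} : Set G) →
            Nat.card P ≤ Nat.card ↥((S : Subgroup G) ⊓ centralizer ({m * s * m⁻¹} : Set G)) := by
        intro s hsM hs
        set CM := M ⊓ centralizer ({s} : Set G) with hCM
        have hzs : IsPGroup 2 ((zpowers s).subgroupOf CM) :=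
          (IsPGroup.of_card (n := 1) (by rw [Nat.card_zpowers, hs.orderOf_eq, pow_one]) : IsPGroup 2 (zpowers s)
            ).comap_of_injective CM.subtype CM.subtype_injective
        obtain ⟨Q, hQ⟩ := hzs.exists_le_sylow
        have hsCM : s ∈ CM := ⟨hsM, mem_cent_of_commute rfl⟩
        have hsQ : (⟨s, hsCM⟩ : CM) ∈ (Q : Subgroup CM) := hQ (mem_zpowers s)
        set Q0 := (Q : Subgroup CM).map CM.subtype
        have hQ0 : IsPGroup 2 Q0 := Q.2.map _
        have hQle : Q0 ≤ CM := map_subtype_le _
        obtain ⟨⟨m, hm⟩, hmQ⟩ := exists_conj_into_sylow (S.subtype hSM) (P := Q0.subgroupOf M)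
          (hQ0.comap_of_injective M.subtype M.subtype_injective)
        have hmQ' : ∀ q ∈ Q0, m * q * m⁻¹ ∈ (S : Subgroup G) := fun q hq => hmQ ⟨q, (hQle hq).1⟩ hq
        set t := m * s * m⁻¹ with ht
        have htS : t ∈ (S : Subgroup G) := hmQ' s ⟨_, hsQ, rfl⟩
        set C := centralizer ({t} : Set G) with hC
        set T' := (S : Subgroup G) ⊓ C with hT'
        have hT'2 : IsPGroup 2 T' := S.2.to_le inf_le_left
        have hmax : ∀ P : Subgroup G, IsPGroup 2 P → P ≤ M ⊓ C → Nat.card P ≤ Nat.card T' := by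
          intro P hP hPle
          have hPc : P.map (MulAut.conj m⁻¹).toMonoidHom ≤ CM := by
            rintro _ ⟨x, hx, rfl⟩
            refine Subgroup.mem_inf.mpr ⟨mul_mem (mul_mem (inv_mem hm) (hPle hx).1) (inv_mem (inv_mem hm)), mem_cent_of_commute ?_⟩
            have := conj_commute m⁻¹ (commute_of_mem_cent (hPle hx).2)
            rwa [ht, show m⁻¹ * (m * s * m⁻¹) * m⁻¹⁻¹ = s by group] at this
          have h1 : Nat.card P ≤ Nat.card Q0 := by
            rw [← card_map_of_injective (K := P) (f := (MulAut.conj m⁻¹).toMonoidHom) (MulEquiv.injective (MulAut.conj m⁻¹))]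
            obtain ⟨c, hc⟩ := exists_conj_into_sylow Q
              (P := (P.map (MulAut.conj m⁻¹).toMonoidHom).subgroupOf CM)
              ((hP.map _).comap_of_injective CM.subtype CM.subtype_injective)
            refine Nat.card_le_card_of_injective
              (fun x : ↥(P.map (MulAut.conj m⁻¹).toMonoidHom) =>
                (⟨c * x * (c : G)⁻¹, _, hc ⟨x, hPc x.2⟩ x.2, rfl⟩ : Q0))
              fun x y e => Subtype.ext (mul_left_cancel (mul_right_cancel (congrArg Subtype.val e)))
          refine h1.trans (Nat.card_le_card_of_injective (fun q : Q0 =>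
              (⟨m * q * m⁻¹, hmQ' q q.2, mem_cent_of_commute (conj_commute m (commute_of_mem_cent (hQle q.2).2))⟩ : T'))
            fun x y e => Subtype.ext (mul_left_cancel (mul_right_cancel (congrArg Subtype.val e))))
        have haT : a ∈ T' := ⟨ha.1, mem_cent_of_commute (ha.2.2 t htS)⟩
        have hbT : b ∈ T' := ⟨hb.1, mem_cent_of_commute (hb.2.2 t htS)⟩
        have hNT : normalizer (T' : Set G) ≤ M := fun g hg =>
          key g ((mem_normalizer_iff.mp hg a).mp haT).1 ((mem_normalizer_iff.mp hg b).mp hbT).1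
        have hTeq : ∀ P : Subgroup G, IsPGroup 2 P → P ≤ C → T' ≤ P → P = T' := by
          intro P hP hPC hle
          by_contra hne
          obtain ⟨A, hA, hAN, hlt⟩ := exists_lt_normalizer hP (lt_of_le_of_ne hle (Ne.symm hne))
          have := hmax A (hP.to_le hA) (le_inf (hAN.trans hNT) (hA.trans hPC))
          exact hlt.ne (eq_of_le_of_card_ge hlt.le this)
        have hC1 : C ≠ ⊤ := h.cent_ne_top (hs.conj m).1
        obtain ⟨L, hL, hTL⟩ := h.exists_hall hC1 (U := T') inf_le_right (isPiNum_of_isPGroup h.two hT'2)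
        obtain ⟨P2, hP2L, hP2, hP2n, hP2m⟩ := exists_twoGroup h.twoClosed hL.2.1
        have hP2T : P2 = T' := hTeq P2 hP2 (hP2L.trans hL.1)
          fun x hx => hP2m x (hTL hx) (isTwoEl_of_mem hT'2 hx)
        have hCM : C ≤ M := by
          intro g hg
          obtain ⟨r, hr, l, hl, rfl⟩ := exists_decomp (h.closed C hC1) hL hg
          refine mul_mem (le_normalizer ?_) (hNT (hP2T ▸ hP2n hl))
          exact hθ t htS (hs.conj m) (h.piCore_le_theta t (hs.conj m).1 hr)
        exact ⟨m, hm, htS, hCM, fun P hP hPC => hmax P hP (le_inf (hPC.trans hCM) hPC)⟩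
      have hcent : ∀ s ∈ M, IsInvol s → centralizer ({s} : Set G) ≤ M := by
        intro s hsM hs g hg
        obtain ⟨m, hm, -, hC, -⟩ := good s hsM hs
        have h1 : m * g * m⁻¹ ∈ M := hC (mem_cent_of_commute (conj_commute m (commute_of_mem_cent hg)))
        have h2 := mul_mem (mul_mem (inv_mem hm) h1) hm
        rwa [show m⁻¹ * (m * g * m⁻¹) * m = g by group] at h2
      obtain ⟨u, hu, huM⟩ : ∃ u : G, IsInvol u ∧ u ∉ M := by
        by_contra hall
        push Not at hall
        set N := closure {x : G | IsInvol x}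
        haveI : N.Normal := by
          refine ⟨fun x hx g => ?_⟩
          induction hx using closure_induction with
          | mem y hy => exact subset_closure (hy.conj g)
          | one => simp
          | mul y z _ _ hy hz =>
            rw [show g * (y * z) * g⁻¹ = g * y * g⁻¹ * (g * z * g⁻¹) by group]
            exact mul_mem hy hz
          | inv y _ hy =>
            rw [show g * y⁻¹ * g⁻¹ = (g * y * g⁻¹)⁻¹ by group]
            exact inv_mem hy
        rcases h.normal_cases N with e | e
        · exact ha.2.1.1 (mem_bot.mp (e ▸ subset_closure (show a ∈ {x : G | IsInvol x} from ha.2.1)))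
        · exact hM1 (top_le_iff.mp (e ▸ (closure_le _).mpr fun x hx => hall x hx))
      have hconjall : ∀ s ∈ M, IsInvol s → IsConj s u := fun s hsM hs => isConj_of_outside hcent hs hsM hu huM
      have central : ∀ s ∈ M, IsInvol s → ∃ m ∈ M, IsCentInv S (m * s * m⁻¹) := by
        intro s hsM hs
        obtain ⟨m, hm, htS, -, hmax⟩ := good s hsM hs
        set t := m * s * m⁻¹
        obtain ⟨g, hg⟩ := isConj_iff.mp
          ((hconjall a (hSM ha.1) ha.2.1).trans (hconjall t (hSM htS) (hs.conj m)).symm)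
        have h1 := hmax _ (S.2.map (MulAut.conj g).toMonoidHom) (by
          rintro _ ⟨x, hx, rfl⟩
          refine mem_cent_of_commute ?_
          have := conj_commute g (ha.2.2 x hx).symm
          rwa [hg] at this)
        rw [card_map_of_injective (MulEquiv.injective (MulAut.conj g))] at h1
        exact ⟨m, hm, htS, hs.conj m, fun x hx =>
          (commute_of_mem_cent ((eq_of_le_of_card_ge inf_le_left h1).ge hx).2).symm⟩
      refine ⟨M, (Cfsg.Agent.S0223.result M hM1
        (even_iff_two_dvd.mpr ((S.dvd_card_of_dvd_card h.even).trans (card_dvd_of_le hSM)))).mpr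
        ⟨fun t ht hto => hcent t ht (isInvol_of_orderOf hto), fun t ht s hs hto hso hts => ?_⟩, hSM⟩
      obtain ⟨g, hg⟩ := isConj_iff.mp hts
      obtain ⟨m, hm, hmt⟩ := central t ht (isInvol_of_orderOf hto)
      obtain ⟨m', hm', hms⟩ := central s hs (isInvol_of_orderOf hso)
      obtain ⟨c', hc', hcg⟩ := exists_cent_mul_normalizer S hmt hms (g := m' * g * m⁻¹)
        (by rw [← hg]; group)
      have h1 : m' * g * m⁻¹ ∈ M := by
        have := mul_mem (inv_mem (hcent _ (hSM hms.1) hms.2.1 hc')) (hNS hcg)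
        rwa [inv_mul_cancel_left] at this
      refine ⟨g, ?_, hg⟩
      have := mul_mem (mul_mem (inv_mem hm') h1) hm
      rwa [show m'⁻¹ * (m' * g * m⁻¹) * m = g by group] at this
  exact h.false_of_embedded hM S hSM ha.1 hb.1 ha.2.1 hb.2.1 hne

end Conf

end CfsgLib.PiClosedTwo
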