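import Cfsg.Agent.Lib.PiClosedTwo.RankHigh
import Cfsg.Agent.Lib.HallNumbers.Sufficient

/-!
The four-group of central involutions of a Sylow `2`-subgroup in a minimal counterexample.
-/

set_option autoImplicit false
set_option linter.unusedSectionVars false
set_option linter.style.haveILetI false

namespace CfsgLib.PiClosedTwo

open Subgroup Cfsg CfsgLib.HallE8 CfsgLib.ZCReduction
open scoped Pointwise

universe u

variable {G : Type u} [Group G] [Finite G] {π : Set ℕ}

/-- The configuration of `2`-rank two. -/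
structure Two (π : Set ℕ) (S : Sylow 2 G) (a b : G) : Prop where
  conf : Conf π G
  ha : IsCentInv S a
  hb : IsCentInv S b
  ne : a ≠ b
  list : ∀ c ∈ (S : Subgroup G), IsInvol c → c = a ∨ c = b ∨ c = a * b

theorem Conf.exists_two (h : Conf π G) (S : Sylow 2 G) : ∃ a b : G, Two π S a b := by
  obtain ⟨a, b, ha, hb, hne⟩ := h.exists_two_central S
  exact ⟨a, b, h, ha, hb, hne, fun c hcS hc => h.rank_two S ha hb hne hcS hc⟩

/-- The involutions of `S` together with the identity. -/
def four (S : Sylow 2 G) {a b : G} (h : Two π S a b) : Subgroup G :=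
  CfsgLib.RankTwoSylow.fourOf a b h.ha.2.1.2 h.hb.2.1.2 (h.ha.2.2 b h.hb.1)

namespace Two

variable {S : Sylow 2 G} {a b : G}

theorem mem_four (h : Two π S a b) {x : G} : x ∈ four S h ↔ x = 1 ∨ x = a ∨ x = b ∨ x = a * b := Iff.rfl

theorem a_mem (h : Two π S a b) : a ∈ four S h := Or.inr (Or.inl rfl)

theorem b_mem (h : Two π S a b) : b ∈ four S h := Or.inr (Or.inr (Or.inl rfl))

theorem abCent (h : Two π S a b) : IsCentInv S (a * b) := h.ha.mul h.hb h.ne

theorem four_cases (h : Two π S a b) {x : G} (hx : x ∈ four S h) (h1 : x ≠ 1) : IsCentInv S x := by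
  rcases h.mem_four.mp hx with rfl | rfl | rfl | rfl
  exacts [absurd rfl h1, h.ha, h.hb, h.abCent]

theorem four_le (h : Two π S a b) : four S h ≤ (S : Subgroup G) := by
  intro x hx
  by_cases h1 : x = 1
  · exact h1 ▸ one_mem (S : Subgroup G)
  · exact (h.four_cases hx h1).1

theorem four_sq (h : Two π S a b) {x : G} (hx : x ∈ four S h) : x * x = 1 := by
  by_cases h1 : x = 1
  · rw [h1, mul_one]
  · exact (h.four_cases hx h1).2.1.2

theorem four_comm (h : Two π S a b) {x s : G} (hx : x ∈ four S h) (hs : s ∈ (S : Subgroup G)) :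
    x * s = s * x := by
  by_cases h1 : x = 1
  · rw [h1, mul_one, one_mul]
  · exact (h.four_cases hx h1).2.2 s hs

theorem mem_four_of_sq (h : Two π S a b) {x : G} (hx : x ∈ (S : Subgroup G)) (hx2 : x * x = 1) :
    x ∈ four S h := by
  by_cases h1 : x = 1
  · exact h1 ▸ one_mem _
  · exact h.mem_four.mpr (Or.inr (h.list x hx ⟨h1, hx2⟩))

theorem sylow_le_cent (h : Two π S a b) : (S : Subgroup G) ≤ centralizer (four S h : Set G) :=
  fun _ hs => mem_centralizer_iff.mpr fun _ hx => h.four_comm hx hs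

theorem card_four (h : Two π S a b) : Nat.card (four S h) = 4 := by
  have h1 := h.ha.2.1.1
  have h2 := h.hb.2.1.1
  have h3 := h.abCent.2.1.1
  have h4 : a ≠ a * b := fun e => h2 (mul_eq_left.mp e.symm)
  have h5 : b ≠ a * b := fun e => h1 (mul_eq_right.mp e.symm)
  have e : ((four S h : Subgroup G) : Set G) = {1, a, b, a * b} := by
    ext x
    simp only [SetLike.mem_coe, h.mem_four, Set.mem_insert_iff, Set.mem_singleton_iff]
  rw [← SetLike.coe_sort_coe, Nat.card_coe_set_eq, e, Set.ncard_insert_of_notMem (by simp [h1.symm, h2.symm, h3.symm]),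
    Set.ncard_insert_of_notMem (by simp [h.ne, h4]), Set.ncard_insert_of_notMem (by simp [h5]), Set.ncard_singleton]

theorem four_ne_bot (h : Two π S a b) : four S h ≠ ⊥ := fun e => h.ha.2.1.1 (mem_bot.mp (e ▸ h.a_mem))

theorem four_pGroup (h : Two π S a b) : IsPGroup 2 (four S h) := S.2.to_le h.four_le

theorem four_piNum (h : Two π S a b) : IsPiNum π (Nat.card (four S h)) :=
  isPiNum_of_isPGroup (hp := ⟨Nat.prime_two⟩) h.conf.two h.four_pGroup

theorem normalizer_ne_top (h : Two π S a b) : normalizer (four S h : Set G) ≠ ⊤ :=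
  h.conf.normalizer_ne_top h.four_ne_bot fun e => h.conf.sylow_ne_top S (top_le_iff.mp (e ▸ h.four_le))

theorem sylow_normalizer_le (h : Two π S a b) :
    normalizer ((S : Subgroup G) : Set G) ≤ normalizer (four S h : Set G) := fun n hn =>
  CfsgLib.Comp.mem_normalizer_of_maps fun x hx => h.mem_four_of_sq ((mem_normalizer_iff.mp hn x).mp (h.four_le hx))
    (by rw [show n * x * n⁻¹ * (n * x * n⁻¹) = n * (x * x) * n⁻¹ by group, h.four_sq hx]; group)

/-- The involutions of a `2`-group containing the four-group lie in it. -/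
theorem mem_four_of_pGroup (h : Two π S a b) {P : Subgroup G} (hP : IsPGroup 2 P) (hVP : four S h ≤ P) {x : G}
    (hx : x ∈ P) (hx2 : x * x = 1) : x ∈ four S h := by
  obtain ⟨m, hm⟩ := exists_conj_into_sylow S hP
  have key : ∀ w ∈ P, w * w = 1 → m * w * m⁻¹ ∈ four S h := fun w hw hw2 => h.mem_four_of_sq (hm w hw)
    (by rw [show m * w * m⁻¹ * (m * w * m⁻¹) = m * (w * w) * m⁻¹ by group, hw2]; group)
  have hn : m ∈ normalizer (four S h : Set G) :=
    CfsgLib.Comp.mem_normalizer_of_maps fun w hw => key w (hVP hw) (h.four_sq hw)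
  exact (mem_normalizer_iff.mp hn x).mpr (key x hx hx2)

/-- A `π`-subgroup contains at most one conjugate of the four-group, and normalizes it. -/
theorem conj_mem_normalizer (h : Two π S a b) {L : Subgroup G} (hL : IsPiNum π (Nat.card L))
    (hVL : four S h ≤ L) {g : G} (hg : ∀ v ∈ four S h, g * v * g⁻¹ ∈ L) : g ∈ normalizer (four S h : Set G) := by
  obtain ⟨P, -, hP, -, hPm⟩ := exists_twoGroup h.conf.twoClosed hL
  refine CfsgLib.Comp.mem_normalizer_of_maps fun v hv => h.mem_four_of_pGroup hP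
    (fun w hw => hPm w (hVL hw) (isTwoEl_of_sq (h.four_sq hw)))
    (hPm _ (hg v hv) ((isTwoEl_of_sq (h.four_sq hv)).conj g)) ?_
  rw [show g * v * g⁻¹ * (g * v * g⁻¹) = g * (v * v) * g⁻¹ by group, h.four_sq hv]; group

theorem le_normalizer_of_pi (h : Two π S a b) {L : Subgroup G} (hL : IsPiNum π (Nat.card L))
    (hVL : four S h ≤ L) : L ≤ normalizer (four S h : Set G) := fun l hl =>
  h.conj_mem_normalizer hL hVL fun v hv => mul_mem (mul_mem hl (hVL hv)) (inv_mem hl)

/-- A `π`-subgroup of even order normalizes a conjugate of the four-group. -/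
theorem exists_conj_le_normalizer (h : Two π S a b) {L : Subgroup G} (hL : IsPiNum π (Nat.card L))
    (he : 2 ∣ Nat.card L) : ∃ g : G, ∀ x ∈ L, g * x * g⁻¹ ∈ normalizer (four S h : Set G) := by
  classical
  haveI : Fact (Nat.Prime 2) := ⟨Nat.prime_two⟩
  obtain ⟨P, hPL, hP, hPn, hPm⟩ := exists_twoGroup h.conf.twoClosed hL
  obtain ⟨m, hm⟩ := exists_conj_into_sylow S hP
  set L' := L.map (MulAut.conj m).toMonoidHom with hL'
  have hmem : ∀ x ∈ L, m * x * m⁻¹ ∈ L' := fun x hx => mem_map_of_mem (MulAut.conj m).toMonoidHom hx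
  have hL'π : IsPiNum π (Nat.card L') := by
    rw [hL', card_map_of_injective (MulEquiv.injective (MulAut.conj m))]; exact hL
  obtain ⟨s, hsL, hs⟩ := CfsgLib.StronglyEmbedded.exists_orderOf_eq he
  have hsi := isInvol_of_orderOf hs
  have hsP : s ∈ P := hPm s hsL (isTwoEl_of_sq hsi.2)
  set t := m * s * m⁻¹ with htdef
  have htV : t ∈ four S h := h.mem_four_of_sq (hm s hsP) (hsi.conj m).2
  by_cases hV : four S h ≤ L'
  · exact ⟨m, fun x hx => h.le_normalizer_of_pi hL'π hV (hmem x hx)⟩
  have huniq : ∀ w ∈ P, IsInvol w → w = s := by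
    intro w hw hwi
    by_contra hne
    refine hV ?_
    have hwV : m * w * m⁻¹ ∈ four S h := h.mem_four_of_sq (hm w hw) (hwi.conj m).2
    have hne' : m * w * m⁻¹ ≠ t := fun e => hne (mul_left_cancel (mul_right_cancel e))
    have h1 : t ∈ L' := hmem s hsL
    have h2 : m * w * m⁻¹ ∈ L' := hmem w (hPL hw)
    have hab : a * b = b * a := h.ha.2.2 b h.hb.1
    intro v hv
    rcases h.mem_four.mp hv with rfl | hv'
    · exact one_mem _
    by_cases e1 : v = t
    · exact e1 ▸ h1
    by_cases e2 : v = m * w * m⁻¹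
    · exact e2 ▸ h2
    have h3 : v = t * (m * w * m⁻¹) := by
      have ht1 := (hsi.conj m).1
      have hw1 := (hwi.conj m).1
      rcases (h.mem_four.mp htV).resolve_left ht1 with e | e | e <;>
      rcases (h.mem_four.mp hwV).resolve_left hw1 with e' | e' | e' <;>
      rcases hv' with e'' | e'' | e'' <;>
      first
        | exact absurd (e''.trans e.symm) e1
        | exact absurd (e''.trans e'.symm) e2
        | exact absurd (e'.trans e.symm) hne'
        | (rw [e'', e, e']
           all_goals first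
            | rfl
            | exact hab
            | (rw [← mul_assoc, h.ha.2.1.2, one_mul])
            | (rw [hab, ← mul_assoc, h.hb.2.1.2, one_mul])
            | (rw [mul_assoc, h.hb.2.1.2, mul_one])
            | (rw [hab, mul_assoc, h.ha.2.1.2, mul_one]))
    exact h3 ▸ mul_mem h1 h2
  have hLC : L' ≤ centralizer ({t} : Set G) := by
    rintro _ ⟨x, hx, rfl⟩
    have h1 : x * s * x⁻¹ = s := huniq _ ((mem_normalizer_iff.mp (hPn hx) s).mp hsP) (hsi.conj x)
    exact mem_cent_of_commute (conj_commute m (mul_inv_eq_iff_eq_mul.mp h1))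
  have hC : centralizer ({t} : Set G) ≠ ⊤ := h.conf.cent_ne_top (hsi.conj m).1
  have hVC : four S h ≤ centralizer ({t} : Set G) := fun v hv =>
    mem_cent_of_commute (h.four_comm hv (h.four_le htV))
  obtain ⟨L0, hL0, hVL0⟩ := h.conf.exists_hall hC hVC h.four_piNum
  obtain ⟨r, -, hr⟩ := exists_piCore_conj h.conf.two h.conf.twoClosed (h.conf.closed _ hC) hL0 hLC hL'π
  refine ⟨r * m, fun x hx => h.le_normalizer_of_pi hL0.2.1 hVL0 ?_⟩
  rw [show r * m * x * (r * m)⁻¹ = r * (m * x * m⁻¹) * r⁻¹ by group]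
  exact hr _ (hmem x hx)

/-- Every involution of `S` is moved by the normalizer of `S`. -/
theorem exists_moved (h : Two π S a b) {v : G} (hv : v ∈ four S h) (h1 : v ≠ 1) :
    ∃ n ∈ normalizer ((S : Subgroup G) : Set G), n * v * n⁻¹ ≠ v := by
  by_contra hcon
  push Not at hcon
  have hvc := h.four_cases hv h1
  obtain ⟨N, hN, hNodd, hNz⟩ := Cfsg.Agent.S0215.result S v hvc.2.1.orderOf_eq hvc.1 fun g hg => by
    set w := g * v * g⁻¹ with hw
    have hwc := h.four_cases (h.mem_four_of_sq hg (hvc.2.1.conj g).2) (hvc.2.1.conj g).1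
    obtain ⟨c, hc, hn⟩ := exists_cent_mul_normalizer S hvc hwc hw.symm
    have e := hcon _ hn
    rw [show c * g * v * (c * g)⁻¹ = c * w * c⁻¹ by rw [hw]; group, commute_of_mem_cent hc,
      mul_inv_cancel_right] at e
    exact e
  haveI := hN
  rcases h.conf.normal_cases N with rfl | rfl
  · refine h1 (mem_bot.mp (h.conf.center_eq_bot ▸ mem_center_iff.mpr fun g => ?_))
    exact (mul_inv_eq_iff_eq_mul.mp (mul_inv_eq_one.mp (mem_bot.mp (hNz g)))).symm
  · rw [card_top] at hNodd
    exact Nat.not_even_iff_odd.mpr hNodd (even_iff_two_dvd.mpr h.conf.even)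

/-- An element of odd order normalizing the four-group and fixing one of its involutions centralizes it. -/
theorem cent_of_fix (h : Two π S a b) {g v : G} (hg : g ∈ normalizer (four S h : Set G)) (hodd : Odd (orderOf g))
    (hv : v ∈ four S h) (h1 : v ≠ 1) (hgv : g * v = v * g) : g ∈ centralizer (four S h : Set G) := by
  classical
  set V := four S h
  refine mem_centralizer_iff.mpr fun w hw => ?_
  by_contra hne
  have hw1 : w ≠ 1 := fun e => hne (by rw [e, one_mul, mul_one])
  have hwv : w ≠ v := fun e => hne (by rw [e]; exact hgv.symm)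
  set σ : G → G := fun x => g * x * g⁻¹
  have hσV : ∀ x ∈ V, σ x ∈ V := fun x hx => (mem_normalizer_iff.mp hg x).mp hx
  have hσv : σ v = v := by show g * v * g⁻¹ = v; rw [hgv, mul_inv_cancel_right]
  have hσw : σ w ≠ w := fun e => hne (mul_inv_eq_iff_eq_mul.mp e).symm
  have hσσ : σ (σ w) = w := by
    by_contra e
    have h2 : σ w ≠ v := fun e' => hwv (mul_left_cancel (mul_right_cancel (e'.trans hσv.symm)))
    have h3 : σ (σ w) ≠ σ w := fun e' => hσw (mul_left_cancel (mul_right_cancel e'))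
    have h4 : σ (σ w) ≠ v := fun e' => h2 (mul_left_cancel (mul_right_cancel (e'.trans hσv.symm)))
    have hne1 : ∀ x ∈ V, x ≠ 1 → σ x ≠ 1 := fun x _ hx e' => hx (conj_eq_one_iff.mp e')
    have hsub : ({1, v, w, σ w, σ (σ w)} : Finset G) ⊆ (Set.toFinite (V : Set G)).toFinset := by
      intro x hx
      simp only [Finset.mem_insert, Finset.mem_singleton] at hx
      rw [Set.Finite.mem_toFinset]
      rcases hx with rfl | rfl | rfl | rfl | rfl
      exacts [one_mem V, hv, hw, hσV w hw, hσV _ (hσV w hw)]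
    have hc := Finset.card_le_card hsub
    rw [← Set.ncard_eq_toFinset_card, ← Nat.card_coe_set_eq, SetLike.coe_sort_coe, h.card_four] at hc
    have h5 := hne1 w hw hw1
    have h6 := hne1 _ (hσV w hw) h5
    rw [Finset.card_insert_of_notMem (by simp [h1.symm, hw1.symm, h5.symm, h6.symm]),
      Finset.card_insert_of_notMem (by simp [hwv.symm, h2.symm, h4.symm]),
      Finset.card_insert_of_notMem (by simp [hσw.symm, Ne.symm e]),
      Finset.card_insert_of_notMem (by simp [h3.symm]), Finset.card_singleton] at hc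
    omega
  obtain ⟨j, hj⟩ := hodd
  have h2 : Commute (g ^ 2) w := (mul_inv_eq_iff_eq_mul.mp (by
    refine Eq.trans ?_ hσσ
    show g ^ 2 * w * (g ^ 2)⁻¹ = g * (g * w * g⁻¹) * g⁻¹
    rw [pow_two]; group) : g ^ 2 * w = w * g ^ 2)
  have h7 := h2.pow_left (j + 1)
  rw [← pow_mul, show 2 * (j + 1) = (2 * j + 1) + 1 by ring, pow_succ, ← hj, pow_orderOf_eq_one, one_mul] at h7
  exact hne h7.eq.symm

/-- An element of three-power order in the normalizer of `S` acting fixed-point-freely on the four-group. -/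
theorem exists_three (h : Two π S a b) : ∃ y ∈ normalizer ((S : Subgroup G) : Set G),
    (∃ k : ℕ, orderOf y = 3 ^ k) ∧ y ∉ centralizer (four S h : Set G) := by
  classical
  obtain ⟨n, hn, hne⟩ := h.exists_moved h.a_mem h.ha.2.1.1
  set C := centralizer (four S h : Set G)
  have hnC : n ∉ C := fun hc => hne (by
    rw [← mem_centralizer_iff.mp hc a h.a_mem, mul_inv_cancel_right])
  obtain ⟨k, m, hm, hk⟩ := Nat.exists_eq_two_pow_mul_odd (orderOf_pos n).ne'
  have hnm : n ^ m ∈ C := by
    refine h.sylow_le_cent (mem_of_twoEl_normalizer S ?_ (pow_mem hn m))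
    obtain ⟨i, -, hi⟩ := (Nat.dvd_prime_pow Nat.prime_two).mp (orderOf_dvd_of_pow_eq_one
      (show (n ^ m) ^ 2 ^ k = 1 by rw [← pow_mul, mul_comm, ← hk, pow_orderOf_eq_one]))
    exact ⟨i, hi⟩
  obtain ⟨e, r, hr, he⟩ := Nat.exists_eq_pow_mul_and_not_dvd (orderOf_pos n).ne' 3 (by norm_num)
  refine ⟨n ^ r, pow_mem hn r, ?_, fun hc => hnC ?_⟩
  · obtain ⟨i, -, hi⟩ := (Nat.dvd_prime_pow Nat.prime_three).mp (orderOf_dvd_of_pow_eq_one
      (show (n ^ r) ^ 3 ^ e = 1 by rw [← pow_mul, mul_comm, ← he, pow_orderOf_eq_one]))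
    exact ⟨i, hi⟩
  · have h1 : n ^ 3 ^ e ∈ C := by
      refine CfsgLib.HallNumbers.cent_of_four h.card_four (h.sylow_normalizer_le (pow_mem hn _)) hm ?_ fun hd => hr ?_
      · rw [← pow_mul, mul_comm, pow_mul]; exact pow_mem hnm _
      · refine hd.trans (orderOf_dvd_of_pow_eq_one ?_)
        rw [← pow_mul, ← he, pow_orderOf_eq_one]
    have hcop : Nat.Coprime (3 ^ e) r := Nat.Coprime.pow_left e ((Nat.prime_three.coprime_iff_not_dvd).mpr hr)
    have h2 := mul_mem (zpow_mem h1 (Nat.gcdA (3 ^ e) r)) (zpow_mem hc (Nat.gcdB (3 ^ e) r))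
    rwa [← zpow_natCast n (3 ^ e), ← zpow_mul, ← zpow_natCast n r, ← zpow_mul, ← zpow_add,
      ← Nat.gcd_eq_gcd_ab, hcop.gcd_eq_one, Nat.cast_one, zpow_one] at h2

theorem three_mem (h : Two π S a b) : 3 ∈ π := by
  by_contra h3
  obtain ⟨y, hy, ⟨k, hk⟩, hyC⟩ := h.exists_three
  refine hyC (mem_centralizer_iff.mpr fun v hv => (h.conf.cent_of_coEl h.four_piNum (h.sylow_normalizer_le hy)
    (fun p hp hd => ?_) hv).symm)
  rw [hk] at hd
  rwa [(Nat.prime_dvd_prime_iff_eq hp Nat.prime_three).mp (hp.dvd_of_dvd_pow hd)]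

end Two

end CfsgLib.PiClosedTwo
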