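import Cfsg.Agent.Lib.PiClosedTwo.Three
import Cfsg.Agent.Lib.SuzukiTwo.SixtyFour

/-!
Odd `π`-elements normalizing `S` and centralizing the four-group centralize `S`, so every centralizer of an
involution is its core times a Sylow `2`-subgroup.
-/

set_option autoImplicit false
set_option linter.unusedSectionVars false
set_option linter.style.haveILetI false

namespace CfsgLib.PiClosedTwo

open Subgroup Cfsg CfsgLib.HallE8 CfsgLib.ZCReduction
open scoped commutatorElement Pointwise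

universe u

variable {G : Type u} [Group G] [Finite G] {π : Set ℕ}

/-- An element of odd order moving `w` by a `2`-element it fixes fixes `w`. -/
theorem fix_trick {g w d : G} (hg : Odd (orderOf g)) (hd : IsTwoEl d) (hgd : g * d * g⁻¹ = d)
    (h : g * w * g⁻¹ = d * w) : d = 1 := by
  have hk : ∀ k : ℕ, g ^ k * w * (g ^ k)⁻¹ = d ^ k * w := by
    intro k
    induction k with
    | zero => simp
    | succ k ih =>
      calc g ^ (k + 1) * w * (g ^ (k + 1))⁻¹ = g * (g ^ k * w * (g ^ k)⁻¹) * g⁻¹ := by rw [pow_succ']; group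
        _ = g * (d ^ k * w) * g⁻¹ := by rw [ih]
        _ = (g * d * g⁻¹) ^ k * (g * w * g⁻¹) := by rw [conj_pow]; group
        _ = d ^ (k + 1) * w := by rw [hgd, h, ← mul_assoc, ← pow_succ]
  have h1 := hk (orderOf g)
  rw [pow_orderOf_eq_one, one_mul, inv_one, mul_one] at h1
  obtain ⟨j, hj⟩ := hd
  exact orderOf_eq_one_iff.mp (Nat.eq_one_of_dvd_coprimes ((Nat.coprime_two_left.mpr hg).pow_left j) (dvd_of_eq hj)
    (orderOf_dvd_of_pow_eq_one (mul_eq_right.mp h1.symm)))

theorem odd_of_odd_card {H : Subgroup G} (hH : Odd (Nat.card H)) {x : G} (hx : x ∈ H) : Odd (orderOf x) :=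
  Odd.of_dvd_nat hH (Subgroup.orderOf_dvd_natCard H hx)

namespace Two

variable {S : Sylow 2 G} {a b : G}

theorem center_iff (h : Two π S a b) (hs : CfsgLib.SuzukiTwo.Sixty (S : Subgroup G)) (x : (S : Subgroup G)) :
    x ∈ center (S : Subgroup G) ↔ (x : G) ∈ four S h := by
  refine ⟨fun hx => h.mem_four_of_sq x.2 (congrArg Subtype.val (hs.cen x hx)), fun hx => mem_center_iff.mpr fun y => ?_⟩
  exact Subtype.ext (h.four_comm hx y.2).symm

theorem sq_mem (h : Two π S a b) (hs : CfsgLib.SuzukiTwo.Sixty (S : Subgroup G)) {s : G}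
    (hsS : s ∈ (S : Subgroup G)) : s * s ∈ four S h :=
  (h.center_iff hs (⟨s, hsS⟩ * ⟨s, hsS⟩)).mp (hs.sq _)

theorem comm_mem (h : Two π S a b) (hs : CfsgLib.SuzukiTwo.Sixty (S : Subgroup G)) {s t : G}
    (hsS : s ∈ (S : Subgroup G)) (htS : t ∈ (S : Subgroup G)) : ⁅s, t⁆ ∈ four S h :=
  (h.center_iff hs ⁅(⟨s, hsS⟩ : (S : Subgroup G)), ⟨t, htS⟩⁆).mp (hs.cc _ _)

theorem exists_noncentral (h : Two π S a b) (hs : CfsgLib.SuzukiTwo.Sixty (S : Subgroup G)) :
    ∃ u ∈ (S : Subgroup G), u ∉ four S h := by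
  by_contra hc
  push Not at hc
  have := card_le_of_le (show (S : Subgroup G) ≤ four S h from hc)
  rw [h.card_four, hs.card] at this
  omega

/-- An odd element centralizing the four-group and fixing a coset of it in `S` centralizes `S`. -/
theorem cent_of_fix_coset (h : Two π S a b) (hs : CfsgLib.SuzukiTwo.Sixty (S : Subgroup G)) {g u : G}
    (hgS : g ∈ normalizer ((S : Subgroup G) : Set G)) (hgC : g ∈ centralizer (four S h : Set G))
    (hodd : Odd (orderOf g)) (huS : u ∈ (S : Subgroup G)) (huV : u ∉ four S h)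
    (hu : g * u * g⁻¹ * u⁻¹ ∈ four S h) : g ∈ centralizer ((S : Subgroup G) : Set G) := by
  set V := four S h
  have hfixV : ∀ v ∈ V, g * v * g⁻¹ = v := fun v hv => by
    rw [← mem_centralizer_iff.mp hgC v hv, mul_inv_cancel_right]
  have hconj : ∀ s ∈ (S : Subgroup G), g * s * g⁻¹ ∈ (S : Subgroup G) := fun s hs' =>
    (mem_normalizer_iff.mp hgS s).mp hs'
  have hTwo : ∀ s ∈ (S : Subgroup G), IsTwoEl s := fun s hs' => isTwoEl_of_mem S.2 hs'
  have step : ∀ w ∈ (S : Subgroup G), g * w * g⁻¹ * w⁻¹ ∈ V → g * w * g⁻¹ = w := fun w hw hd => by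
    have h1 := fix_trick (w := w) (d := g * w * g⁻¹ * w⁻¹) hodd (hTwo _ (h.four_le hd)) (hfixV _ hd) (by group)
    exact mul_inv_eq_one.mp h1
  have hgu := step u huS hu
  set u' : (S : Subgroup G) := ⟨u, huS⟩
  have hu' : u' ∉ center (S : Subgroup G) := fun e => huV ((h.center_iff hs u').mp e)
  -- fixes the centralizer of `u`
  have hT : ∀ w ∈ (S : Subgroup G), w * u = u * w → g * w * g⁻¹ = w := by
    intro w hw hwu
    refine step w hw (h.mem_four_of_sq (mul_mem (hconj w hw) (inv_mem hw)) ?_)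
    have hw1 : (⟨w, hw⟩ : (S : Subgroup G)) ∈ centralizer ({u'} : Set (S : Subgroup G)) :=
      mem_centralizer_singleton_iff.mpr (Subtype.ext hwu)
    have hw2 : (⟨g * w * g⁻¹, hconj w hw⟩ : (S : Subgroup G)) ∈ centralizer ({u'} : Set (S : Subgroup G)) := by
      refine mem_centralizer_singleton_iff.mpr (Subtype.ext ?_)
      show g * w * g⁻¹ * u = u * (g * w * g⁻¹)
      have := conj_commute g hwu
      rwa [hgu] at this
    have hcm : g * w * g⁻¹ * w⁻¹ = w⁻¹ * (g * w * g⁻¹) :=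
      congrArg Subtype.val (hs.centralizer_comm hu' _ hw2 _ (inv_mem hw1))
    calc g * w * g⁻¹ * w⁻¹ * (g * w * g⁻¹ * w⁻¹) = g * w * g⁻¹ * (w⁻¹ * (g * w * g⁻¹)) * w⁻¹ := by group
      _ = g * w * g⁻¹ * (g * w * g⁻¹ * w⁻¹) * w⁻¹ := by rw [hcm]
      _ = g * (w * w) * g⁻¹ * (w * w)⁻¹ := by group
      _ = 1 := by rw [hfixV _ (h.sq_mem hs hw), mul_inv_cancel]
  refine mem_centralizer_iff.mpr fun s hs' => ?_
  set d := g * s * g⁻¹ * s⁻¹ with hd
  have hdS : d ∈ (S : Subgroup G) := mul_mem (hconj s hs') (inv_mem hs')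
  have hdu : d * u = u * d := by
    have hc : u * s * u⁻¹ * s⁻¹ ∈ V := h.comm_mem hs huS hs'
    set z := u * s * u⁻¹ * s⁻¹ with hz
    set q := g * s * g⁻¹ with hq
    have e1 : u * q * u⁻¹ = z * q := by
      calc u * q * u⁻¹ = g * u * g⁻¹ * q * (g * u * g⁻¹)⁻¹ := by rw [hgu]
        _ = g * (z * s) * g⁻¹ := by rw [hz, hq]; group
        _ = g * z * g⁻¹ * q := by rw [hq]; group
        _ = z * q := by rw [hfixV z hc]
    have hzq : z * q = q * z := h.four_comm hc (hconj s hs')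
    have e2 : u * d * u⁻¹ = d := by
      calc u * d * u⁻¹ = u * q * u⁻¹ * (u * s * u⁻¹)⁻¹ := by rw [hd]; group
        _ = z * q * (z * s)⁻¹ := by rw [e1, show u * s * u⁻¹ = z * s by rw [hz]; group]
        _ = q * z * (z * s)⁻¹ := by rw [hzq]
        _ = q * (z * s⁻¹) * z⁻¹ := by group
        _ = q * (s⁻¹ * z) * z⁻¹ := by rw [h.four_comm hc (inv_mem hs')]
        _ = d := by rw [hd]; group
    exact (mul_inv_eq_iff_eq_mul.mp e2).symm
  have h1 := fix_trick (w := s) hodd (hTwo d hdS) (hT d hdS hdu) (by rw [hd]; group)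
  exact (mul_inv_eq_iff_eq_mul.mp (mul_inv_eq_one.mp h1)).symm

/-- The action of a subgroup normalizing `S` on the quotient of `S` by its centre. -/
noncomputable def frameHom (S : Sylow 2 G) {L : Subgroup G} (hL : L ≤ normalizer ((S : Subgroup G) : Set G)) :
    L →* MulAut ((S : Subgroup G) ⧸ center (S : Subgroup G)) where
  toFun l := QuotientGroup.congr (center (S : Subgroup G)) (center (S : Subgroup G))
    (Subgroup.normalizerMonoidHom (S : Subgroup G) ⟨l, hL l.2⟩)
    (Subgroup.characteristic_iff_map_eq.mp inferInstance _)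
  map_one' := MulEquiv.ext fun q => by
    obtain ⟨s, rfl⟩ := QuotientGroup.mk'_surjective _ q
    exact congrArg (QuotientGroup.mk' _) (Subtype.ext (by show (1 : G) * s * (1 : G)⁻¹ = s; simp))
  map_mul' l m := MulEquiv.ext fun q => by
    obtain ⟨s, rfl⟩ := QuotientGroup.mk'_surjective _ q
    exact congrArg (QuotientGroup.mk' _) (Subtype.ext (by
      show (l : G) * m * s * ((l : G) * m)⁻¹ = l * (m * s * (m : G)⁻¹) * (l : G)⁻¹
      group))

theorem frameHom_apply {L : Subgroup G} (hL : L ≤ normalizer ((S : Subgroup G) : Set G)) (l : L)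
    (s : (S : Subgroup G)) :
    frameHom S hL l (QuotientGroup.mk s) =
      QuotientGroup.mk ⟨(l : G) * s * (l : G)⁻¹, (mem_normalizer_iff.mp (hL l.2) s).mp s.2⟩ := rfl

theorem frameHom_fix (h : Two π S a b) (hs : CfsgLib.SuzukiTwo.Sixty (S : Subgroup G)) {L : Subgroup G}
    (hL : L ≤ normalizer ((S : Subgroup G) : Set G)) {l : L} {s : G} (hsS : s ∈ (S : Subgroup G))
    (e : frameHom S hL l (QuotientGroup.mk ⟨s, hsS⟩) = QuotientGroup.mk ⟨s, hsS⟩) :
    (l : G) * s * (l : G)⁻¹ * s⁻¹ ∈ four S h := by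
  rw [frameHom_apply] at e
  have h1 := (h.center_iff hs _).mp (QuotientGroup.eq.mp e)
  have h2 : (((l : G) * s * (l : G)⁻¹))⁻¹ * s ∈ four S h := h1
  have h3 := inv_mem h2
  rw [mul_inv_rev, inv_inv] at h3
  have h4 : s * (s⁻¹ * ((l : G) * s * (l : G)⁻¹)) * s⁻¹ = s⁻¹ * ((l : G) * s * (l : G)⁻¹) :=
    mul_inv_eq_iff_eq_mul.mpr (h.four_comm h3 hsS).symm
  rw [show (l : G) * s * (l : G)⁻¹ * s⁻¹ = s * (s⁻¹ * ((l : G) * s * (l : G)⁻¹)) * s⁻¹ by group, h4]
  exact h3

theorem frameHom_sylow (h : Two π S a b) (hs : CfsgLib.SuzukiTwo.Sixty (S : Subgroup G)) {L : Subgroup G}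
    (hL : L ≤ normalizer ((S : Subgroup G) : Set G)) {l : L} (hl : (l : G) ∈ (S : Subgroup G)) :
    frameHom S hL l = 1 := by
  refine MulEquiv.ext fun q => ?_
  obtain ⟨⟨s, hsS⟩, rfl⟩ := QuotientGroup.mk'_surjective _ q
  show frameHom S hL l (QuotientGroup.mk ⟨s, hsS⟩) = _
  rw [frameHom_apply]
  refine QuotientGroup.eq.mpr ((h.center_iff hs _).mpr ?_)
  have h1 := h.comm_mem hs hl (inv_mem hsS)
  show ((l : G) * s * (l : G)⁻¹)⁻¹ * s ∈ four S h
  rw [show ((l : G) * s * (l : G)⁻¹)⁻¹ * s = ⁅(l : G), s⁻¹⁆ by rw [commutatorElement_def]; group]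
  exact h1

/-- The odd `π`-elements normalizing `S` and centralizing the four-group centralize `S`. -/
theorem odd_cent (h : Two π S a b) (hs : CfsgLib.SuzukiTwo.Sixty (S : Subgroup G)) {g : G}
    (hgS : g ∈ normalizer ((S : Subgroup G) : Set G)) (hgC : g ∈ centralizer (four S h : Set G))
    (hodd : Odd (orderOf g)) (hgπ : IsPiNum π (orderOf g)) : g ∈ centralizer ((S : Subgroup G) : Set G) := by
  classical
  haveI : Fact (Nat.Prime 2) := ⟨Nat.prime_two⟩
  by_contra hne
  set V := four S h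
  set N := normalizer (V : Set G)
  set C := centralizer (V : Set G)
  have hCN : C ≤ N := centralizer_le_normalizer _
  have hNne : N ≠ ⊤ := h.normalizer_ne_top
  have hSN : (S : Subgroup G) ≤ N := h.sylow_le_cent.trans hCN
  obtain ⟨u, huS, huV⟩ := h.exists_noncentral hs
  set U := (S : Subgroup G) ⊔ zpowers g
  have hUπ : IsPiNum π (Nat.card U) := by
    refine ((isPiNum_of_isPGroup h.conf.two S.2).mul hgπ).of_dvd ?_
    rw [← Nat.card_zpowers g, ← card_sup_mul (zpowers_le.mpr hgS)]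
    exact dvd_mul_right _ _
  obtain ⟨L, hL, hUL⟩ := h.conf.exists_hall hNne (sup_le hSN (zpowers_le.mpr (hCN hgC))) hUπ
  have hSL : (S : Subgroup G) ≤ L := le_sup_left.trans hUL
  have hgL : g ∈ L := hUL (mem_sup_right (mem_zpowers g))
  have hLS : L ≤ normalizer ((S : Subgroup G) : Set G) := by
    obtain ⟨T, -, hT, hTn, hTm⟩ := exists_twoGroup h.conf.twoClosed hL.2.1
    have e : T = (S : Subgroup G) := S.3 hT fun x hx => hTm x (hSL hx) (isTwoEl_of_mem S.2 hx)
    exact e ▸ hTn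
  set β := frameHom S hLS
  set Q := (S : Subgroup G) ⧸ center (S : Subgroup G)
  set B := C.subgroupOf L
  have hSker : (S : Subgroup G).subgroupOf L ≤ β.ker := fun l hl => h.frameHom_sylow hs hLS hl
  have hRodd : Odd (Nat.card β.range) := by
    rw [← index_ker]
    exact Nat.odd_iff.mpr (Nat.two_dvd_ne_zero.mp fun e =>
      (S.subtype hSL).not_dvd_index (e.trans (index_dvd_of_le hSker)))
  -- the centralizer of the four-group induces a semiregular group of order five
  set R0 := B.map β with hR0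
  have htriv : ∀ l ∈ B, ∀ s : (S : Subgroup G), s ∉ center (S : Subgroup G) →
      β l (QuotientGroup.mk s) = QuotientGroup.mk s → β l = 1 := by
    intro l hl s hsc e
    obtain ⟨k, m, hm, hk⟩ := Nat.exists_eq_two_pow_mul_odd (orderOf_pos l).ne'
    have hfix : ∀ j : ℕ, β (l ^ j) (QuotientGroup.mk s) = QuotientGroup.mk s := by
      intro j
      induction j with
      | zero => rw [pow_zero, map_one]; rfl
      | succ j ih => rw [pow_succ, map_mul, MulAut.mul_apply, e, ih]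
    have hw : β (l ^ 2 ^ k) = 1 := by
      have hwo : Odd (orderOf ((l ^ 2 ^ k : L) : G)) := by
        rw [Subgroup.orderOf_coe]
        exact Odd.of_dvd_nat hm (orderOf_dvd_of_pow_eq_one (by rw [← pow_mul, ← hk, pow_orderOf_eq_one]))
      have h1 := h.cent_of_fix_coset hs (hLS (l ^ 2 ^ k).2) (mem_subgroupOf.mp (pow_mem hl _ : l ^ 2 ^ k ∈ B)) hwo s.2
        (fun hh => hsc ((h.center_iff hs s).mpr hh)) (h.frameHom_fix hs hLS s.2 (hfix _))
      refine MulEquiv.ext fun q => ?_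
      obtain ⟨t, rfl⟩ := QuotientGroup.mk'_surjective _ q
      refine congrArg (QuotientGroup.mk' _) (Subtype.ext ?_)
      show ((l ^ 2 ^ k : L) : G) * t * ((l ^ 2 ^ k : L) : G)⁻¹ = t
      rw [← mem_centralizer_iff.mp h1 t t.2, mul_inv_cancel_right]
    have h2 : orderOf (β l) ∣ 2 ^ k := orderOf_dvd_of_pow_eq_one (by rw [← map_pow, hw])
    exact orderOf_eq_one_iff.mp (Nat.eq_one_of_dvd_coprimes
      ((Nat.coprime_two_left.mpr hRodd).pow_left k) h2 (Subgroup.orderOf_dvd_natCard β.range ⟨l, rfl⟩))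
  have h15 : Nat.card R0 ∣ 15 := by
    let X := {q : Q // q ≠ 1}
    letI : MulAction R0 X :=
      { smul := fun r q => ⟨(r : MulAut Q) q.1, fun e => q.2 ((r : MulAut Q).map_eq_one_iff.mp e)⟩
        one_smul := fun q => rfl
        mul_smul := fun r r' q => rfl }
    have hfree : ∀ x : X, MulAction.stabilizer R0 x = ⊥ := fun x => (eq_bot_iff_forall _).mpr fun r hr => by
      obtain ⟨l, hl, e⟩ := r.2
      obtain ⟨s, hse⟩ := QuotientGroup.mk'_surjective _ x.1
      have h1 : (r : MulAut Q) x.1 = x.1 := congrArg Subtype.val (MulAction.mem_stabilizer_iff.mp hr)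
      rw [← e, ← hse] at h1
      refine Subtype.ext (e.symm.trans (htriv l hl s (fun hc => x.2 ?_) h1))
      rw [← hse]
      exact (QuotientGroup.eq_one_iff s).mpr hc
    have e1 := Nat.card_congr (MulAction.selfEquivSigmaOrbitsQuotientStabilizer R0 X)
    have e2 : ∀ w : MulAction.orbitRel.Quotient R0 X, (R0 ⧸ MulAction.stabilizer R0 (Quotient.out w)) ≃ R0 :=
      fun w => (Subgroup.quotientEquivOfEq (hfree _)).trans QuotientGroup.quotientBot.toEquiv
    rw [Nat.card_congr ((Equiv.sigmaCongrRight e2).trans (Equiv.sigmaEquivProd _ _)), Nat.card_prod] at e1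
    have hQ : Nat.card Q = 16 := by
      have := card_eq_card_quotient_mul_card_subgroup (center (S : Subgroup G))
      rw [hs.card, hs.card_center] at this
      show Nat.card ((S : Subgroup G) ⧸ center (S : Subgroup G)) = 16
      omega
    have hX : Nat.card X = 15 := by
      haveI := Fintype.ofFinite Q
      rw [Nat.card_eq_fintype_card, Fintype.card_subtype_compl, ← Nat.card_eq_fintype_card, hQ]
      simp
    rw [hX] at e1
    exact ⟨_, e1.trans (mul_comm _ _)⟩
  have h5 : Nat.card R0 ∣ 5 := by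
    refine Nat.Coprime.dvd_of_dvd_mul_left ?_ (show Nat.card R0 ∣ 3 * 5 from h15)
    refine ((Nat.prime_three.coprime_iff_not_dvd).mpr fun e => h.not_three_dvd ?_).symm
    exact e.trans ((card_map_dvd B β).trans (card_comap_dvd_of_injective C L.subtype L.subtype_injective))
  have hg0 : β ⟨g, hgL⟩ ≠ 1 := fun e => hne (h.cent_of_fix_coset hs hgS hgC hodd huS huV
    (h.frameHom_fix hs hLS (l := ⟨g, hgL⟩) huS (by rw [e]; rfl)))
  have hgR : β ⟨g, hgL⟩ ∈ R0 := mem_map_of_mem β (show (⟨g, hgL⟩ : L) ∈ B from hgC)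
  haveI : Fact (Nat.Prime 5) := ⟨Nat.prime_five⟩
  have hR5 : Nat.card R0 = 5 := ((Nat.dvd_prime Nat.prime_five).mp h5).resolve_left fun e =>
    hg0 (mem_bot.mp (card_eq_one.mp e ▸ hgR))
  have hgo : orderOf (β ⟨g, hgL⟩) = 5 := by
    refine ((Nat.dvd_prime Nat.prime_five).mp ?_).resolve_left fun e => hg0 (orderOf_eq_one_iff.mp e)
    exact hR5 ▸ Subgroup.orderOf_dvd_natCard R0 hgR
  have h5π : 5 ∈ π := hgπ 5 Nat.prime_five (by
    rw [← hgo]
    exact (orderOf_map_dvd β _).trans (dvd_of_eq (Subgroup.orderOf_mk ..)))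
  -- the five-part of `g`
  obtain ⟨e5, r5, hr5, he5⟩ := Nat.exists_eq_pow_mul_and_not_dvd (orderOf_pos (⟨g, hgL⟩ : L)).ne' 5 (by norm_num)
  obtain ⟨x, hxz, hxd, hxe⟩ := exists_part β (⟨g, hgL⟩ : L) (a := r5) (b := 5 ^ e5) (he5.trans (mul_comm _ _))
    ((Nat.Coprime.pow_left e5 (Nat.prime_five.coprime_iff_not_dvd.mpr hr5)).symm)
    (by rw [hgo]; exact Nat.prime_five.coprime_iff_not_dvd.mpr hr5)
  obtain ⟨k5, -, hk5⟩ := (Nat.dvd_prime_pow Nat.prime_five).mp hxd
  have hxC : (x : G) ∈ C := mem_subgroupOf.mp ((zpowers_le.mpr (show (⟨g, hgL⟩ : L) ∈ B from hgC)) hxz)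
  obtain ⟨n, hn, hy⟩ := h.mem_commutator (p := 5) (by norm_num) (by norm_num) h5π hL hxC
    ⟨k5, by rw [Subgroup.orderOf_coe, hk5]⟩
  -- the image of `L` is commutative
  have hR0n : ∀ l : L, ∀ r ∈ R0, β l * r * (β l)⁻¹ ∈ R0 := by
    rintro l _ ⟨c, hc, rfl⟩
    exact ⟨l * c * l⁻¹, h.cent_conj_le (hL.1 l.2) hc, by rw [map_mul, map_mul, map_inv]⟩
  have hcentral : ∀ l : L, ∀ r ∈ R0, β l * r = r * β l := by
    intro l r hr
    by_cases hr1 : r = 1
    · rw [hr1, mul_one, one_mul]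
    by_contra hne'
    have hreal : ∀ i : L, β i * r * (β i)⁻¹ ≠ r⁻¹ := fun i e => hr1 (by
      have hrR : r ∈ β.range := by obtain ⟨c, -, rfl⟩ := hr; exact ⟨c, rfl⟩
      exact congrArg Subtype.val (eq_one_of_real (Q := β.range) hRodd (x := ⟨r, hrR⟩) (g := ⟨β i, ⟨i, rfl⟩⟩)
        (Subtype.ext e)))
    set s := β l * r * (β l)⁻¹ with hs'
    have hs1 : s ≠ r := fun e => hne' (mul_inv_eq_iff_eq_mul.mp e)
    have hsR : s ∈ R0 := hR0n l r hr
    set t := β l * s * (β l)⁻¹ with ht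
    have hts : t ≠ s := fun e => hs1 (mul_left_cancel (mul_right_cancel e))
    have htr : t ≠ r := by
      intro e
      obtain ⟨j, hj⟩ := Odd.of_dvd_nat hRodd (Subgroup.orderOf_dvd_natCard β.range ⟨l, rfl⟩)
      have h2 : Commute (β l ^ 2) r := (mul_inv_eq_iff_eq_mul.mp (by
        conv_rhs => rw [← e, ht, hs']
        rw [pow_two]; group) : β l ^ 2 * r = r * β l ^ 2)
      have h7 := h2.pow_left (j + 1)
      rw [← pow_mul, show 2 * (j + 1) = (2 * j + 1) + 1 by ring, pow_succ, ← hj, pow_orderOf_eq_one, one_mul] at h7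
      exact hne' h7.eq
    have hinv : ∀ i : L, ∀ v ∈ R0, v ≠ 1 → β i * v * (β i)⁻¹ ≠ 1 := fun i v _ hv e => hv (conj_eq_one_iff.mp e)
    -- six distinct nontrivial elements
    have htR : t ∈ R0 := hR0n l s hsR
    have hcard : Nat.card R0 < 6 := by rw [hR5]; norm_num
    have hreal2 : β l * s * (β l)⁻¹ ≠ s⁻¹ := fun e => hreal l (by
      refine (mul_left_cancel (a := β l) (mul_right_cancel (b := (β l)⁻¹) ?_))
      rw [← hs', e, hs']; group)
    have hsr : s ≠ r⁻¹ := hreal l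
    have htr' : t ≠ r⁻¹ := by
      rw [ht, hs', show β l * (β l * r * (β l)⁻¹) * (β l)⁻¹ = β (l * l) * r * (β (l * l))⁻¹ by rw [map_mul]; group]
      exact hreal _
    have hrr : r ≠ r⁻¹ := fun e => hreal 1 (by rw [map_one, one_mul, inv_one, mul_one]; exact e)
    have hs0 : s ≠ 1 := hinv l r hr hr1
    have ht0 : t ≠ 1 := hinv l s hsR hs0
    have hsub : ({1, r, r⁻¹, s, s⁻¹, t} : Finset (MulAut Q)) ⊆ (Set.toFinite (R0 : Set (MulAut Q))).toFinset := by
      intro v hv
      simp only [Finset.mem_insert, Finset.mem_singleton] at hv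
      rw [Set.Finite.mem_toFinset]
      rcases hv with rfl | rfl | rfl | rfl | rfl | rfl
      exacts [one_mem R0, hr, inv_mem hr, hsR, inv_mem hsR, htR]
    have hc := Finset.card_le_card hsub
    rw [← Set.ncard_eq_toFinset_card, ← Nat.card_coe_set_eq, SetLike.coe_sort_coe] at hc
    have hss : s ≠ s⁻¹ := fun e => hrr (mul_left_cancel (a := β l) (mul_right_cancel (b := (β l)⁻¹)
      (show β l * r * (β l)⁻¹ = β l * r⁻¹ * (β l)⁻¹ by rw [← hs', e, hs']; group)))
    have hsi : s⁻¹ ≠ r := fun e => hsr (by rw [← e, inv_inv])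
    have hsi' : s⁻¹ ≠ r⁻¹ := fun e => hs1 (inv_injective e)
    have hts' : t ≠ s⁻¹ := hreal2
    rw [Finset.card_insert_of_notMem (by simp [Ne.symm hr1, (inv_ne_one.mpr hr1).symm, hs0.symm,
        (inv_ne_one.mpr hs0).symm, ht0.symm]),
      Finset.card_insert_of_notMem (by simp [hrr, hs1.symm, hsi.symm, htr.symm]),
      Finset.card_insert_of_notMem (by simp [hsr.symm, hsi'.symm, htr'.symm]),
      Finset.card_insert_of_notMem (by simp [hss, hts.symm]),
      Finset.card_insert_of_notMem (by simp [hts'.symm]), Finset.card_singleton] at hc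
    exact absurd (lt_of_le_of_lt hc hcard) (by norm_num)
  have hfixa : ∀ l : L, (l : G) * a * (l : G)⁻¹ = a → l ∈ B := by
    intro l hla
    obtain ⟨k, m, hm, hk⟩ := Nat.exists_eq_two_pow_mul_odd (orderOf_pos l).ne'
    have h1 : l ^ m ∈ B := by
      refine h.sylow_le_cent (mem_of_twoEl_normalizer S ?_ (hLS (l ^ m).2))
      obtain ⟨i, -, hi⟩ := (Nat.dvd_prime_pow Nat.prime_two).mp (orderOf_dvd_of_pow_eq_one
        (show (l ^ m) ^ 2 ^ k = 1 by rw [← pow_mul, mul_comm, ← hk, pow_orderOf_eq_one]))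
      exact ⟨i, by show orderOf ((l ^ m : L) : G) = _; rw [Subgroup.orderOf_coe, hi]⟩
    have h2 : l ^ 2 ^ k ∈ B := by
      refine h.cent_of_fix (hL.1 (l ^ 2 ^ k).2) ?_ h.a_mem h.ha.2.1.1 ?_
      · show Odd (orderOf ((l ^ 2 ^ k : L) : G))
        rw [Subgroup.orderOf_coe]
        exact Odd.of_dvd_nat hm (orderOf_dvd_of_pow_eq_one (by rw [← pow_mul, ← hk, pow_orderOf_eq_one]))
      · show ((l ^ 2 ^ k : L) : G) * a = a * ((l ^ 2 ^ k : L) : G)
        rw [Subgroup.coe_pow]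
        exact ((show Commute (l : G) a from mul_inv_eq_iff_eq_mul.mp hla).pow_left _).eq
    obtain ⟨c, hc⟩ : ∃ c : ℤ, l = (l ^ m) ^ (Nat.gcdA m (2 ^ k)) * (l ^ 2 ^ k) ^ (Nat.gcdB m (2 ^ k)) ∧ c = 0 := by
      refine ⟨0, ?_, rfl⟩
      rw [← zpow_natCast l m, ← zpow_natCast l (2 ^ k), ← zpow_mul, ← zpow_mul, ← zpow_add, ← Nat.gcd_eq_gcd_ab,
        ((Nat.coprime_two_left.mpr hm).pow_left k).symm.gcd_eq_one, Nat.cast_one, zpow_one]
    rw [hc.1]
    exact mul_mem (zpow_mem h1 _) (zpow_mem h2 _)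
  have hL3 : Nat.card (L ⧸ B) ≤ 3 := by
    let f : L ⧸ B → {x : V // x ≠ 1} := fun q => ⟨⟨(q.out : G) * a * (q.out : G)⁻¹,
      (mem_normalizer_iff.mp (hL.1 q.out.2) a).mp h.a_mem⟩,
      fun e => h.ha.2.1.1 (conj_eq_one_iff.mp (congrArg Subtype.val e))⟩
    have hf : Function.Injective f := by
      intro q q' e
      have e1 : (q.out : G) * a * (q.out : G)⁻¹ = (q'.out : G) * a * (q'.out : G)⁻¹ :=
        congrArg (fun w : {x : V // x ≠ 1} => (w.1 : G)) e
      rw [← q.out_eq, ← q'.out_eq]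
      refine QuotientGroup.eq.mpr (hfixa _ ?_)
      rw [Subgroup.coe_mul, Subgroup.coe_inv]
      calc (q.out : G)⁻¹ * q'.out * a * ((q.out : G)⁻¹ * q'.out)⁻¹
          = (q.out : G)⁻¹ * (q'.out * a * (q'.out : G)⁻¹) * q.out := by group
        _ = (q.out : G)⁻¹ * (q.out * a * (q.out : G)⁻¹) * q.out := by rw [e1]
        _ = a := by group
    refine (Nat.card_le_card_of_injective f hf).trans (le_of_eq ?_)
    haveI := Fintype.ofFinite ↥V
    rw [Nat.card_eq_fintype_card, Fintype.card_subtype_compl, ← Nat.card_eq_fintype_card, h.card_four]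
    simp
  have hyC : n * (x : G) * n⁻¹ ∈ C := h.cent_conj_le hn hxC
  set y : L := ⟨n * x * n⁻¹, (commutator_le.mpr fun p hp q hq => mul_mem (mul_mem (mul_mem hp hq) (inv_mem hp))
    (inv_mem hq)) hy⟩ with hyy
  have hy1 : β y = 1 := by
    have hcommL : ∀ p q : L, β p * β q = β q * β p := by
      intro p q
      have key : ∀ p q : L, β ⁅p, q⁆ ∈ R0 := fun p q => mem_map_of_mem β (show ⁅p, q⁆ ∈ B from
        mem_subgroupOf.mpr (h.commutator_le_cent (hL.1 p.2) (hL.1 q.2)))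
      let A : Subgroup β.range := R0.subgroupOf β.range
      have hAc : A ≤ center β.range := fun r hr => mem_center_iff.mpr fun v => Subtype.ext (by
        obtain ⟨l, hl⟩ := v.2
        show (v : MulAut Q) * r = r * v
        rw [← hl]
        exact hcentral l _ hr)
      haveI : A.Normal := ⟨fun r hr v => by
        rw [mem_center_iff.mp (hAc hr) v, mul_inv_cancel_right]; exact hr⟩
      haveI : IsCyclic (β.range ⧸ A) := by
        let f : L ⧸ B → β.range ⧸ A := fun q => QuotientGroup.mk ⟨β q.out, q.out, rfl⟩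
        have hf : Function.Surjective f := by
          intro v
          obtain ⟨⟨_, l, rfl⟩, rfl⟩ := QuotientGroup.mk'_surjective A v
          refine ⟨QuotientGroup.mk l, QuotientGroup.eq.mpr (mem_subgroupOf.mpr ?_)⟩
          show (β (QuotientGroup.mk l : L ⧸ B).out)⁻¹ * β l ∈ R0
          rw [← map_inv, ← map_mul]
          exact mem_map_of_mem β (QuotientGroup.eq.mp (QuotientGroup.out_eq' _))
        have h1 := (Nat.card_le_card_of_surjective f hf).trans hL3
        have h2 : Odd (Nat.card (β.range ⧸ A)) := Odd.of_dvd_nat hRodd (card_quotient_dvd_card A)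
        rcases (by obtain ⟨j, hj⟩ := h2; omega : Nat.card (β.range ⧸ A) = 1 ∨ Nat.card (β.range ⧸ A) = 3) with e | e
        · haveI := (Nat.card_eq_one_iff_unique.mp e).1
          exact isCyclic_of_subsingleton
        · haveI : Fact (Nat.Prime 3) := ⟨Nat.prime_three⟩
          exact isCyclic_of_prime_card (p := 3) e
      exact congrArg Subtype.val ((commutative_of_cyclic_center_quotient (QuotientGroup.mk' A)
        (by rw [QuotientGroup.ker_mk']; exact hAc) ⟨β p, p, rfl⟩ ⟨β q, q, rfl⟩))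
    have hker : (⁅(⊤ : Subgroup L), ⊤⁆ : Subgroup L) ≤ β.ker := commutator_le.mpr fun p _ q _ =>
      MonoidHom.mem_ker.mpr (by rw [map_commutatorElement, commutatorElement_eq_one_iff_mul_comm]; exact hcommL p q)
    have e1 : ⁅L, L⁆ = (⁅(⊤ : Subgroup L), (⊤ : Subgroup L)⁆ : Subgroup L).map L.subtype := by
      rw [map_commutator, ← MonoidHom.range_eq_map, range_subtype]
    obtain ⟨y', hy', e⟩ := e1.le hy
    exact (show y' = y from Subtype.ext e) ▸ hker hy'
  have hyo : Odd (orderOf (n * (x : G) * n⁻¹)) := by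
    rw [show n * (x : G) * n⁻¹ = (MulAut.conj n).toMonoidHom x from rfl,
      orderOf_injective _ (MulEquiv.injective (MulAut.conj n)), Subgroup.orderOf_coe, hk5]
    exact (by decide : Odd 5).pow
  have hyS : n * (x : G) * n⁻¹ ∈ centralizer ((S : Subgroup G) : Set G) :=
    h.cent_of_fix_coset hs (hLS y.2) hyC hyo huS huV (h.frameHom_fix hs hLS (l := y) huS (by rw [hy1]; rfl))
  -- pull back to `x`
  obtain ⟨r, hr, l, hl, e⟩ := exists_decomp (h.conf.closed N hNne) hL hn
  subst e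
  set x' := l * (x : G) * l⁻¹ with hx'
  have hx'L : x' ∈ L := mul_mem (mul_mem hl x.2) (inv_mem hl)
  have hx'S : x' ∈ centralizer ((S : Subgroup G) : Set G) := by
    refine mem_centralizer_iff.mpr fun s hs' => ?_
    have h1 : x' * (r⁻¹ * s * r) * x'⁻¹ = r⁻¹ * s * r := by
      have := mem_centralizer_iff.mp hyS s hs'
      calc x' * (r⁻¹ * s * r) * x'⁻¹ = r⁻¹ * (r * l * x * (r * l)⁻¹ * s) * (r * l * x * (r * l)⁻¹)⁻¹ * r := by
            rw [hx']; group
        _ = r⁻¹ * (s * (r * l * x * (r * l)⁻¹)) * (r * l * x * (r * l)⁻¹)⁻¹ * r := by rw [← this]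
        _ = _ := by group
    have hRn := le_normalizer_piCore π N
    set ρ := s⁻¹ * (r⁻¹ * s * r) with hρ
    have hρR : ρ ∈ piCore π N := by
      rw [hρ, show s⁻¹ * (r⁻¹ * s * r) = (s⁻¹ * r⁻¹ * s⁻¹⁻¹) * r by group]
      exact mul_mem ((mem_normalizer_iff.mp (hRn (inv_mem (hSN hs'))) _).mp (inv_mem hr)) hr
    have hxs : x' * s * x'⁻¹ ∈ (S : Subgroup G) := (mem_normalizer_iff.mp (hLS hx'L) s).mp hs'
    have h2 : s⁻¹ * (x' * s * x'⁻¹) ∈ piCore π N := by
      have e1 : s⁻¹ * (x' * s * x'⁻¹) = ρ * (x' * ρ * x'⁻¹)⁻¹ := by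
        calc s⁻¹ * (x' * s * x'⁻¹) = s⁻¹ * (x' * (r⁻¹ * s * r) * x'⁻¹) * (x' * ρ * x'⁻¹)⁻¹ := by rw [hρ]; group
          _ = _ := by rw [h1]
      rw [e1]
      exact mul_mem hρR (inv_mem ((mem_normalizer_iff.mp (hRn (hL.1 hx'L)) ρ).mp hρR))
    have h3 := eq_one_of_pi_of_coEl (isPiNum_of_isPGroup h.conf.two S.2)
      (Subgroup.mul_mem _ (Subgroup.inv_mem _ hs') hxs) (coEl_of_mem_piCore (h.conf.closed N hNne) h2)
    exact (mul_inv_eq_iff_eq_mul.mp (inv_mul_eq_one.mp h3).symm).symm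
  refine hg0 (hxe ▸ MulEquiv.ext fun q => ?_)
  obtain ⟨s, rfl⟩ := QuotientGroup.mk'_surjective _ q
  refine congrArg (QuotientGroup.mk' _) (Subtype.ext ?_)
  show (x : G) * s * (x : G)⁻¹ = s
  have hls : l * s * l⁻¹ ∈ (S : Subgroup G) := (mem_normalizer_iff.mp (hLS hl) s).mp s.2
  have h4 : x' * (l * s * l⁻¹) * x'⁻¹ = l * s * l⁻¹ := by
    rw [← mem_centralizer_iff.mp hx'S _ hls, mul_inv_cancel_right]
  calc (x : G) * s * (x : G)⁻¹ = l⁻¹ * (x' * (l * s * l⁻¹) * x'⁻¹) * l := by rw [hx']; group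
    _ = l⁻¹ * (l * s * l⁻¹) * l := by rw [h4]
    _ = s := by group

end Two

end CfsgLib.PiClosedTwo
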