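import Cfsg.Agent.Lib.PiClosedTwo.Transfer
import Cfsg.Agent.Lib.PiClosedTwo.OddTransfer

/-!
The centralizer of the four-group of a minimal counterexample has order prime to three.
-/

set_option autoImplicit false
set_option linter.unusedSectionVars false
set_option linter.style.haveILetI false

namespace CfsgLib.PiClosedTwo

open Subgroup Cfsg CfsgLib.HallE8 CfsgLib.ZCReduction
open scoped commutatorElement Pointwise

universe u

variable {G : Type u} [Group G] [Finite G] {π : Set ℕ}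

theorem exists_central_mem {p : ℕ} [Fact p.Prime] {P N : Subgroup G} (hP : IsPGroup p P) (hNP : N ≤ P)
    (hN : N ≠ ⊥) (hn : P ≤ normalizer (N : Set G)) : ∃ z ∈ N, z ≠ 1 ∧ ∀ y ∈ P, z * y = y * z := by
  haveI := hP.isNilpotent
  haveI : (N.subgroupOf P).Normal := (normal_subgroupOf_iff_le_normalizer hNP).mpr hn
  obtain ⟨z, hz, hz1⟩ := (bot_or_exists_ne_one (N.subgroupOf P ⊓ center P)).resolve_left
    (CfsgLib.inf_center_ne_bot_of_nilpotent fun e => hN ((subgroupOf_eq_bot.mp e).eq_bot_of_le hNP))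
  exact ⟨z, hz.1, fun e => hz1 (Subtype.ext e), fun y hy =>
    (congrArg Subtype.val (mem_center_iff.mp hz.2 ⟨y, hy⟩)).symm⟩

theorem isPiNum_of_mem {p : ℕ} [Fact p.Prime] (hpπ : p ∈ π) {P : Subgroup G} (hP : IsPGroup p P) {x : G}
    (hx : x ∈ P) : IsPiNum π (orderOf x) :=
  (isPiNum_of_isPGroup hpπ hP).of_dvd (Subgroup.orderOf_dvd_natCard P hx)

theorem card_map_conj (U : Subgroup G) (g : G) : Nat.card (U.map (MulAut.conj g).toMonoidHom) = Nat.card U :=
  card_map_of_injective (MulEquiv.injective (MulAut.conj g))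

namespace Two

variable {S : Sylow 2 G} {a b : G}

/-- A `3`-subgroup of the normalizer of the four-group has its fixer of index at most three. -/
theorem card_le_three_mul (h : Two π S a b) {P : Subgroup G} (hP : IsPGroup 3 P)
    (hPN : P ≤ normalizer (four S h : Set G)) :
    Nat.card P ≤ 3 * Nat.card ↥(P ⊓ centralizer (four S h : Set G)) := by
  classical
  haveI : Fact (Nat.Prime 3) := ⟨Nat.prime_three⟩
  set W := P ⊓ centralizer (four S h : Set G)
  set D := W.subgroupOf P with hD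
  let g : P ⧸ D → {x : G // x ∈ four S h ∧ x ≠ 1} := fun q => ⟨(q.out : G) * a * (q.out : G)⁻¹,
    (mem_normalizer_iff.mp (hPN q.out.2) a).mp h.a_mem, fun e => h.ha.2.1.1 (conj_eq_one_iff.mp e)⟩
  have hg : Function.Injective g := by
    intro q q' e
    have e1 : (q.out : G) * a * (q.out : G)⁻¹ = (q'.out : G) * a * (q'.out : G)⁻¹ := congrArg Subtype.val e
    rw [← q.out_eq, ← q'.out_eq]
    refine QuotientGroup.eq.mpr (mem_subgroupOf.mpr ⟨(q.out⁻¹ * q'.out).2, ?_⟩)
    refine h.cent_of_fix (hPN (q.out⁻¹ * q'.out).2) ?_ h.a_mem h.ha.2.1.1 ?_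
    · obtain ⟨k, hk⟩ := (IsPGroup.iff_orderOf.mp hP) (q.out⁻¹ * q'.out)
      rw [Subgroup.orderOf_coe, hk]
      exact (by decide : Odd 3).pow
    · rw [Subgroup.coe_mul, Subgroup.coe_inv]
      calc (q.out : G)⁻¹ * q'.out * a = (q.out : G)⁻¹ * (q'.out * a * (q'.out : G)⁻¹) * q'.out := by group
        _ = (q.out : G)⁻¹ * (q.out * a * (q.out : G)⁻¹) * q'.out := by rw [e1]
        _ = _ := by group
  have h3 : Nat.card {x : G // x ∈ four S h ∧ x ≠ 1} ≤ 3 := by
    have e1 : Nat.card {x : four S h // x ≠ 1} = 3 := by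
      haveI := Fintype.ofFinite ↥(four S h)
      rw [Nat.card_eq_fintype_card, Fintype.card_subtype_compl, ← Nat.card_eq_fintype_card, h.card_four]
      simp
    rw [← e1]
    exact Nat.card_le_card_of_injective (fun x => ⟨⟨x.1, x.2.1⟩, fun e => x.2.2 (congrArg Subtype.val e)⟩)
      fun x y e => Subtype.ext (congrArg (fun w : {x : four S h // x ≠ 1} => (w.1 : G)) e)
  have h1 := (Nat.card_le_card_of_injective g hg).trans h3
  have e := card_mul_index D
  rw [index_eq_card, Nat.card_congr (subgroupOfEquivOfLe (inf_le_left : W ≤ P)).toEquiv] at e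
  rw [← e, mul_comm 3]
  exact Nat.mul_le_mul_left _ h1

/-- The four-group's centralizer has order prime to three. -/
theorem not_three_dvd (h : Two π S a b) : ¬ 3 ∣ Nat.card (centralizer (four S h : Set G)) := by
  classical
  haveI : Fact (Nat.Prime 3) := ⟨Nat.prime_three⟩
  intro hdvd
  have h3π := h.three_mem
  set V := four S h
  set N := normalizer (V : Set G)
  set C := centralizer (V : Set G)
  have hCN : C ≤ N := centralizer_le_normalizer _
  obtain ⟨P0⟩ : Nonempty (Sylow 3 N) := inferInstance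
  set P1 := (P0 : Subgroup N).map N.subtype
  have hP1 : IsPGroup 3 P1 := P0.2.map _
  have hP1N : P1 ≤ N := map_subtype_le _
  set W := P1 ⊓ C
  have maxN : ∀ U : Subgroup G, IsPGroup 3 U → U ≤ N → Nat.card U ≤ Nat.card P1 := fun U hU hUN => by
    obtain ⟨c, hc⟩ := exists_conj_of_sylow P0 hU hUN
    rw [← card_map_conj U (c : G)]
    exact card_le_of_le (by rintro _ ⟨x, hx, rfl⟩; exact hc x hx)
  have maxC : ∀ U : Subgroup G, IsPGroup 3 U → U ≤ C → Nat.card U ≤ Nat.card W := fun U hU hUC => by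
    obtain ⟨c, hc⟩ := exists_conj_of_sylow P0 hU (hUC.trans hCN)
    rw [← card_map_conj U (c : G)]
    exact card_le_of_le (by rintro _ ⟨x, hx, rfl⟩; exact ⟨hc x hx, h.cent_conj_le c.2 (hUC hx)⟩)
  have hW0 : W ≠ ⊥ := by
    obtain ⟨x, hx⟩ := exists_prime_orderOf_dvd_card' (G := C) 3 hdvd
    have h1 := maxC (zpowers (x : G)) (IsPGroup.of_card (n := 1) (by
      rw [Nat.card_zpowers, Subgroup.orderOf_coe, hx, pow_one])) (zpowers_le.mpr x.2)
    rw [Nat.card_zpowers, Subgroup.orderOf_coe, hx] at h1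
    intro e
    rw [e, card_bot] at h1
    omega
  have hWlt : Nat.card W < Nat.card P1 := by
    refine Nat.lt_of_not_le fun hle => ?_
    obtain ⟨y, hy, ⟨k, hk⟩, hyC⟩ := h.exists_three
    obtain ⟨c, hc⟩ := exists_conj_of_sylow P0 (IsPGroup.of_card (n := k) (G := ↥(zpowers y))
      (by rw [Nat.card_zpowers, hk])) (zpowers_le.mpr (h.sylow_normalizer_le hy))
    have h1 := h.cent_conj_le (inv_mem c.2) ((eq_of_le_of_card_ge inf_le_left hle).ge (hc y (mem_zpowers y))).2
    rw [show (c : G)⁻¹ * ((c : G) * y * (c : G)⁻¹) * (c : G)⁻¹⁻¹ = y by group] at h1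
    exact hyC h1
  have hP1W : P1 ≤ normalizer (W : Set G) := fun x hx => CfsgLib.Comp.mem_normalizer_of_maps fun y hy =>
    Subgroup.mem_inf.mpr ⟨mul_mem (mul_mem hx hy.1) (inv_mem hx), h.cent_conj_le (hP1N hx) hy.2⟩
  obtain ⟨P, hPP⟩ := hP1.exists_le_sylow
  have hPne : (P : Subgroup G) ≠ ⊥ := fun e => hW0 (le_bot_iff.mp (inf_le_left.trans (hPP.trans e.le)))
  have hcent : ∀ w ∈ C, w ≠ 1 → P1 ≤ centralizer ({w} : Set G) →
      (P : Subgroup G) ⊓ centralizer ({w} : Set G) = P1 := by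
    intro w hw hw1 hle
    set U := (P : Subgroup G) ⊓ centralizer ({w} : Set G)
    obtain ⟨r, -, hr⟩ := h.factK hw hw1 (U := U) (isPiNum_of_isPGroup h3π (P.2.to_le inf_le_left)) inf_le_right
    refine (eq_of_le_of_card_ge (le_inf hPP hle) ?_).symm
    rw [← card_map_conj U r]
    exact maxN _ ((P.2.to_le inf_le_left : IsPGroup 3 U).map _) (by rintro _ ⟨x, hx, rfl⟩; exact hr x hx)
  -- no Hall subgroup through `P` lies in a conjugate of `N`
  have hfinal : ∀ (L : Subgroup G) (g : G), (P : Subgroup G) ≤ L → (P : Subgroup G) ≤ ⁅L, L⁆ →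
      (∀ x ∈ L, g * x * g⁻¹ ∈ N) → False := by
    intro L g _ hder hg
    have hL' : L.map (MulAut.conj g).toMonoidHom ≤ N := by rintro _ ⟨x, hx, rfl⟩; exact hg x hx
    have h1 : (P : Subgroup G).map (MulAut.conj g).toMonoidHom ≤ C := by
      refine (map_mono hder).trans ?_
      rw [map_commutator]
      exact h.commutator_le_cent' hL'
    have h2 := maxC _ (P.2.map _) h1
    rw [card_map_conj] at h2
    have h3 := card_le_of_le hPP
    omega
  obtain ⟨A, L, hAP, hA0, hAc, hZA, hNA, hPNA, hL, hPL, hder⟩ := h.conf.exists_transfer (by norm_num) h3π P hPne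
  by_cases hPeq : (P : Subgroup G) = P1
  swap
  · obtain ⟨T, hT, hTN, hlt⟩ := exists_lt_normalizer P.2 (lt_of_le_of_ne hPP (Ne.symm hPeq))
    obtain ⟨g, hgT, hgP1⟩ := SetLike.not_le_iff_exists.mp hlt.not_ge
    set W' := W.map (MulAut.conj g).toMonoidHom
    have hW'P : W' ≤ P1 := by
      rintro _ ⟨x, hx, rfl⟩
      exact (mem_normalizer_iff.mp (hTN hgT) x).mp hx.1
    have hI : W ⊓ W' = ⊥ := by
      by_contra hI
      have hIn : P1 ≤ normalizer ((W ⊓ W' : Subgroup G) : Set G) := fun x hx =>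
        CfsgLib.Comp.mem_normalizer_of_maps fun y hy => by
          refine ⟨(mem_normalizer_iff.mp (hP1W hx) y).mp hy.1, ?_⟩
          obtain ⟨y0, hy0, rfl⟩ := hy.2
          have hx' : g⁻¹ * x * g ∈ P1 := by
            have := (mem_normalizer_iff.mp (inv_mem (hTN hgT)) x).mp hx
            rwa [inv_inv] at this
          exact ⟨g⁻¹ * x * g * y0 * (g⁻¹ * x * g)⁻¹, (mem_normalizer_iff.mp (hP1W hx') y0).mp hy0,
            by simp [mul_assoc]⟩
      obtain ⟨z, hz, hz1, hzc⟩ := exists_central_mem hP1 (inf_le_left.trans inf_le_left) hI hIn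
      obtain ⟨z0, hz0, hze⟩ := hz.2
      have hgW : g ∈ normalizer (W : Set G) := by
        refine inv_mem_iff.mp (CfsgLib.Comp.mem_normalizer_of_maps fun u hu => ?_)
        rw [inv_inv]
        have h1 : g⁻¹ * u * g ∈ P1 := by
          have := (mem_normalizer_iff.mp (inv_mem (hTN hgT)) u).mp hu.1
          rwa [inv_inv] at this
        refine ⟨h1, h.cent_transfer hz1 hz.1.2 ?_ (isPiNum_of_mem h3π hP1 hu.1) (hzc u hu.1).symm hu.2 (hP1N h1)⟩
        rw [← hze]
        simpa [mul_assoc] using hz0.2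
      set NW := normalizer (W : Set G)
      have hNW : NW ≠ ⊤ := h.conf.normalizer_ne_top hW0 fun e => h.normalizer_ne_top
        (top_le_iff.mp (e ▸ (inf_le_right : W ≤ C).trans hCN))
      have hVW : V ≤ NW := fun v hv => CfsgLib.Comp.mem_normalizer_of_maps fun y hy => by
        rw [mem_centralizer_iff.mp hy.2 v hv, mul_inv_cancel_right]; exact hy
      obtain ⟨L1, hL1, hVL1⟩ := h.conf.exists_hall hNW hVW h.four_piNum
      set U := P1 ⊔ zpowers g
      have hU : IsPGroup 3 U := P.2.to_le (sup_le hPP (zpowers_le.mpr (hT hgT)))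
      obtain ⟨r, -, hr⟩ := exists_piCore_conj h.conf.two h.conf.twoClosed (h.conf.closed _ hNW) hL1
        (sup_le hP1W (zpowers_le.mpr hgW)) (isPiNum_of_isPGroup h3π hU)
      have h2 := maxN (U.map (MulAut.conj r).toMonoidHom) (hU.map _) (by
        rintro _ ⟨x, hx, rfl⟩
        exact h.le_normalizer_of_pi hL1.2.1 hVL1 (hr x hx))
      rw [card_map_conj] at h2
      exact hgP1 ((eq_of_le_of_card_ge le_sup_left h2).ge (mem_sup_right (mem_zpowers g)))
    have h9 : Nat.card P1 ≤ 9 := by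
      have h1 := card_sup_mul (hW'P.trans hP1W)
      rw [hI, card_bot, mul_one, card_map_conj] at h1
      have h2 := card_le_of_le (sup_le (inf_le_left : W ≤ P1) hW'P)
      have h3 : Nat.card P1 ≤ 3 * Nat.card W := h.card_le_three_mul hP1 hP1N
      rw [h1] at h2
      have h4 : Nat.card W ≤ 3 := Nat.le_of_mul_le_mul_right (h2.trans h3) Nat.card_pos
      omega
    have hLodd : Odd (Nat.card L) := by
      refine Nat.odd_iff.mpr (Nat.two_dvd_ne_zero.mp fun he => ?_)
      obtain ⟨m, hm⟩ := h.exists_conj_le_normalizer hL.2.1 he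
      exact hfinal L m hPL hder hm
    obtain ⟨w, hw, hw1, hwc⟩ := exists_central_mem hP1 inf_le_left hW0 hP1W
    have hPw := hcent w hw.2 hw1 fun y hy => mem_cent_of_commute (hwc y hy).symm
    have hwL : w ∈ L := hPL (hPP hw.1)
    refine not_le_commutator_of_nine (L := ↥L) hLodd (P.subtype hPL) (w := ⟨w, hwL⟩)
      (fun e => hw1 (congrArg Subtype.val e)) (by rw [Sylow.coe_subtype]; exact hPP hw.1) ?_ ?_
    · refine le_trans ?_ h9
      rw [← hPw, ← card_map_of_injective (f := L.subtype) L.subtype_injective]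
      refine card_le_of_le ?_
      rintro _ ⟨x, hx, rfl⟩
      exact ⟨hx.1, mem_cent_of_commute (congrArg Subtype.val (commute_of_mem_cent hx.2))⟩
    · intro x hx
      have h1 : (x : G) ∈ (commutator L).map L.subtype := by
        rw [Subgroup.map_subtype_commutator]
        exact hder hx
      obtain ⟨y, hy, e⟩ := h1
      exact Subtype.ext e ▸ hy
  -- `P` normalizes the four-group
  have hPN : (P : Subgroup G) ≤ N := hPeq ▸ hP1N
  set U := V ⊔ (P : Subgroup G)
  have hUπ : IsPiNum π (Nat.card U) := by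
    refine (h.four_piNum.mul (isPiNum_of_isPGroup h3π P.2)).of_dvd ?_
    rw [← card_sup_mul hPN]
    exact dvd_mul_right _ _
  have hbad : ∀ (X L0 : Subgroup G), normalizer (X : Set G) ≠ ⊤ → U ≤ normalizer (X : Set G) →
      IsPiNum π (Nat.card L0) → L0 ≤ normalizer (X : Set G) → (P : Subgroup G) ≤ L0 →
      (P : Subgroup G) ≤ ⁅L0, L0⁆ → False := by
    intro X L0 hX hUX hL0 hL0X hP0 hd
    obtain ⟨L1, hL1, hUL1⟩ := h.conf.exists_hall hX hUX hUπ
    obtain ⟨r, -, hr⟩ := exists_piCore_conj h.conf.two h.conf.twoClosed (h.conf.closed _ hX) hL1 hL0X hL0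
    exact hfinal L0 r hP0 hd fun x hx => h.le_normalizer_of_pi hL1.2.1 (le_sup_left.trans hUL1) (hr x hx)
  set A0 := A ⊓ C
  have hA0W : A0 ≠ ⊥ := by
    obtain ⟨z, hz, hz1, hzc⟩ := exists_central_mem hP1 inf_le_left hW0 hP1W
    exact fun e => hz1 (mem_bot.mp (e ▸ ⟨hZA z (hPeq ▸ hz.1) (hPeq ▸ hzc), hz.2⟩))
  have hVX : ∀ X : Subgroup G, X ≤ C → V ≤ normalizer (X : Set G) := fun X hX v hv =>
    CfsgLib.Comp.mem_normalizer_of_maps fun y hy => by
      rw [mem_centralizer_iff.mp (hX hy) v hv, mul_inv_cancel_right]; exact hy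
  by_cases hAC : A ≤ C
  · exact hbad A L hNA (sup_le (hVX A hAC) hPNA) hL.2.1 hL.1 hPL hder
  by_cases he : 2 ∣ Nat.card L
  · obtain ⟨m, hm⟩ := h.exists_conj_le_normalizer hL.2.1 he
    exact hfinal L m hPL hder hm
  have hAN : A ≤ N := hAP.trans hPN
  have hPA0 : (P : Subgroup G) ≤ normalizer (A0 : Set G) := fun x hx => CfsgLib.Comp.mem_normalizer_of_maps fun y hy =>
    ⟨(mem_normalizer_iff.mp (hPNA hx) y).mp hy.1, h.cent_conj_le (hPN hx) hy.2⟩
  have hLA : ∀ l ∈ L, ∀ y ∈ A, l * y * l⁻¹ ∈ A := fun l hl y hy => (mem_normalizer_iff.mp (hL.1 hl) y).mp hy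
  -- two conjugates of `A₀` meet trivially or coincide
  have key : ∀ l ∈ L, ∀ z ∈ A0, z ≠ 1 → l⁻¹ * z * l ∈ A0 → l ∈ normalizer (A0 : Set G) := by
    intro l hl z hz hz1 hzl
    refine inv_mem_iff.mp (CfsgLib.Comp.mem_normalizer_of_maps fun u hu => ?_)
    rw [inv_inv]
    have h1 : l⁻¹ * u * l ∈ A := by
      have := hLA l⁻¹ (inv_mem hl) u hu.1
      rwa [inv_inv] at this
    exact ⟨h1, h.cent_transfer hz1 hz.2 hzl.2 (isPiNum_of_mem h3π P.2 (hAP hu.1)) (hAc u hu.1 z hz.1)
      hu.2 (hAN h1)⟩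
  have hA3 : Nat.card A ≤ 3 * Nat.card A0 := h.card_le_three_mul (P.2.to_le hAP) hAN
  have hLn : L ≤ normalizer (A0 : Set G) := by
    by_contra hLn
    obtain ⟨l, hl, hln⟩ := SetLike.not_le_iff_exists.mp hLn
    -- `|A₀| = 3` and `|A| ≤ 9`
    have hmeet : A0 ⊓ A0.map (MulAut.conj l).toMonoidHom = ⊥ := by
      by_contra hne
      obtain ⟨z, hz, hz1⟩ := (bot_or_exists_ne_one _).resolve_left hne
      obtain ⟨z0, hz0, hze⟩ := hz.2
      refine hln (key l hl z hz.1 hz1 ?_)
      rw [← hze]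
      simpa [mul_assoc] using hz0
    have h0 : A0.map (MulAut.conj l).toMonoidHom ≤ A := by
      rintro _ ⟨y, hy, rfl⟩; exact hLA l hl y hy.1
    have h1 := card_sup_mul (A := A0) (B := A0.map (MulAut.conj l).toMonoidHom) (fun x hx =>
      CfsgLib.Comp.mem_normalizer_of_maps fun y hy => by
        rw [hAc x (h0 hx) y hy.1, mul_inv_cancel_right]; exact hy)
    rw [hmeet, card_bot, mul_one, card_map_conj] at h1
    have h2 := card_le_of_le (sup_le (inf_le_left : A0 ≤ A) h0)
    rw [h1] at h2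
    have h4 : Nat.card A0 ≤ 3 := Nat.le_of_mul_le_mul_right (h2.trans hA3) Nat.card_pos
    have hA9 : Nat.card A ≤ 9 := by omega
    -- the orbit of `A₀`
    set D := (normalizer (A0 : Set G)).subgroupOf L
    have hd3 : ¬ 3 ∣ D.index := fun e => (P.subtype hPL).not_dvd_index (e.trans (index_dvd_of_le fun x hx =>
      mem_subgroupOf.mpr (hPA0 hx)))
    have hd2 : ¬ 2 ∣ D.index := fun e => he (e.trans (index_dvd_card D))
    let g : (L ⧸ D) × {z : A0 // z ≠ 1} → {y : A // y ≠ 1} := fun q =>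
      ⟨⟨(q.1.out : G) * (q.2.1 : G) * (q.1.out : G)⁻¹, hLA _ q.1.out.2 _ q.2.1.2.1⟩, fun e =>
        q.2.2 (Subtype.ext (conj_eq_one_iff.mp (congrArg Subtype.val e)))⟩
    have hg : Function.Injective g := by
      rintro ⟨q, z⟩ ⟨q', z'⟩ e
      have e1 : (q.out : G) * (z.1 : G) * (q.out : G)⁻¹ = (q'.out : G) * (z'.1 : G) * (q'.out : G)⁻¹ :=
        congrArg (fun y : {y : A // y ≠ 1} => (y.1 : G)) e
      have e2 : ((q.out⁻¹ * q'.out : L) : G)⁻¹ * (z.1 : G) * ((q.out⁻¹ * q'.out : L) : G) = (z'.1 : G) := by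
        rw [Subgroup.coe_mul, Subgroup.coe_inv]
        calc ((q.out : G)⁻¹ * q'.out)⁻¹ * z.1 * ((q.out : G)⁻¹ * q'.out)
            = (q'.out : G)⁻¹ * (q.out * z.1 * (q.out : G)⁻¹) * q'.out := by group
          _ = (q'.out : G)⁻¹ * (q'.out * z'.1 * (q'.out : G)⁻¹) * q'.out := by rw [e1]
          _ = _ := by group
      have hqq : q = q' := by
        rw [← q.out_eq, ← q'.out_eq]
        exact QuotientGroup.eq.mpr (mem_subgroupOf.mpr
          (key _ (q.out⁻¹ * q'.out).2 _ z.1.2 (fun e0 => z.2 (Subtype.ext e0)) (e2 ▸ z'.1.2)))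
      subst hqq
      exact Prod.ext rfl (Subtype.ext (Subtype.ext (mul_left_cancel (mul_right_cancel e1))))
    have h5 := Nat.card_le_card_of_injective g hg
    have hsub : ∀ X : Subgroup G, Nat.card {y : X // y ≠ 1} = Nat.card X - 1 := fun X => by
      haveI := Fintype.ofFinite ↥X
      rw [Nat.card_eq_fintype_card, Fintype.card_subtype_compl, ← Nat.card_eq_fintype_card]
      simp
    rw [Nat.card_prod, ← index_eq_card, hsub, hsub] at h5
    have hA0c : Nat.card A0 = 3 := by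
      obtain ⟨k, hk⟩ := IsPGroup.iff_card.mp (P.2.to_le (inf_le_left.trans hAP) : IsPGroup 3 A0)
      have h6 : 1 < Nat.card A0 := (one_lt_card_iff_ne_bot A0).mpr hA0W
      rcases k with _ | _ | k
      · simp [hk] at h6
      · rw [hk]; rfl
      · rw [hk, pow_succ, pow_succ] at h4
        have : 1 ≤ 3 ^ k := Nat.one_le_pow _ _ (by norm_num)
        omega
    rw [hA0c] at h5
    have hD4 : D.index ≤ 4 := by omega
    have hD0 : D.index ≠ 0 := index_ne_zero_of_finite
    have hD1 : D.index = 1 := by interval_cases D.index <;> omega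
    rw [index_eq_one, subgroupOf_eq_top] at hD1
    exact hln (hD1 hl)
  exact hbad A0 L (h.conf.normalizer_ne_top hA0W fun e => h.normalizer_ne_top
    (top_le_iff.mp (e ▸ (inf_le_right : A0 ≤ C).trans hCN))) (sup_le (hVX A0 inf_le_right) hPA0) hL.2.1 hLn hPL hder

end Two

end CfsgLib.PiClosedTwo
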