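import Cfsg.Agent.Lib.PiClosedTwo.RankTwo
import Cfsg.Agent.Lib.StrongFusion.Functors
import Cfsg.Agent.Lib.TransferApps

/-!
Transfer at odd primes of `π` in a minimal counterexample.
-/

set_option autoImplicit false
set_option linter.unusedSectionVars false
set_option linter.style.haveILetI false

namespace CfsgLib.PiClosedTwo

open Subgroup Cfsg CfsgLib.HallE8 CfsgLib.ZCReduction
open scoped commutatorElement Pointwise

universe u

variable {G : Type u} [Group G] [Finite G] {π : Set ℕ}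

/-- A `p`-subgroup of `C` is conjugate into a given Sylow subgroup of `C`. -/
theorem exists_conj_of_sylow {p : ℕ} [Fact p.Prime] {C U : Subgroup G} (P : Sylow p C) (hU : IsPGroup p U)
    (hUC : U ≤ C) : ∃ c : C, ∀ x ∈ U, (c : G) * x * (c : G)⁻¹ ∈ (P : Subgroup C).map C.subtype := by
  obtain ⟨Q, hQ⟩ := (hU.comap_of_injective C.subtype C.subtype_injective).exists_le_sylow
  obtain ⟨c, hc⟩ := MulAction.exists_smul_eq C Q P
  refine ⟨c, fun x hx => ⟨c * ⟨x, hUC hx⟩ * c⁻¹, ?_, rfl⟩⟩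
  rw [← hc, Sylow.coe_subgroup_smul]
  exact smul_mem_pointwise_smul _ (MulAut.conj c) (Q : Subgroup C) (hQ hx)

/-- Sections `Qd(p)` do not occur. -/
theorem Conf.qd_free (h : Conf π G) {p : ℕ} [hp : Fact p.Prime] (hp2 : p ≠ 2) (hpπ : p ∈ π) :
    ¬ Involves (Cfsg.qd p) G := by
  rintro ⟨K, R, hR, ⟨e⟩⟩
  let φ : K →* Cfsg.qd p := e.toMonoidHom.comp (QuotientGroup.mk' (R.subgroupOf K))
  have hφ : Function.Surjective φ := e.surjective.comp (QuotientGroup.mk'_surjective _)
  have hmem : ∀ (M : Matrix.SpecialLinearGroup (Fin 3) (ZMod p)), (M : Matrix (Fin 3) (Fin 3) (ZMod p)) 2 0 = 0 →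
      (M : Matrix (Fin 3) (Fin 3) (ZMod p)) 2 1 = 0 → (M : Matrix (Fin 3) (Fin 3) (ZMod p)) 2 2 = 1 → M ∈ Cfsg.qd p :=
    fun M h0 h1 h2 => subset_closure ⟨h0, h1, h2⟩
  let v0 : Matrix.SpecialLinearGroup (Fin 3) (ZMod p) :=
    ⟨!![1, 0, 1; 0, 1, 0; 0, 0, 1], by simp [Matrix.det_fin_three]⟩
  let i0 : Matrix.SpecialLinearGroup (Fin 3) (ZMod p) :=
    ⟨!![-1, 0, 0; 0, -1, 0; 0, 0, 1], by simp [Matrix.det_fin_three]⟩
  set v : Cfsg.qd p := ⟨v0, hmem v0 rfl rfl rfl⟩ with hv
  set i : Cfsg.qd p := ⟨i0, hmem i0 rfl rfl rfl⟩ with hi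
  have hii : i * i = 1 := Subtype.ext (Subtype.ext (by
    show (i0 * i0 : Matrix.SpecialLinearGroup (Fin 3) (ZMod p)).1 = (1 : Matrix (Fin 3) (Fin 3) (ZMod p))
    rw [Matrix.SpecialLinearGroup.coe_mul]
    ext a b
    fin_cases a <;> fin_cases b <;> simp [i0, Matrix.mul_apply, Fin.sum_univ_three]))
  have hiv : i * v * i⁻¹ = v⁻¹ := by
    rw [inv_eq_of_mul_eq_one_right hii]
    refine eq_inv_of_mul_eq_one_left (Subtype.ext (Subtype.ext ?_))
    show (i0 * v0 * i0 * v0 : Matrix.SpecialLinearGroup (Fin 3) (ZMod p)).1 = (1 : Matrix (Fin 3) (Fin 3) (ZMod p))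
    simp only [Matrix.SpecialLinearGroup.coe_mul]
    ext a b
    fin_cases a <;> fin_cases b <;> simp [i0, v0, Matrix.mul_apply, Fin.sum_univ_three]
  have hv1 : v ≠ 1 := fun e => by
    have h1 := congrArg (fun M : Cfsg.qd p => ((M : Matrix.SpecialLinearGroup (Fin 3) (ZMod p)) :
      Matrix (Fin 3) (Fin 3) (ZMod p)) 0 2) e
    simp [hv, v0] at h1
  have hvp : v ^ p = 1 := Subtype.ext (Subtype.ext (by
    have hk : ∀ k : ℕ, ((v0 ^ k : Matrix.SpecialLinearGroup (Fin 3) (ZMod p)) : Matrix (Fin 3) (Fin 3) (ZMod p)) =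
        !![1, 0, (k : ZMod p); 0, 1, 0; 0, 0, 1] := by
      intro k
      induction k with
      | zero =>
        rw [pow_zero, Matrix.SpecialLinearGroup.coe_one]
        ext a b
        fin_cases a <;> fin_cases b <;> simp
      | succ k ih =>
        rw [pow_succ, Matrix.SpecialLinearGroup.coe_mul, ih]
        ext a b
        fin_cases a <;> fin_cases b <;> simp [v0, Matrix.mul_apply, Fin.sum_univ_three, add_comm]
    show (v0 ^ p : Matrix.SpecialLinearGroup (Fin 3) (ZMod p)).1 = (1 : Matrix (Fin 3) (Fin 3) (ZMod p))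
    rw [hk, ZMod.natCast_self]
    ext a b
    fin_cases a <;> fin_cases b <;> simp))
  have hvo : orderOf v = p := orderOf_eq_prime hvp hv1
  have hodd : Odd p := hp.out.odd_of_ne_two hp2
  by_cases hK : K = ⊤
  · -- then `G` itself is such a section
    subst hK
    have hker : φ.ker = ⊥ := by
      haveI := h.simple
      haveI : (φ.ker.map (⊤ : Subgroup G).subtype).Normal := Normal.map inferInstance _ (fun g => ⟨⟨g, mem_top g⟩, rfl⟩)
      rcases h.normal_cases (φ.ker.map (⊤ : Subgroup G).subtype) with e1 | e1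
      · exact (map_eq_bot_iff_of_injective _ (subtype_injective _)).mp e1
      · exfalso
        obtain ⟨x, hx⟩ := hφ v
        obtain ⟨y, hy, e2⟩ := e1.ge (mem_top (x : G))
        exact hv1 (by rw [← hx, ← show y = x from Subtype.ext e2]; exact hy)
    obtain ⟨x, hx⟩ := hφ v
    obtain ⟨g, hg⟩ := hφ i
    have hxo : orderOf (x : G) = p := by
      rw [Subgroup.orderOf_coe, ← hvo, ← hx, orderOf_injective φ ((MonoidHom.ker_eq_bot_iff φ).mp hker)]
    have h1 : (g * x * g⁻¹ : (⊤ : Subgroup G)) = x⁻¹ := (MonoidHom.ker_eq_bot_iff φ).mp hker (by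
      rw [map_mul, map_mul, map_inv, map_inv, hx, hg, hiv])
    have h2 := h.no_real (x := (x : G)) (g := g) (hxo ▸ fun q hq hd => by
      rwa [(Nat.prime_dvd_prime_iff_eq hq hp.out).mp hd]) (hxo ▸ hodd) (congrArg Subtype.val h1)
    rw [h2, orderOf_one] at hxo
    exact hp.out.one_lt.ne hxo
  set C := (piCore π K).subgroupOf K with hC
  haveI : C.Normal := (normal_subgroupOf_iff_le_normalizer (piCore_le π K)).mpr (le_normalizer_piCore π K)
  set ψ := QuotientGroup.mk' (C ⊔ φ.ker) with hψ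
  obtain ⟨L, hL, -⟩ := h.exists_hall hK (U := ⊥) bot_le (by rw [card_bot]; exact isPiNum_one)
  have hsur : ∀ k : K, ∃ l : L, ψ ⟨l, hL.1 l.2⟩ = ψ k := by
    intro k
    obtain ⟨r, hr, l, hl, e1⟩ := exists_decomp (h.closed K hK) hL k.2
    refine ⟨⟨l, hl⟩, ?_⟩
    rw [show k = (⟨r, piCore_le π K hr⟩ : K) * ⟨l, hL.1 hl⟩ from Subtype.ext e1, map_mul,
      show ψ ⟨r, piCore_le π K hr⟩ = 1 from (QuotientGroup.eq_one_iff _).mpr (mem_sup_left hr), one_mul]
  obtain ⟨k1, hk1⟩ := hφ v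
  obtain ⟨k2, hk2⟩ := hφ i
  obtain ⟨l1, hl1⟩ := hsur k1
  obtain ⟨l2, hl2⟩ := hsur k2
  let f : L →* K ⧸ (C ⊔ φ.ker) := ψ.comp (Subgroup.inclusion hL.1)
  have hk22 : ψ k2 * ψ k2 = 1 := by
    rw [← map_mul]
    exact (QuotientGroup.eq_one_iff _).mpr (mem_sup_right (MonoidHom.mem_ker.mpr (by rw [map_mul, hk2, hii])))
  obtain ⟨w, -, hw2, hwe⟩ := exists_twoPart f l2 (isTwoEl_of_sq (show f l2 * f l2 = 1 from hl2.symm ▸ hk22))
  have hwf : f w = ψ k2 := hwe.trans hl2
  have hlf : f l1 = ψ k1 := hl1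
  have hLL : IsPiNum π (Nat.card (⊤ : Subgroup L)) := by rw [card_top]; exact hL.2.1
  have hc := (h.twoClosed.subgroup L) ⊤ hLL _ (mem_top _) _ (mem_top _) (hw2.conj l1) hw2.inv
  have hcf : f (l1 * w * l1⁻¹ * w⁻¹) = ψ (k1 * k1) := by
    rw [map_mul, map_mul, map_mul, map_inv, map_inv, hwf, hlf, ← map_inv, ← map_inv, ← map_mul, ← map_mul, ← map_mul]
    refine QuotientGroup.eq.mpr (mem_sup_right (MonoidHom.mem_ker.mpr ?_))
    rw [map_mul, map_inv, map_mul, map_mul, map_mul, map_inv, map_inv, map_mul, hk1, hk2,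
      show v * i * v⁻¹ * i⁻¹ = v * (i * v * i⁻¹)⁻¹ by group, hiv, inv_inv, inv_mul_cancel]
  obtain ⟨j, hj⟩ := hc
  have h1 : orderOf (ψ (k1 * k1)) ∣ 2 ^ j := hj ▸ hcf ▸ orderOf_map_dvd f _
  have h2 : orderOf (ψ k1) ∣ p := by
    refine orderOf_dvd_of_pow_eq_one ?_
    rw [← map_pow]
    exact (QuotientGroup.eq_one_iff _).mpr (mem_sup_right (MonoidHom.mem_ker.mpr (by rw [map_pow, hk1, hvp])))
  have h3 : ψ k1 = 1 := by
    have h4 : orderOf (ψ (k1 * k1)) ∣ p := by
      rw [map_mul]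
      exact (orderOf_dvd_of_pow_eq_one (by
        rw [← pow_two, ← pow_mul, mul_comm, pow_mul, orderOf_dvd_iff_pow_eq_one.mp h2, one_pow]))
    have h5 := Nat.eq_one_of_dvd_coprimes ((Nat.coprime_two_left.mpr hodd).pow_left j) h1 h4
    rw [orderOf_eq_one_iff, map_mul] at h5
    have h6 : orderOf (ψ k1) ∣ 2 := orderOf_dvd_of_pow_eq_one (by rw [pow_two, h5])
    exact orderOf_eq_one_iff.mp (Nat.eq_one_of_dvd_coprimes (Nat.coprime_two_left.mpr hodd) h6 h2)
  have h4 : v ∈ C.map φ := by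
    have h5 : k1 ∈ C ⊔ φ.ker := (QuotientGroup.eq_one_iff _).mp h3
    have h6 := mem_map_of_mem φ h5
    rwa [Subgroup.map_sup, (Subgroup.map_eq_bot_iff _).mpr le_rfl, sup_bot_eq, hk1] at h6
  obtain ⟨c, hc', hce⟩ := h4
  have h5 : p ∣ orderOf (c : G) := by
    rw [Subgroup.orderOf_coe, ← hvo, ← hce]
    exact orderOf_map_dvd φ c
  exact ((coEl_of_mem_piCore (h.closed K hK) (show (c : G) ∈ piCore π K from hc')) p hp.out h5) hpπ

theorem Conf.perfect_top (h : Conf π G) : commutator G = ⊤ := by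
  refine (h.normal_cases (commutator G)).resolve_left fun e => h.nonab ⟨⟨fun x y => ?_⟩⟩
  have h1 : ⁅x, y⁆ ∈ commutator G := commutator_mem_commutator (mem_top x) (mem_top y)
  rw [e, mem_bot] at h1
  exact commutatorElement_eq_one_iff_mul_comm.mp h1

/-- Transfer: a Sylow subgroup lies in the derived group of a Hall subgroup of the normalizer of an abelian
subgroup containing its centre. -/
theorem Conf.exists_transfer (h : Conf π G) {p : ℕ} [hp : Fact p.Prime] (hp2 : p ≠ 2) (hpπ : p ∈ π)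
    (P : Sylow p G) (hP : (P : Subgroup G) ≠ ⊥) :
    ∃ A L : Subgroup G, A ≤ (P : Subgroup G) ∧ A ≠ ⊥ ∧ (∀ x ∈ A, ∀ y ∈ A, x * y = y * x) ∧
      (∀ z ∈ (P : Subgroup G), (∀ x ∈ (P : Subgroup G), z * x = x * z) → z ∈ A) ∧
      normalizer (A : Set G) ≠ ⊤ ∧ (P : Subgroup G) ≤ normalizer (A : Set G) ∧
      IsPiHallOf π L (normalizer (A : Set G)) ∧ (P : Subgroup G) ≤ L ∧ (P : Subgroup G) ≤ ⁅L, L⁆ := by
  set A := CfsgLib.ZJ.zj 0 (P : Subgroup G) with hA
  have hA0 : A ≠ ⊥ := CfsgLib.ZJ.zj_ne_bot (Or.inl rfl) P.2 hP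
  have hAP : A ≤ (P : Subgroup G) := CfsgLib.ZJ.zj_le 0 _
  have hN : normalizer (A : Set G) ≠ ⊤ := h.normalizer_ne_top hA0 fun e => by
    have hcomm : ∀ x y : G, x * y = y * x := fun x y =>
      CfsgLib.ZJ.zj_comm (e.ge (mem_top x) : x ∈ A) (e.ge (mem_top y))
    exact h.nonab ⟨⟨hcomm⟩⟩
  have hPN : (P : Subgroup G) ≤ normalizer (A : Set G) :=
    le_normalizer.trans (CfsgLib.ZJ.normalizer_le_normalizer_zj 0 _)
  obtain ⟨L, hL, hPL⟩ := h.exists_hall hN hPN (isPiNum_of_isPGroup hpπ P.2)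
  have hctl : ∀ x ∈ (P : Subgroup G), ∀ g : G, g * x * g⁻¹ ∈ (P : Subgroup G) →
      ∃ n ∈ normalizer (A : Set G), n * x * n⁻¹ = g * x * g⁻¹ := by
    intro x hx g hg
    have hc := CfsgLib.StrongFusion.controlsOf_zj hp2 (h.qd_free hp2 hpπ) (Or.inl rfl) P
      (D := (P : Subgroup G)) ⟨le_rfl, fun _ _ _ hg => hg⟩ (A := {x}) (Set.singleton_subset_iff.mpr hx)
    rw [CfsgLib.StrongFusion.inducedFunctor_zjA, ← CfsgLib.ZJ.zj_zero] at hc
    obtain ⟨n, hn, e⟩ := hc.2 g (by rintro _ ⟨y, rfl, rfl⟩; exact hg)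
    exact ⟨n, hn, (e x rfl).symm⟩
  have hder : (P : Subgroup G) ≤ ⁅normalizer (A : Set G), normalizer (A : Set G)⁆ := by
    have e := CfsgLib.TransferApps.commutator_inf_sylow_eq_of_control P _ hctl hPN
    rw [h.perfect_top, top_inf_eq] at e
    exact e.le.trans inf_le_left
  refine ⟨A, L, hAP, hA0, fun x hx y hy => CfsgLib.ZJ.zj_comm hx hy, fun z hz hzc => ?_, hN, hPN, hL, hPL,
    fun x hx => ?_⟩
  · have key : ∀ B ∈ CfsgLib.ZJ.goodMax 0 (P : Subgroup G), z ∈ B := by
      intro B hB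
      have hBg := hB.2.1
      have hle : B ⊔ zpowers z ≤ (P : Subgroup G) := sup_le hB.1 (zpowers_le.mpr hz)
      have hgood : CfsgLib.ZJ.IsGood 0 (B ⊔ zpowers z) := by
        haveI : IsMulCommutative ↥(B ⊔ zpowers z) := by
          rw [← closure_eq B, ← closure_eq (zpowers z), ← Subgroup.closure_union]
          refine Subgroup.isMulCommutative_closure fun a ha b hb => ?_
          have hcz : ∀ w ∈ zpowers z, ∀ y ∈ (P : Subgroup G), w * y = y * w := fun w hw y hy => by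
            obtain ⟨j, rfl⟩ := mem_zpowers_iff.mp hw
            exact ((show Commute z y from hzc y hy).zpow_left j).eq
          rcases ha with ha | ha <;> rcases hb with hb | hb
          · exact hBg.1 a ha b hb
          · exact (hcz b hb a (hB.1 ha)).symm
          · exact hcz a ha b (hB.1 hb)
          · exact hcz a ha b (zpowers_le.mpr hz hb)
        exact (CfsgLib.ZJ.isGood_zero_iff _).mpr inferInstance
      exact (eq_of_le_of_card_ge le_sup_left (hB.2.2 _ hle hgood)).ge (mem_sup_right (mem_zpowers z))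
    obtain ⟨B, hB⟩ := CfsgLib.ZJ.goodMax_nonempty 0 (P : Subgroup G)
    exact ⟨CfsgLib.ZJ.le_thompsonJ hB (key B hB), fun w hw => (hzc w (CfsgLib.ZJ.thompsonJ_le 0 _ hw)).symm⟩
  · set N := normalizer (A : Set G)
    set C := (piCore π N).subgroupOf N
    haveI : C.Normal := (normal_subgroupOf_iff_le_normalizer (piCore_le π N)).mpr (le_normalizer_piCore π N)
    set f := QuotientGroup.mk' C
    have htop : (L.subgroupOf N).map f = (⊤ : Subgroup N).map f := by
      refine le_antisymm (map_mono le_top) ?_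
      rintro _ ⟨n, -, rfl⟩
      obtain ⟨r, hr, l, hl, e1⟩ := exists_decomp (h.closed N hN) hL n.2
      refine ⟨⟨l, hL.1 hl⟩, hl, ?_⟩
      rw [show n = (⟨r, piCore_le π N hr⟩ : N) * ⟨l, hL.1 hl⟩ from Subtype.ext e1, map_mul,
        show f ⟨r, piCore_le π N hr⟩ = 1 from (QuotientGroup.eq_one_iff _).mpr hr, one_mul]
    obtain ⟨x', hx', e'⟩ : ∃ x' ∈ (⁅(⊤ : Subgroup N), (⊤ : Subgroup N)⁆ : Subgroup N), (x' : G) = x := by
      have e1 : ⁅N, N⁆ = ((⁅(⊤ : Subgroup N), (⊤ : Subgroup N)⁆ : Subgroup N)).map N.subtype := by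
        rw [map_commutator, ← MonoidHom.range_eq_map, range_subtype]
      obtain ⟨x', hx', e'⟩ := e1.le (hder hx)
      exact ⟨x', hx', e'⟩
    have h1 : f x' ∈ (⁅L.subgroupOf N, L.subgroupOf N⁆).map f := by
      rw [map_commutator, htop, ← map_commutator]
      exact mem_map_of_mem f hx'
    obtain ⟨c, hc, hce⟩ := h1
    have hc' : (c : G) ∈ ⁅L, L⁆ := by
      have := mem_map_of_mem N.subtype hc
      rwa [map_commutator, map_subgroupOf_eq_of_le hL.1] at this
    have h2 : (c⁻¹ * x' : N) ∈ C := QuotientGroup.eq.mp hce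
    have h3 : (c : G)⁻¹ * x ∈ piCore π N := e' ▸ h2
    have h4 : (c : G)⁻¹ * x = 1 := eq_one_of_pi_of_coEl hL.2.1
      (mul_mem (inv_mem (commutator_le.mpr (fun a ha b hb => by
        rw [commutatorElement_def]; exact mul_mem (mul_mem (mul_mem ha hb) (inv_mem ha)) (inv_mem hb)) hc')) (hPL hx))
      (coEl_of_mem_piCore (h.closed N hN) h3)
    rw [inv_mul_eq_one.mp h4] at hc'
    exact hc'

namespace Two

variable {S : Sylow 2 G} {a b : G}

/-- The normalizer of the four-group induces an abelian group on it. -/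
theorem commutator_le_cent (h : Two π S a b) {x y : G} (hx : x ∈ normalizer (four S h : Set G))
    (hy : y ∈ normalizer (four S h : Set G)) : ⁅x, y⁆ ∈ centralizer (four S h : Set G) := by
  haveI : Fact (Nat.Prime 2) := ⟨Nat.prime_two⟩
  set N := normalizer (four S h : Set G)
  set f := Subgroup.normalizerMonoidHom (four S h)
  have hSk : ((S : Subgroup G)).subgroupOf N ≤ f.ker := fun s hs => by
    rw [normalizerMonoidHom_ker]
    exact mem_subgroupOf.mpr (h.sylow_le_cent hs)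
  have hodd : ¬ 2 ∣ Nat.card f.range := by
    rw [← index_ker]
    have hSN : (S : Subgroup G) ≤ N := h.sylow_le_cent.trans (centralizer_le_normalizer _)
    intro e
    exact (S.subtype hSN).not_dvd_index (e.trans (index_dvd_of_le hSk))
  have h24 : Nat.card f.range ∣ 24 := by
    have e1 : Nat.card (Equiv.Perm (four S h)) = 24 := by rw [Nat.card_perm, h.card_four]; rfl
    refine dvd_trans ?_ (dvd_of_eq e1)
    have inj : Function.Injective (MulAut.toPerm (four S h)) := fun s t e => MulEquiv.ext fun w => Equiv.ext_iff.mp e w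
    rw [← card_map_of_injective (K := f.range) inj]
    exact card_subgroup_dvd_card _
  have h3 : Nat.card f.range ∣ 3 := by
    refine Nat.Coprime.dvd_of_dvd_mul_left ?_ (show Nat.card f.range ∣ 8 * 3 from h24)
    exact ((Nat.prime_two.coprime_iff_not_dvd.mpr hodd).symm).pow_right 3
  have hcomm : ∀ s t : f.range, s * t = t * s := by
    rcases (Nat.dvd_prime Nat.prime_three).mp h3 with e | e
    · haveI := (Nat.card_eq_one_iff_unique.mp e).1
      exact fun s t => Subsingleton.elim _ _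
    · haveI : Fact (Nat.Prime 3) := ⟨Nat.prime_three⟩
      haveI := isCyclic_of_prime_card (p := 3) e
      exact fun s t => (IsCyclic.commGroup (α := f.range)).mul_comm s t
  have h1 : f ⁅(⟨x, hx⟩ : N), ⟨y, hy⟩⁆ = 1 := by
    rw [map_commutatorElement, commutatorElement_eq_one_iff_mul_comm]
    exact congrArg Subtype.val (hcomm ⟨_, ⟨x, hx⟩, rfl⟩ ⟨_, ⟨y, hy⟩, rfl⟩)
  have h2 : ⁅(⟨x, hx⟩ : N), ⟨y, hy⟩⁆ ∈ f.ker := h1
  rw [normalizerMonoidHom_ker] at h2
  exact mem_subgroupOf.mp h2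

theorem commutator_le_cent' (h : Two π S a b) {L : Subgroup G} (hL : L ≤ normalizer (four S h : Set G)) :
    ⁅L, L⁆ ≤ centralizer (four S h : Set G) :=
  commutator_le.mpr fun _ hx _ hy => h.commutator_le_cent (hL hx) (hL hy)

theorem cent_conj_le (h : Two π S a b) {n : G} (hn : n ∈ normalizer (four S h : Set G)) {x : G}
    (hx : x ∈ centralizer (four S h : Set G)) : n * x * n⁻¹ ∈ centralizer (four S h : Set G) := by
  refine mem_centralizer_iff.mpr fun v hv => ?_
  have h1 := (mem_normalizer_iff.mp (inv_mem hn) v).mp hv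
  rw [inv_inv] at h1
  have := conj_commute n (mem_centralizer_iff.mp hx _ h1)
  rwa [show n * (n⁻¹ * v * n) * n⁻¹ = v by group] at this

/-- Centralizing `π`-subgroups of elements of `C(V)` are conjugate into `N(V)`. -/
theorem factK (h : Two π S a b) {w : G} (hw : w ∈ centralizer (four S h : Set G)) (hw1 : w ≠ 1) {U : Subgroup G}
    (hU : IsPiNum π (Nat.card U)) (hUw : U ≤ centralizer ({w} : Set G)) :
    ∃ r : G, r * w = w * r ∧ ∀ x ∈ U, r * x * r⁻¹ ∈ normalizer (four S h : Set G) := by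
  have hC := h.conf.cent_ne_top hw1
  have hVC : four S h ≤ centralizer ({w} : Set G) := fun v hv =>
    mem_cent_of_commute (mem_centralizer_iff.mp hw v hv)
  obtain ⟨L, hL, hVL⟩ := h.conf.exists_hall hC hVC h.four_piNum
  obtain ⟨r, hr, hrU⟩ := exists_piCore_conj h.conf.two h.conf.twoClosed (h.conf.closed _ hC) hL hUw hU
  exact ⟨r, commute_of_mem_cent (piCore_le π _ hr), fun x hx => h.le_normalizer_of_pi hL.2.1 hVL (hrU x hx)⟩

/-- If `z` centralizes two conjugates of the four-group, a `π`-element centralizing `z` and the first and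
normalizing the second centralizes the second. -/
theorem cent_transfer (h : Two π S a b) {z g u : G} (hz1 : z ≠ 1) (hz : z ∈ centralizer (four S h : Set G))
    (hzg : g⁻¹ * z * g ∈ centralizer (four S h : Set G)) (hu : IsPiNum π (orderOf u)) (huz : u * z = z * u)
    (huV : u ∈ centralizer (four S h : Set G)) (hug : g⁻¹ * u * g ∈ normalizer (four S h : Set G)) :
    g⁻¹ * u * g ∈ centralizer (four S h : Set G) := by
  set V := four S h
  set C := centralizer ({z} : Set G) with hC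
  have hCne := h.conf.cent_ne_top hz1
  have hVC : V ≤ C := fun v hv => mem_cent_of_commute (mem_centralizer_iff.mp hz v hv)
  set U := V ⊔ zpowers u
  have hun : zpowers u ≤ normalizer (V : Set G) := zpowers_le.mpr (centralizer_le_normalizer _ huV)
  have hUπ : IsPiNum π (Nat.card U) := by
    refine (h.four_piNum.mul hu).of_dvd ?_
    rw [← Nat.card_zpowers u, ← card_sup_mul hun]
    exact dvd_mul_right _ _
  have hUC : U ≤ C := sup_le hVC (zpowers_le.mpr (mem_cent_of_commute huz))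
  obtain ⟨L, hL, hUL⟩ := h.conf.exists_hall hCne hUC hUπ
  set V' := V.map (MulAut.conj g).toMonoidHom with hV'
  have hV'C : V' ≤ C := by
    rintro _ ⟨v, hv, rfl⟩
    have := conj_commute g (mem_centralizer_iff.mp hzg v hv)
    rw [show g * (g⁻¹ * z * g) * g⁻¹ = z by group] at this
    exact mem_cent_of_commute this
  obtain ⟨r, hr, hrV⟩ := exists_piCore_conj h.conf.two h.conf.twoClosed (h.conf.closed C hCne) hL hV'C (by
    rw [hV', card_map_of_injective (MulEquiv.injective (MulAut.conj g))]; exact h.four_piNum)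
  have hVL : V ≤ L := le_sup_left.trans hUL
  have hrg : r * g ∈ normalizer (V : Set G) := h.conj_mem_normalizer hL.2.1 hVL fun v hv => by
    rw [show r * g * v * (r * g)⁻¹ = r * (g * v * g⁻¹) * r⁻¹ by group]
    exact hrV _ (mem_map_of_mem (MulAut.conj g).toMonoidHom hv)
  refine mem_centralizer_iff.mpr fun v hv => ?_
  set w := g⁻¹ * u * g * v * (g⁻¹ * u * g)⁻¹ with hw
  have hwV : w ∈ V := (mem_normalizer_iff.mp hug v).mp hv
  have huC : u ∈ C := mem_cent_of_commute huz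
  -- `u' = r u r⁻¹` differs from `u` by the `π'`-part, and `u` fixes `V`
  have h1 : u⁻¹ * (r * u * r⁻¹) ∈ piCore π C := by
    rw [show u⁻¹ * (r * u * r⁻¹) = (u⁻¹ * r * u⁻¹⁻¹) * r⁻¹ by group]
    exact mul_mem ((mem_normalizer_iff.mp (le_normalizer_piCore π C (inv_mem huC)) r).mp hr) (inv_mem hr)
  set n := r * g with hn
  set x := n * v * n⁻¹ with hx
  have hxV : x ∈ V := (mem_normalizer_iff.mp hrg v).mp hv
  set y := r * u * r⁻¹ * x * (r * u * r⁻¹)⁻¹ with hy
  have hyw : y = n * w * n⁻¹ := by rw [hy, hx, hw, hn]; group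
  have hyV : y ∈ V := hyw ▸ (mem_normalizer_iff.mp hrg w).mp hwV
  have hux : u * x * u⁻¹ = x := by rw [← mem_centralizer_iff.mp huV x hxV, mul_inv_cancel_right]
  set e := u⁻¹ * (r * u * r⁻¹) with he
  have h2 : e * x * e⁻¹ = u⁻¹ * y * u := by rw [hy, he]; group
  have h3 : u⁻¹ * y * u = y := by
    rw [mul_assoc, mem_centralizer_iff.mp huV y hyV, inv_mul_cancel_left]
  have h4 : y * x⁻¹ ∈ piCore π C := by
    rw [← h3, ← h2, show e * x * e⁻¹ * x⁻¹ = e * (x * e⁻¹ * x⁻¹) by group]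
    exact mul_mem h1 ((mem_normalizer_iff.mp (le_normalizer_piCore π C (hVC hxV)) _).mp (inv_mem h1))
  have h5 : y * x⁻¹ = 1 := eq_one_of_pi_of_coEl h.four_piNum (mul_mem hyV (inv_mem hxV))
    (coEl_of_mem_piCore (h.conf.closed C hCne) h4)
  have h6 : w = v := mul_left_cancel (mul_right_cancel ((hyw.symm.trans (mul_inv_eq_one.mp h5)).trans hx))
  exact (mul_inv_eq_iff_eq_mul.mp h6).symm

/-- At a prime other than three, elements of the centralizer of the four-group are in the derived group. -/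
theorem mem_commutator (h : Two π S a b) {p : ℕ} [hp : Fact p.Prime] (hp2 : p ≠ 2) (hp3 : p ≠ 3) (hpπ : p ∈ π)
    {L0 : Subgroup G} (hL0 : IsPiHallOf π L0 (normalizer (four S h : Set G))) {x : G}
    (hx : x ∈ centralizer (four S h : Set G)) (hxp : ∃ k : ℕ, orderOf x = p ^ k) :
    ∃ n ∈ normalizer (four S h : Set G), n * x * n⁻¹ ∈ ⁅L0, L0⁆ := by
  set V := four S h
  set C := centralizer (V : Set G)
  obtain ⟨k, hk⟩ := hxp
  by_cases hx1 : x = 1
  · exact ⟨1, one_mem _, by rw [hx1]; simp⟩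
  have hk0 : k ≠ 0 := fun e => hx1 (orderOf_eq_one_iff.mp (by rw [hk, e, pow_zero]))
  obtain ⟨P0, hxP0⟩ := (IsPGroup.of_card (n := k) (G := zpowers (⟨x, hx⟩ : C))
    (by rw [Nat.card_zpowers, orderOf_mk, hk])).exists_le_sylow
  set P0' := (P0 : Subgroup C).map C.subtype with hP0'
  have hP0C : P0' ≤ C := map_subtype_le _
  obtain ⟨P, hPP⟩ := (P0.2.map C.subtype).exists_le_sylow
  have hxP : x ∈ P0' := ⟨⟨x, hx⟩, hxP0 (mem_zpowers _), rfl⟩
  have hp3' : ∀ (w : G), w ∈ normalizer (V : Set G) → ∀ k, orderOf w = p ^ k → w ∈ C := fun w hw j hj =>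
    CfsgLib.HallNumbers.cent_of_four h.card_four hw (j := orderOf w)
      (hj ▸ (hp.out.odd_of_ne_two hp2).pow) (by rw [pow_orderOf_eq_one]; exact one_mem _)
      (fun hd => hp3 ((Nat.prime_dvd_prime_iff_eq Nat.prime_three hp.out).mp
        (Nat.prime_three.dvd_of_dvd_pow (hj ▸ hd))).symm)
  -- centralizers in `P` of elements of `P₀`
  have key : ∀ w ∈ P0', w ≠ 1 → P0' ≤ centralizer ({w} : Set G) →
      (P : Subgroup G) ⊓ centralizer ({w} : Set G) = P0' := by
    intro w hw hw1 hwc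
    set U := (P : Subgroup G) ⊓ centralizer ({w} : Set G)
    obtain ⟨r, -, hrU⟩ := h.factK (hP0C hw) hw1 (isPiNum_of_isPGroup hpπ (P.2.to_le inf_le_left) : IsPiNum π (Nat.card U))
      inf_le_right
    set U' := U.map (MulAut.conj r).toMonoidHom
    have hU' : U' ≤ C := by
      rintro _ ⟨y, hy, rfl⟩
      obtain ⟨j, hj⟩ := (IsPGroup.iff_orderOf.mp P.2) ⟨y, hy.1⟩
      rw [Subgroup.orderOf_mk] at hj
      exact hp3' _ (hrU y hy) j ((orderOf_injective (MulAut.conj r).toMonoidHom (MulEquiv.injective _) y).trans hj)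
    obtain ⟨Q, hQ⟩ := ((P.2.to_le inf_le_left : IsPGroup p U).map (MulAut.conj r).toMonoidHom).comap_of_injective
      C.subtype C.subtype_injective |>.exists_le_sylow
    refine (eq_of_le_of_card_ge (le_inf hPP hwc) ?_).symm
    rw [card_map_of_injective C.subtype_injective, P0.card_eq_multiplicity, ← Q.card_eq_multiplicity]
    refine le_trans (le_of_eq ?_) (card_le_of_le hQ)
    show Nat.card U = Nat.card (U'.subgroupOf C)
    rw [Nat.card_congr (subgroupOfEquivOfLe hU').toEquiv, card_map_of_injective (MulEquiv.injective (MulAut.conj r))]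
  haveI : Nontrivial P0' := (Subgroup.nontrivial_iff_ne_bot _).mpr fun e => hx1 (mem_bot.mp (e ▸ hxP))
  haveI := (P0.2.map C.subtype : IsPGroup p P0').center_nontrivial
  obtain ⟨⟨⟨w, hw⟩, hwc⟩, hw1⟩ := exists_ne (1 : center P0')
  have hwP : P0' ≤ centralizer ({w} : Set G) := fun y hy =>
    mem_cent_of_commute (congrArg Subtype.val (mem_center_iff.mp hwc ⟨y, hy⟩))
  have hPc := key w hw (fun e => hw1 (Subtype.ext (Subtype.ext e))) hwP
  have hPne : (P : Subgroup G) ≠ ⊥ := fun e => hx1 (mem_bot.mp (e ▸ hPP hxP))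
  haveI : Nontrivial (P : Subgroup G) := (Subgroup.nontrivial_iff_ne_bot _).mpr hPne
  haveI := P.2.center_nontrivial
  obtain ⟨⟨⟨z, hz⟩, hzc⟩, hz1⟩ := exists_ne (1 : center (P : Subgroup G))
  have hzall : ∀ y ∈ (P : Subgroup G), z * y = y * z := fun y hy =>
    (congrArg Subtype.val (mem_center_iff.mp hzc ⟨y, hy⟩)).symm
  have hzP0 : z ∈ P0' := hPc.le ⟨hz, mem_cent_of_commute (hzall w (hPP hw))⟩
  have hPP0 : (P : Subgroup G) = P0' := by
    rw [← key z hzP0 (fun e => hz1 (Subtype.ext (Subtype.ext e))) fun y hy => mem_cent_of_commute (hzall y (hPP hy)).symm]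
    exact le_antisymm (le_inf le_rfl fun y hy => mem_cent_of_commute (hzall y hy).symm) inf_le_left
  obtain ⟨A, L, hAP, -, -, -, hN, hPN, hL, hPL, hder⟩ := h.conf.exists_transfer hp2 hpπ P hPne
  have hPC : (P : Subgroup G) ≤ C := hPP0 ▸ hP0C
  have hVN : V ≤ normalizer (A : Set G) := fun v hv => CfsgLib.Comp.mem_normalizer_of_maps fun y hy => by
    rw [mem_centralizer_iff.mp (hPC (hAP hy)) v hv, mul_inv_cancel_right]; exact hy
  obtain ⟨r, -, hrV⟩ := exists_piCore_conj h.conf.two h.conf.twoClosed (h.conf.closed _ hN) hL hVN h.four_piNum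
  set L1 := L.map (MulAut.conj r⁻¹).toMonoidHom
  have hL1 : IsPiNum π (Nat.card L1) := by
    rw [card_map_of_injective (MulEquiv.injective (MulAut.conj r⁻¹))]; exact hL.2.1
  have hVL1 : V ≤ L1 := fun v hv => ⟨r * v * r⁻¹, hrV v hv, by simp [mul_assoc]⟩
  have hL1N : L1 ≤ normalizer (V : Set G) := h.le_normalizer_of_pi hL1 hVL1
  have hP1 : (P : Subgroup G).map (MulAut.conj r⁻¹).toMonoidHom ≤ ⁅L1, L1⁆ := by
    rw [← map_commutator]; exact map_mono hder
  obtain ⟨c, hc⟩ := exists_conj_of_sylow P0 ((P.2.map (MulAut.conj r⁻¹).toMonoidHom))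
    (hP1.trans (h.commutator_le_cent' hL1N))
  have hxc : (c : G) * (r⁻¹ * x * r) * (c : G)⁻¹ ∈ P0' := hc _ ⟨x, hPP hxP, by simp⟩
  set L2 := L1.map (MulAut.conj (c : G)).toMonoidHom
  have hcN : (c : G) ∈ normalizer (V : Set G) := centralizer_le_normalizer _ c.2
  have hP2 : (P : Subgroup G) ≤ ⁅L2, L2⁆ := by
    rw [← map_commutator]
    refine (eq_of_le_of_card_ge ?_ (le_of_eq ?_)).ge.trans (map_mono hP1)
    · rintro _ ⟨y, hy, rfl⟩
      exact hPP0.ge (hc y hy)
    · rw [card_map_of_injective (MulEquiv.injective (MulAut.conj (c : G))),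
        card_map_of_injective (MulEquiv.injective (MulAut.conj r⁻¹))]
  obtain ⟨g, hg, hgL⟩ := CfsgLib.pi_le_conj_hall (h.conf.solvable h.normalizer_ne_top) hL0 (U := L2)
    (by rintro _ ⟨y, hy, rfl⟩; exact mul_mem (mul_mem hcN (hL1N hy)) (inv_mem hcN))
    (by rw [card_map_of_injective (MulEquiv.injective (MulAut.conj (c : G)))]; exact hL1)
  refine ⟨g, hg, ?_⟩
  have h1 : (⁅L2, L2⁆).map (MulAut.conj g).toMonoidHom ≤ ⁅L0, L0⁆ := by
    rw [map_commutator]
    exact commutator_mono (fun y hy => hgL (by simpa [Subgroup.pointwise_smul_def] using hy))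
      (fun y hy => hgL (by simpa [Subgroup.pointwise_smul_def] using hy))
  exact h1 (mem_map_of_mem (MulAut.conj g).toMonoidHom (hP2 (hPP hxP)))

end Two

end CfsgLib.PiClosedTwo
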